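import Cfsg.Agent.Lib.OrthMax.Basic

/-! From the Siegel group to `omegaGL`. -/

set_option autoImplicit false

namespace CfsgLib.OrthMax

open QuadraticMap CfsgLib.Geometry

variable {F : Type*} [Field F] [Finite F]

theorem mem_commutator_iff_siegelGroup {V : Type*} [AddCommGroup V] [Module F V]
    [FiniteDimensional F V] {Q : QuadraticForm F V} (hQ : (polarBilin Q).Nondegenerate)
    (hn : 5 ≤ Module.finrank F V) (g : orth Q) :
    g ∈ commutator (orth Q) ↔ (g : V ≃ₗ[F] V) ∈ siegelGroup Q := by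
  rw [commutator_eq_siegel hQ (by omega) (splitSingular_of hQ (Or.inl (by omega)))
    (reflGroup_eq_orth hQ (Or.inl (by omega)))]
  exact Subgroup.mem_subgroupOf

variable {ι : Type} [Fintype ι] [DecidableEq ι]

theorem isMaximalIn_of_siegel {Q : QuadraticForm F (ι → F)} (hQ : (polarBilin Q).Nondegenerate)
    (hn : 5 ≤ Fintype.card ι) {W : Submodule F (ι → F)} (h0 : W ≠ ⊥) (h1 : W ≠ ⊤)
    (hmax : ∀ M : Subgroup ((ι → F) ≃ₗ[F] (ι → F)), M ≤ siegelGroup Q →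
      (∀ g ∈ siegelGroup Q, (∀ w ∈ W, g w ∈ W) → g ∈ M) → (∃ g ∈ M, ∃ u ∈ W, g u ∉ W) →
      siegelGroup Q ≤ M) :
    Cfsg.Geo.IsMaximalIn (Cfsg.Geo.omegaGL ⇑Q)
      (Cfsg.Geo.subspaceStabilizer W ⊓ Cfsg.Geo.omegaGL ⇑Q) := by
  have hn' : 5 ≤ Module.finrank F (ι → F) := by simpa using hn
  have hC := fun g => mem_commutator_iff_siegelGroup hQ hn' (Q := Q) g
  refine ⟨lt_of_le_of_ne inf_le_right fun h => ?_, fun M hHM hMK => ?_⟩
  · obtain ⟨g, hg, x, hx, hgx⟩ := exists_siegel_notMem hQ hn' W h0 h1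
    have hm : orthToGL Q ⟨g, siegelGroup_le_orth hg⟩ ∈ Cfsg.Geo.omegaGL ⇑Q := by
      rw [omegaGL_eq_map]; exact Subgroup.mem_map_of_mem _ ((hC _).2 hg)
    rw [← h, stab_omegaGL_eq_map] at hm
    obtain ⟨y, hy, hye⟩ := hm
    rw [orthToGL_injective Q hye] at hy
    exact hgx ((hy.1 x).1 hx)
  · set N := (M.comap (orthToGL Q) ⊓ commutator (orth Q)).map (orth Q).subtype
    have hNle : N ≤ siegelGroup Q := by
      rintro _ ⟨g, hg, rfl⟩; exact (hC g).1 hg.2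
    have hstab : ∀ g ∈ siegelGroup Q, (∀ w ∈ W, g w ∈ W) → g ∈ N := fun g hg hgW => by
      refine ⟨⟨g, siegelGroup_le_orth hg⟩, ⟨hHM ?_, (hC _).2 hg⟩, rfl⟩
      rw [stab_omegaGL_eq_map]
      exact Subgroup.mem_map_of_mem _ ⟨mem_orthStab_of_map_le hgW, (hC _).2 hg⟩
    by_cases hmv : ∃ g ∈ N, ∃ u ∈ W, g u ∉ W
    · refine Or.inr (le_antisymm hMK ?_)
      rw [omegaGL_eq_map]
      rintro _ ⟨g, hg, rfl⟩
      obtain ⟨g', hg', he⟩ := hmax N hNle hstab hmv ((hC g).1 hg)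
      rw [← Subtype.ext he]
      exact hg'.1
    · push Not at hmv
      refine Or.inl (le_antisymm (fun m hm => ?_) hHM)
      have hm' := hMK hm
      rw [omegaGL_eq_map] at hm'
      obtain ⟨g, hg, rfl⟩ := hm'
      rw [stab_omegaGL_eq_map]
      exact Subgroup.mem_map_of_mem _
        ⟨mem_orthStab_of_map_le (hmv _ ⟨g, ⟨hm, hg⟩, rfl⟩), hg⟩

end CfsgLib.OrthMax
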