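import Cfsg.Agent.Lib.OrthMax.Irred
import Cfsg.Agent.Lib.OrthMax.Bridge

/-! Stabilisers of non-degenerate subspaces are maximal in `Ω(Q)`. -/

set_option autoImplicit false

namespace CfsgLib.OrthMax

open QuadraticMap CfsgLib.Geometry

variable {F V : Type*} [Field F] [AddCommGroup V] [Module F V] [FiniteDimensional F V]
variable (Q : QuadraticForm F V)

/-- `M` contains the Siegel element of `e` and `w`. -/
def SiegIn (M : Subgroup (V ≃ₗ[F] V)) (e w : V) : Prop :=
  ∀ (he : Q e = 0) (hw : polar Q e w = 0), siegel Q e w he hw ∈ M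

/-- The isometries fixing a subspace pointwise. -/
def fixOn (T : Submodule F V) : Subgroup (orth Q) where
  carrier := {g | ∀ t ∈ T, (g : V ≃ₗ[F] V) t = t}
  one_mem' _ _ := rfl
  mul_mem' {a b} ha hb t ht := by
    show (a : V ≃ₗ[F] V) ((b : V ≃ₗ[F] V) t) = t
    rw [hb t ht, ha t ht]
  inv_mem' {a} ha t ht := by
    show (a : V ≃ₗ[F] V).symm t = t
    rw [LinearEquiv.symm_apply_eq, ha t ht]

variable {Q} {M : Subgroup (V ≃ₗ[F] V)}

theorem SiegIn.add {e w₁ w₂ : V} (h1 : SiegIn Q M e w₁) (h2 : SiegIn Q M e w₂) (he : Q e = 0)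
    (hw₁ : polar Q e w₁ = 0) (hw₂ : polar Q e w₂ = 0) : SiegIn Q M e (w₁ + w₂) := fun _ _ => by
  rw [← siegel_mul e w₁ w₂ he hw₁ hw₂]
  exact mul_mem (h1 he hw₁) (h2 he hw₂)

theorem SiegIn.conj {e w : V} (h : SiegIn Q M e w) {g : V ≃ₗ[F] V} (hg : g ∈ M) (hgo : g ∈ orth Q) :
    SiegIn Q M (g e) (g w) := fun hge hgw => by
  have he : Q e = 0 := by rw [← mem_orth.1 hgo e]; exact hge
  have hw : polar Q e w = 0 := by rw [← orth_polar hgo]; exact hgw
  have := mul_mem (mul_mem hg (h he hw)) (inv_mem hg)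
  rwa [siegel_conj hgo] at this

theorem sup_polarPerp_eq_top (hQ : (polarBilin Q).Nondegenerate) {U : Submodule F V}
    (hU : U ⊓ polarPerp Q U = ⊥) : U ⊔ polarPerp Q U = ⊤ := by
  refine Submodule.eq_top_of_finrank_eq ?_
  have h1 := Submodule.finrank_sup_add_finrank_inf_eq U (polarPerp Q U)
  have h2 := finrank_polarPerp hQ U
  rw [hU, finrank_bot] at h1
  omega

/-- An isometry fixing the orthogonal of `U` as a set fixes `U`. -/
theorem maps_of_maps_perp (hQ : (polarBilin Q).Nondegenerate) {U : Submodule F V} {g : V ≃ₗ[F] V}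
    (hg : g ∈ orth Q) (h : ∀ w ∈ polarPerp Q U, g w ∈ polarPerp Q U) : ∀ u ∈ U, g u ∈ U := by
  intro u hu
  have hmap : (polarPerp Q U).map g.toLinearMap = polarPerp Q U := by
    refine Submodule.eq_of_le_of_finrank_le ?_ (LinearEquiv.finrank_map_eq g _).ge
    rintro _ ⟨w, hw, rfl⟩; exact h w hw
  rw [← polarPerp_polarPerp hQ U]
  refine mem_polarPerp.2 fun w hw => ?_
  rw [← hmap] at hw
  obtain ⟨w', hw', rfl⟩ := hw
  show polar Q (g w') (g u) = 0
  rw [orth_polar hg, polar_comm]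
  exact mem_polarPerp.1 hw' u hu

theorem siegel_maps {U : Submodule F V} {e w : V} (he : e ∈ U) (hw : w ∈ U) (h1 : Q e = 0)
    (h2 : polar Q e w = 0) : ∀ x ∈ U, siegel Q e w h1 h2 x ∈ U := fun x hx => by
  rw [siegel_apply]
  exact U.sub_mem (U.sub_mem (U.add_mem hx (U.smul_mem _ hw)) (U.smul_mem _ he)) (U.smul_mem _ he)

variable [Finite F] {U : Submodule F V}

theorem full_of_moved (hQ : (polarBilin Q).Nondegenerate) (hn : 5 ≤ Module.finrank F V)
    (hU : U ⊓ polarPerp Q U = ⊥) (hdim : 4 ≤ Module.finrank F U)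
    (hexc : ¬ (Nat.card F ≤ 3 ∧ Module.finrank F (polarPerp Q U) = 2 ∧
      ∃ z ∈ polarPerp Q U, z ≠ 0 ∧ Q z = 0))
    (hst : ∀ g ∈ siegelGroup Q, (∀ u ∈ U, g u ∈ U) → g ∈ M) {e f : V} (heU : e ∈ U) (hfU : f ∈ U)
    (he : Q e = 0) (hf : Q f = 0) (hef : polar Q e f = 1) {y : V} (hyU : y ∉ U)
    (hey : polar Q e y = 0) (hy : SiegIn Q M e y) : Full Q M e := by
  set W := polarPerp Q U
  have hR : reflGroup Q = orth Q := reflGroup_eq_orth hQ (Or.inl (by omega))
  have hUin : ∀ w ∈ U, SiegIn Q M e w := fun w hw h1 h2 =>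
    hst _ (siegel_mem e w h1 h2) (siegel_maps heU hw h1 h2)
  have hWe : ∀ w ∈ W, polar Q e w = 0 := fun w hw => mem_polarPerp.1 hw e heU
  have hWf : ∀ w ∈ W, polar Q f w = 0 := fun w hw => mem_polarPerp.1 hw f hfU
  set T := W ⊔ Submodule.span F ({e, f} : Set V)
  have hT : T ⊓ polarPerp Q T = ⊥ := by
    rw [eq_bot_iff]
    rintro t ⟨ht, ht'⟩
    obtain ⟨w, hw, s, hs, rfl⟩ := Submodule.mem_sup.1 ht
    obtain ⟨a, b, rfl⟩ := Submodule.mem_span_pair.1 hs
    have e1 := mem_polarPerp.1 ht' e (Submodule.mem_sup_right (Submodule.subset_span (by simp)))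
    have e2 := mem_polarPerp.1 ht' f (Submodule.mem_sup_right (Submodule.subset_span (by simp)))
    simp only [polar_add_right, polar_smul_right', polar_self', he, hf, hef, polar_comm Q f e,
      hWe w hw, hWf w hw, mul_zero, mul_one, zero_add, add_zero] at e1 e2
    subst e1 e2
    simp only [zero_smul, add_zero] at ht' ⊢
    refine (inf_polarPerp_perp hQ hU).le ⟨hw, mem_polarPerp.2 fun x hx => ?_⟩
    exact mem_polarPerp.1 ht' x (Submodule.mem_sup_left hx)
  set Y := polarPerp Q T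
  have hYdim : 2 ≤ Module.finrank F Y := by
    have h1 : Module.finrank F Y + Module.finrank F T = _ := finrank_polarPerp hQ T
    have h2 : Module.finrank F W + Module.finrank F U = _ := finrank_polarPerp hQ U
    have h3 : Module.finrank F T + Module.finrank F ↥(W ⊓ Submodule.span F ({e, f} : Set V)) = _ :=
      Submodule.finrank_sup_add_finrank_inf_eq W (Submodule.span F ({e, f} : Set V))
    have h4 := finrank_pair_le (F := F) e f
    omega
  have hfull : (fixOn Q T).map (orthInvariant hQ hR) = ⊤ :=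
    map_eq_top_of_refls hQ hR (inf_polarPerp_perp hQ hT) hYdim _ fun a ha ha0 t ht =>
      refl_eq_self Q a ha0 (mem_polarPerp.1 ha t ht)
  -- compensation of an isometry fixing the pair up to scalars
  have comp : ∀ φ : orth Q, ∀ d : F, (φ : V ≃ₗ[F] V) e = d • e →
      (∀ w ∈ W, (φ : V ≃ₗ[F] V) w ∈ W) → ∀ w ∈ W, SiegIn Q M e w →
      SiegIn Q M (d • e) ((φ : V ≃ₗ[F] V) w) := by
    intro φ d hφe hφW w hw hin
    obtain ⟨h, hh, hhφ⟩ := exists_mul_mem_commutator hQ hR _ hfull φ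
    have hWfix : ∀ v ∈ W, (h : V ≃ₗ[F] V) v = v := fun v hv => hh v (Submodule.mem_sup_left hv)
    have hkS := (mem_commutator_iff_siegelGroup hQ hn _).1 hhφ
    have hkW : ∀ v ∈ W, ((h * φ : orth Q) : V ≃ₗ[F] V) v = (φ : V ≃ₗ[F] V) v := fun v hv =>
      hWfix _ (hφW v hv)
    have hkM : ((h * φ : orth Q) : V ≃ₗ[F] V) ∈ M := hst _ hkS
      (maps_of_maps_perp hQ (h * φ).2 fun v hv => by rw [hkW v hv]; exact hφW v hv)
    have hke : ((h * φ : orth Q) : V ≃ₗ[F] V) e = d • e := by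
      show (h : V ≃ₗ[F] V) ((φ : V ≃ₗ[F] V) e) = d • e
      rw [hφe, map_smul, hh e (Submodule.mem_sup_right (Submodule.subset_span (by simp)))]
    have := hin.conj hkM (h * φ).2
    rwa [hke, hkW w hw] at this
  let X : Submodule F V :=
    { carrier := {w | w ∈ W ∧ SiegIn Q M e w}
      zero_mem' := ⟨W.zero_mem, hUin 0 U.zero_mem⟩
      add_mem' := fun {a b} ha hb => ⟨W.add_mem ha.1 hb.1,
        ha.2.add hb.2 he (hWe a ha.1) (hWe b hb.1)⟩
      smul_mem' := fun c w hw => ⟨W.smul_mem c hw.1, by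
        by_cases hc : c = 0
        · rw [hc, zero_smul]; exact hUin 0 U.zero_mem
        obtain ⟨g, -, hg⟩ := exists_pair_scale hQ hR he hf hef hc
        have hgW : ∀ v ∈ W, (g : V ≃ₗ[F] V) v = v := fun v hv => by
          rw [hg, polar_comm Q v f, polar_comm Q v e, hWe v hv, hWf v hv]; simp
        have hge : (g : V ≃ₗ[F] V) e = c • e := by
          rw [hg, hef, polar_self', he]; module
        have h := comp g c hge (fun v hv => by rw [hgW v hv]; exact hv) w hw.1 hw.2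
        rw [hgW w hw.1] at h
        intro h1 h2
        rw [← siegel_smul_left e w c h1 (by rw [CfsgLib.Geometry.map_smul', he, mul_zero])
          (by rw [polar_smul_left', hWe w hw.1, mul_zero]) h2]
        exact h _ _⟩ }
  have hXinv : ∀ φ : orth Q, (φ : V ≃ₗ[F] V) e = e → (∀ w ∈ W, (φ : V ≃ₗ[F] V) w ∈ W) →
      ∀ x ∈ X, (φ : V ≃ₗ[F] V) x ∈ X := fun φ hφe hφW x hx => by
    have h := comp φ 1 (by rw [hφe, one_smul]) hφW x hx.1 hx.2
    rw [one_smul] at h
    exact ⟨hφW x hx.1, h⟩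
  obtain ⟨a, ha, b, hb, hab⟩ := Submodule.mem_sup.1
    (sup_polarPerp_eq_top hQ hU ▸ Submodule.mem_top : y ∈ U ⊔ W)
  have hea : polar Q e a = 0 := by
    rw [← hab, polar_add_right, hWe b hb, add_zero] at hey; exact hey
  have hbX : b ∈ X := ⟨hb, by
    have h := (hUin (-a) (U.neg_mem ha)).add hy he (by rw [polar_neg_right, hea, neg_zero]) hey
    rwa [show -a + y = b by rw [← hab]; abel] at h⟩
  have hX0 : X ≠ ⊥ := fun h => by
    rw [h, Submodule.mem_bot] at hbX
    rw [hbX, add_zero] at hab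
    exact hyU (hab ▸ ha)
  have hWX : W ≤ X := irreducible hQ (inf_polarPerp_perp hQ hU) hexc (fun x hx => hx.1) hX0
    (fun c hc hc0 x hx => hXinv ⟨refl Q c hc0, refl_mem_orth Q c hc0⟩
      (refl_eq_self Q c hc0 (hWe c hc))
      (fun w hw => by
        show refl Q c hc0 w ∈ W
        rw [refl_apply]; exact W.sub_mem hw (W.smul_mem _ hc)) x hx)
    (fun z hz w hw hz0 hzw x hx => hXinv ⟨siegel Q z w hz0 hzw, siegel_mem_orth Q z w hz0 hzw⟩
      (siegel_eq_self Q z w hz0 hzw (hWe z hz) (hWe w hw))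
      (siegel_maps hz hw hz0 hzw) x hx)
  intro w he' hew
  obtain ⟨a', ha', b', hb', rfl⟩ := Submodule.mem_sup.1
    (sup_polarPerp_eq_top hQ hU ▸ Submodule.mem_top : w ∈ U ⊔ W)
  exact ((hUin a' ha').add (hWX hb').2 he
    (by rw [polar_add_right, hWe b' hb', add_zero] at hew; exact hew) (hWe b' hb')) he' hew

/-- The part in `U` of a vector has the same products with `U`. -/
theorem exists_proj (hQ : (polarBilin Q).Nondegenerate) (hU : U ⊓ polarPerp Q U = ⊥) (w : V) :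
    ∃ a ∈ U, ∀ u ∈ U, polar Q a u = polar Q w u := by
  obtain ⟨a, ha, b, hb, rfl⟩ := Submodule.mem_sup.1
    (sup_polarPerp_eq_top hQ hU ▸ Submodule.mem_top : w ∈ U ⊔ polarPerp Q U)
  exact ⟨a, ha, fun u hu => by rw [polar_add_left, polar_comm Q b u, mem_polarPerp.1 hb u hu, add_zero]⟩

/-- A singular vector of `U` has a partner in `U`. -/
theorem exists_partner_mem (hQ : (polarBilin Q).Nondegenerate) (hU : U ⊓ polarPerp Q U = ⊥) {e : V} (heU : e ∈ U)
    (he00 : e ≠ 0) (he0 : Q e = 0) : ∃ f ∈ U, Q f = 0 ∧ polar Q e f = 1 := by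
  obtain ⟨w, -, hwe⟩ := exists_polar hQ ⊥ (x := e) (by simpa using he00) 1
  obtain ⟨a, haU, ha⟩ := exists_proj hQ hU w
  have hae : polar Q e a = 1 := by rw [polar_comm, ha e heU]; exact hwe
  refine ⟨a - Q a • e, U.sub_mem haU (U.smul_mem _ heU), ?_, ?_⟩
  · simp only [CfsgLib.Geometry.map_sub', CfsgLib.Geometry.map_smul', polar_smul_right', he0, polar_comm Q a e, hae]
    ring
  · simp only [polar_sub_right, polar_smul_right', polar_self', he0, mul_zero, sub_zero, hae]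

/-- One root element of a point of `U` leading out of `U` gives the whole Siegel group. -/
theorem siegelGroup_le_of_siegIn (hQ : (polarBilin Q).Nondegenerate) (hn : 5 ≤ Module.finrank F V)
    (hU : U ⊓ polarPerp Q U = ⊥) (hdim : 4 ≤ Module.finrank F U)
    (hexc : ¬ (Nat.card F ≤ 3 ∧ Module.finrank F (polarPerp Q U) = 2 ∧
      ∃ z ∈ polarPerp Q U, z ≠ 0 ∧ Q z = 0))
    (hst : ∀ g ∈ siegelGroup Q, (∀ u ∈ U, g u ∈ U) → g ∈ M) {e y : V} (heU : e ∈ U) (he00 : e ≠ 0)
    (he0 : Q e = 0) (hyU : y ∉ U) (hey : polar Q e y = 0) (hy : SiegIn Q M e y) : siegelGroup Q ≤ M := by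
  obtain ⟨f, hfU, hf0, hef⟩ := exists_partner_mem hQ hU heU he00 he0
  have hE : Full Q M e := full_of_moved hQ hn hU hdim hexc hst heU hfU he0 hf0 hef hyU hey hy
  -- a second point by a Siegel element of `U`
  obtain ⟨w₁, hw₁U, hfw₁, hQw₁⟩ : ∃ w₁ ∈ U, polar Q f w₁ = 0 ∧ Q w₁ ≠ 0 := by
    by_contra h
    push Not at h
    set K := U ⊓ polarPerp Q (Submodule.span F {f})
    have hK : ∀ k ∈ K, Q k = 0 := fun k hk =>
      h k hk.1 (mem_polarPerp.1 hk.2 f (Submodule.mem_span_singleton_self f))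
    have hdK : Module.finrank F U ≤ Module.finrank F K + 1 := by
      have h1 : _ + Module.finrank F K = _ :=
        Submodule.finrank_sup_add_finrank_inf_eq U (polarPerp Q (Submodule.span F {f}))
      have h2 := finrank_polarPerp hQ (Submodule.span F {f})
      have h3 := Submodule.finrank_le (U ⊔ polarPerp Q (Submodule.span F {f}))
      have h4 : Module.finrank F (Submodule.span F {f}) ≤ 1 := (finrank_span_le_card _).trans (by simp)
      omega
    have h1 : K ≤ polarPerp Q (polarPerp Q U ⊔ K) := fun k hk => mem_polarPerp.2 fun z hz => by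
      obtain ⟨b, hb, c, hc, rfl⟩ := Submodule.mem_sup.1 hz
      rw [polar_add_left, polar_comm Q b k, mem_polarPerp.1 hb k hk.1,
        show polar Q c k = 0 by simp [QuadraticMap.polar, hK _ (K.add_mem hc hk), hK c hc, hK k hk], add_zero]
    have h2 := Submodule.finrank_mono h1
    have h3 := finrank_polarPerp hQ (polarPerp Q U ⊔ K)
    have h4 := Submodule.finrank_sup_add_finrank_inf_eq (polarPerp Q U) K
    have h5 := finrank_polarPerp hQ U
    have h6 : polarPerp Q U ⊓ K = ⊥ := eq_bot_iff.2 fun z hz => hU.le ⟨hz.2.1, hz.1⟩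
    rw [h6, finrank_bot] at h4
    omega
  set h := siegel Q f w₁ hf0 hfw₁
  have hh : h ∈ M := hst _ (siegel_mem f w₁ hf0 hfw₁) (siegel_maps hfU hw₁U hf0 hfw₁)
  have hhe : polar Q e (h e) = -(Q w₁) := by
    simp only [h, siegel_apply, polar_add_right, polar_sub_right, polar_smul_right', polar_self', he0, hef]
    ring
  have hhe0 : Q (h e) = 0 := by rw [mem_orth.1 (siegel_mem_orth Q f w₁ hf0 hfw₁), he0]
  refine siegelGroup_le_of_full hQ he0 (f := (-(Q w₁))⁻¹ • h e) ?_ ?_ hE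
    ((hE.image hh (siegel_mem_orth Q f w₁ hf0 hfw₁)).smul hhe0 _)
  · rw [CfsgLib.Geometry.map_smul', hhe0, mul_zero]
  · rw [polar_smul_right', hhe, inv_mul_cancel₀ (neg_ne_zero.2 hQw₁)]


theorem nondeg_stab_max (hQ : (polarBilin Q).Nondegenerate) (hU : U ⊓ polarPerp Q U = ⊥)
    (hdim : 6 ≤ Module.finrank F U)
    (hswap : ∀ g ∈ orth Q, ∀ _ : ∀ u ∈ U, g u ∈ polarPerp Q U, False)
    (hexc : ¬ (Nat.card F ≤ 3 ∧ Module.finrank F (polarPerp Q U) = 2 ∧
      ∃ z ∈ polarPerp Q U, z ≠ 0 ∧ Q z = 0))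
    (hle : M ≤ siegelGroup Q) (hst : ∀ g ∈ siegelGroup Q, (∀ u ∈ U, g u ∈ U) → g ∈ M)
    (hne : ∃ g ∈ M, ∃ u ∈ U, g u ∉ U) : siegelGroup Q ≤ M := by
  have hn : 5 ≤ Module.finrank F V := by have := Submodule.finrank_le U; omega
  obtain ⟨g, hg, u₁, hu₁, hgu₁⟩ := hne
  have hgo := siegelGroup_le_orth (hle hg)
  obtain ⟨x, y, hx0, hxy, hσ, v₀, hv₀, hσv₀⟩ : ∃ x y, ∃ (hx0 : Q x = 0) (hxy : polar Q x y = 0),
      siegel Q x y hx0 hxy ∈ M ∧ ∃ v₀ ∈ U, siegel Q x y hx0 hxy v₀ ∉ U := by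
    by_contra hc
    push Not at hc
    set U' := U.map g.toLinearMap
    have hmem : ∀ u ∈ U, g u ∈ U' := fun u hu => ⟨u, hu, rfl⟩
    have hU' : U' ⊓ polarPerp Q U' = ⊥ := by
      rw [eq_bot_iff]
      rintro _ ⟨⟨u, hu, rfl⟩, h⟩
      have : u ∈ U ⊓ polarPerp Q U := ⟨hu, mem_polarPerp.2 fun w hw => by
        rw [← orth_polar hgo]; exact mem_polarPerp.1 h _ (hmem w hw)⟩
      rw [hU, Submodule.mem_bot] at this
      simp [this]
    have hdim' : Module.finrank F U' = Module.finrank F U := LinearEquiv.finrank_map_eq g U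
    by_cases hperp : ∃ x ∈ U, ∃ u ∈ U, polar Q x (g u) ≠ 0
    · obtain ⟨x, hx, u, hu, hxu⟩ := hperp
      refine hgu₁ (le_of_siegel_invariant hQ hU' (by omega) U ?_ hx (hmem u hu) hxu (hmem u₁ hu₁))
      rintro _ ⟨e₀, he₀, rfl⟩ _ ⟨w₀, hw₀, rfl⟩ he hw z hz
      have he0 : Q e₀ = 0 := by rw [← mem_orth.1 hgo e₀]; exact he
      have hw0 : polar Q e₀ w₀ = 0 := by rw [← orth_polar hgo]; exact hw
      exact hc _ _ he hw ((SiegIn.conj (fun h1 h2 => hst _ (siegel_mem e₀ w₀ h1 h2)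
        (siegel_maps he₀ hw₀ h1 h2)) hg hgo) he hw) z hz
    · push Not at hperp
      exact hswap g hgo fun u hu => mem_polarPerp.2 fun x hx => hperp x hx u hu
  set σ := siegel Q x y hx0 hxy
  set S := Submodule.span F ({x, y} : Set V)
  have fix : ∀ z, (∀ s ∈ S, polar Q s z = 0) → σ z = z := fun z hz =>
    siegel_eq_self Q x y hx0 hxy (by rw [polar_comm]; exact hz x (Submodule.subset_span (by simp)))
      (by rw [polar_comm]; exact hz y (Submodule.subset_span (by simp)))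
  -- the part in `U` of a vector has the same products with `U`
  have proj : ∀ w : V, ∃ a ∈ U, ∀ u ∈ U, polar Q a u = polar Q w u := fun w => by
    obtain ⟨a, ha, b, hb, rfl⟩ := Submodule.mem_sup.1
      (sup_polarPerp_eq_top hQ hU ▸ Submodule.mem_top : w ∈ U ⊔ polarPerp Q U)
    exact ⟨a, ha, fun u hu => by rw [polar_add_left, polar_comm Q b u, mem_polarPerp.1 hb u hu, add_zero]⟩
  have hP : Module.finrank F U ≤ Module.finrank F ↥(U ⊓ polarPerp Q S) + 2 := by
    have h1 := Submodule.finrank_sup_add_finrank_inf_eq U (polarPerp Q S)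
    have h2 := finrank_polarPerp hQ S
    have h3 := Submodule.finrank_le (U ⊔ polarPerp Q S)
    have h4 : Module.finrank F S ≤ 2 := finrank_pair_le (F := F) x y
    omega
  obtain ⟨e, he, he0, he00, v, hvU, hev, hσv⟩ : ∃ e ∈ U ⊓ polarPerp Q S, Q e = 0 ∧ e ≠ 0 ∧
      ∃ v ∈ U, polar Q e v = 0 ∧ σ v ∉ U := by
    obtain ⟨e₁, he₁, he₁0, he₁Q⟩ := exists_singular_in (Q := Q) (U ⊓ polarPerp Q S) (by omega)
    by_cases hgood : ∃ v ∈ U, polar Q e₁ v = 0 ∧ σ v ∉ U
    · exact ⟨e₁, he₁, he₁Q, he₁0, hgood⟩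
    push Not at hgood
    obtain ⟨C, hC⟩ := Submodule.exists_isCompl (Submodule.span F {e₁})
    obtain ⟨e₂, he₂, he₂0, he₂Q⟩ := exists_singular_in (Q := Q) ((U ⊓ polarPerp Q S) ⊓ C) (by
      have h1 := Submodule.finrank_sup_add_finrank_inf_eq (U ⊓ polarPerp Q S) C
      have h2 := Submodule.finrank_add_eq_of_isCompl hC
      have h3 := Submodule.finrank_le ((U ⊓ polarPerp Q S) ⊔ C)
      have h4 := finrank_span_singleton (K := F) he₁0
      omega)
    refine ⟨e₂, he₂.1, he₂Q, he₂0, ?_⟩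
    have hne : e₁ ∉ Submodule.span F {e₂} := fun h => he₁0 (by
      have : e₁ ∈ Submodule.span F {e₁} ⊓ C := ⟨Submodule.mem_span_singleton_self _,
        (Submodule.span_singleton_le_iff_mem _ _).2 he₂.2 h⟩
      rwa [hC.inf_eq_bot, Submodule.mem_bot] at this)
    obtain ⟨w, hw, hw1⟩ := exists_polar hQ (Submodule.span F {e₂}) hne 1
    obtain ⟨u, huU, hu⟩ := proj w
    refine ⟨u, huU, by rw [polar_comm, hu _ he₂.1.1]; exact hw _ (Submodule.mem_span_singleton_self _), fun h => ?_⟩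
    have h1 : polar Q e₁ u = 1 := by rw [polar_comm, hu _ he₁.1]; exact hw1
    have h2 := hgood (v₀ - polar Q e₁ v₀ • u) (U.sub_mem hv₀ (U.smul_mem _ huU))
      (by rw [polar_sub_right, polar_smul_right', h1, mul_one, sub_self])
    refine hσv₀ ?_
    have := U.add_mem h2 (U.smul_mem (polar Q e₁ v₀) h)
    rwa [← map_smul, ← map_add, sub_add_cancel] at this
  have hse : σ e = e := fix e (mem_polarPerp.1 he.2)
  have hσev : polar Q e (σ v) = 0 := by
    rw [← hse, orth_polar (siegel_mem_orth Q x y hx0 hxy)]; exact hev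
  refine siegelGroup_le_of_siegIn hQ hn hU (by omega) hexc hst he.1 he00 he0 (fun h => hσv h) hσev ?_
  have h := SiegIn.conj (fun h1 h2 => hst _ (siegel_mem e v h1 h2) (siegel_maps he.1 hvU h1 h2))
    hσ (siegel_mem_orth Q x y hx0 hxy)
  rwa [hse] at h

/-- A member moving `U` which keeps a singular vector of `U` inside gives the whole Siegel group. -/
theorem siegelGroup_le_of_point (hQ : (polarBilin Q).Nondegenerate) (hn : 5 ≤ Module.finrank F V)
    (hU : U ⊓ polarPerp Q U = ⊥) (hdim : 4 ≤ Module.finrank F U)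
    (hexc : ¬ (Nat.card F ≤ 3 ∧ Module.finrank F (polarPerp Q U) = 2 ∧
      ∃ z ∈ polarPerp Q U, z ≠ 0 ∧ Q z = 0))
    (hle : M ≤ siegelGroup Q) (hst : ∀ g ∈ siegelGroup Q, (∀ u ∈ U, g u ∈ U) → g ∈ M) {h : V ≃ₗ[F] V} (hh : h ∈ M)
    (hmv : ∃ u ∈ U, h u ∉ U) {e : V} (heU : e ∈ U) (he00 : e ≠ 0) (he0 : Q e = 0) (hheU : h e ∈ U) :
    siegelGroup Q ≤ M := by
  have hho := siegelGroup_le_orth (hle hh)
  have he0' : Q (h e) = 0 := by rw [mem_orth.1 hho, he0]
  have he00' : h e ≠ 0 := fun h' => he00 (h.map_eq_zero_iff.1 h')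
  by_cases hv : ∃ v ∈ U, polar Q e v = 0 ∧ h v ∉ U
  · obtain ⟨v, hvU, hev, hhv⟩ := hv
    exact siegelGroup_le_of_siegIn hQ hn hU hdim hexc hst hheU he00' he0' hhv (by rw [orth_polar hho]; exact hev)
      (SiegIn.conj (fun h1 h2 => hst _ (siegel_mem e v h1 h2) (siegel_maps heU hvU h1 h2)) hh hho)
  push Not at hv
  obtain ⟨f, hfU, hf0, hef⟩ := exists_partner_mem hQ hU heU he00 he0
  obtain ⟨a, ha, w, hw, haw⟩ := Submodule.mem_sup.1
    (sup_polarPerp_eq_top hQ hU ▸ Submodule.mem_top : h f ∈ U ⊔ polarPerp Q U)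
  have hew : polar Q (h e) w = 0 := mem_polarPerp.1 hw _ hheU
  have hewn : polar Q (h e) (-w) = 0 := by rw [polar_neg_right, hew, neg_zero]
  set T := siegel Q (h e) (-w) he0' hewn
  have hTS : T ∈ siegelGroup Q := siegel_mem _ _ _ _
  have hk : ∀ u ∈ U, (T * h) u ∈ U := by
    intro u hu
    have hu' : u - polar Q e u • f ∈ U := U.sub_mem hu (U.smul_mem _ hfU)
    have h1 := hv _ hu' (by rw [polar_sub_right, polar_smul_right', hef, mul_one, sub_self])
    rw [show u = (u - polar Q e u • f) + polar Q e u • f by abel, map_add, map_smul]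
    refine U.add_mem ?_ (U.smul_mem _ ?_)
    · rw [LinearEquiv.mul_apply,
        siegel_eq_self Q (h e) (-w) he0' hewn
          (by rw [polar_comm, orth_polar hho, polar_sub_right, polar_smul_right', hef, mul_one, sub_self])
          (by rw [polar_neg_right, mem_polarPerp.1 hw _ h1, neg_zero])]
      exact h1
    · have hd : polar Q (h f) (h e) = 1 := by rw [orth_polar hho, polar_comm]; exact hef
      rw [LinearEquiv.mul_apply, siegel_apply, hd, one_smul]
      rw [show h f + -w = a by rw [← haw]; abel]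
      exact U.sub_mem (U.sub_mem ha (U.smul_mem _ hheU)) (U.smul_mem _ hheU)
  have hTM : T ∈ M := by
    have := mul_mem (hst _ (mul_mem hTS (hle hh)) hk) (inv_mem hh)
    rwa [mul_assoc, mul_inv_cancel, mul_one] at this
  refine siegelGroup_le_of_siegIn hQ hn hU hdim hexc hst hheU he00' he0' (y := -w) (fun hwU => ?_) hewn
    fun _ _ => hTM
  obtain ⟨u, hu, hgu⟩ := hmv
  refine hgu ?_
  have hhf : h f ∈ U := by rw [← haw]; exact U.add_mem ha (U.neg_mem_iff.1 hwU)
  rw [show u = (u - polar Q e u • f) + polar Q e u • f by abel, map_add, map_smul]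
  exact U.add_mem (hv _ (U.sub_mem hu (U.smul_mem _ hfU))
    (by rw [polar_sub_right, polar_smul_right', hef, mul_one, sub_self])) (U.smul_mem _ hhf)

/-- In four dimensions some vector of `U` and its image lie in `U`, unless everything is generated. -/
theorem siegelGroup_le_or_pair (hQ : (polarBilin Q).Nondegenerate) (hn : 5 ≤ Module.finrank F V)
    (hU : U ⊓ polarPerp Q U = ⊥) (hdim : 4 ≤ Module.finrank F U)
    (hswap : ∀ g ∈ orth Q, ∀ _ : ∀ u ∈ U, g u ∈ polarPerp Q U, False)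
    (hexc : ¬ (Nat.card F ≤ 3 ∧ Module.finrank F (polarPerp Q U) = 2 ∧
      ∃ z ∈ polarPerp Q U, z ≠ 0 ∧ Q z = 0))
    (hle : M ≤ siegelGroup Q) (hst : ∀ g ∈ siegelGroup Q, (∀ u ∈ U, g u ∈ U) → g ∈ M)
    (hne : ∃ g ∈ M, ∃ u ∈ U, g u ∉ U) : siegelGroup Q ≤ M ∨ ∃ g ∈ M, (∃ u ∈ U, g u ∉ U) ∧
      (∀ e ∈ U, e ≠ 0 → Q e = 0 → g e ∉ U) ∧ ∃ v ∈ U, v ≠ 0 ∧ g v ∈ U ∧ polar Q v v = 0 := by
  obtain ⟨g, hg, hmv⟩ := hne
  have hgo := siegelGroup_le_orth (hle hg)
  by_cases hpt : ∃ e ∈ U, e ≠ 0 ∧ Q e = 0 ∧ g e ∈ U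
  · obtain ⟨e, heU, he00, he0, hge⟩ := hpt
    exact Or.inl (siegelGroup_le_of_point hQ hn hU hdim hexc hle hst hg hmv heU he00 he0 hge)
  push Not at hpt
  have hperp1 : ∀ (X : Submodule F V) (t : V), Module.finrank F X ≤
      Module.finrank F ↥(X ⊓ polarPerp Q (Submodule.span F {t})) + 1 := fun X t => by
    have h1 := Submodule.finrank_sup_add_finrank_inf_eq X (polarPerp Q (Submodule.span F {t}))
    have h2 := finrank_polarPerp hQ (Submodule.span F {t})
    have h3 := Submodule.finrank_le (X ⊔ polarPerp Q (Submodule.span F {t}))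
    have h4 : Module.finrank F (Submodule.span F {t}) ≤ 1 := (finrank_span_le_card _).trans (by simp)
    omega
  obtain ⟨e₀, he₀U, he₀0, he₀00, u₁, hu₁, hxu₁⟩ : ∃ e₀ ∈ U, Q e₀ = 0 ∧ e₀ ≠ 0 ∧ ∃ u ∈ U, polar Q u (g e₀) ≠ 0 := by
    obtain ⟨e₁, he₁U, he₁00, he₁0⟩ := exists_singular_in (Q := Q) U (by omega)
    obtain ⟨f₁, hf₁U, hf₁0, hef₁⟩ := exists_partner_mem hQ hU he₁U he₁00 he₁0
    by_contra hc
    push Not at hc
    have h1 := hc e₁ he₁U he₁0 he₁00
    have h1' := hc f₁ hf₁U hf₁0 (fun h => by simp [h, polar_zero_right] at hef₁)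
    refine hswap g hgo fun u hu => mem_polarPerp.2 fun x hx => ?_
    set r := u - polar Q f₁ u • e₁ - polar Q e₁ u • f₁
    have hrU : r ∈ U := U.sub_mem (U.sub_mem hu (U.smul_mem _ he₁U)) (U.smul_mem _ hf₁U)
    have hre : polar Q e₁ r = 0 := by
      simp only [r, polar_sub_right, polar_smul_right', polar_self', he₁0, hef₁]; ring
    have hrf : polar Q f₁ r = 0 := by
      simp only [r, polar_sub_right, polar_smul_right', polar_self', hf₁0, polar_comm Q f₁ e₁, hef₁]; ring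
    have h1'' := hc (r - Q r • e₁ + f₁) (U.add_mem (U.sub_mem hrU (U.smul_mem _ he₁U)) hf₁U)
      (by simp only [CfsgLib.Geometry.map_add', CfsgLib.Geometry.map_sub', CfsgLib.Geometry.map_smul', polar_sub_left,
            polar_smul_left', polar_smul_right', he₁0, hf₁0, hef₁, polar_comm Q r e₁, hre, polar_comm Q r f₁, hrf]
          ring)
      (fun h => by
        have := congrArg (polar Q e₁) h
        simp [polar_add_right, polar_sub_right, polar_smul_right', polar_self', hre, he₁0, hef₁, polar_zero_right] at this)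
    have := h1'' x hx
    rw [map_add, map_sub, map_smul, polar_add_right, polar_sub_right, polar_smul_right', h1 x hx, h1' x hx, mul_zero,
      sub_zero, add_zero] at this
    rw [show u = r + polar Q f₁ u • e₁ + polar Q e₁ u • f₁ by simp only [r]; abel, map_add, map_add, map_smul,
      map_smul, polar_add_right, polar_add_right, polar_smul_right', polar_smul_right', this, h1 x hx, h1' x hx]
    simp
  set x := g e₀
  obtain ⟨f, hf, hf00, hf0⟩ := exists_singular_in (Q := Q) (U ⊓ polarPerp Q (Submodule.span F {x}))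
    (by have := hperp1 U x; omega)
  obtain ⟨w₀, hw₀, hw₀e⟩ : ∃ w₀ ∈ U ⊓ polarPerp Q (Submodule.span F {e₀}) ⊓ polarPerp Q (Submodule.span F {g.symm f}),
      w₀ ∉ Submodule.span F {e₀} := by
    refine SetLike.not_le_iff_exists.1 fun hle' => ?_
    have h1 := Submodule.finrank_mono hle'
    have h2 := finrank_span_singleton (K := F) he₀00
    have h3 := hperp1 U e₀
    have h4 := hperp1 (U ⊓ polarPerp Q (Submodule.span F {e₀})) (g.symm f)
    omega
  have hew : polar Q e₀ w₀ = 0 := mem_polarPerp.1 hw₀.1.2 e₀ (Submodule.mem_span_singleton_self _)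
  have hfw : polar Q f (g w₀) = 0 := by
    rw [← g.apply_symm_apply f, orth_polar hgo]
    exact mem_polarPerp.1 hw₀.2 _ (Submodule.mem_span_singleton_self _)
  have hfx : polar Q f x = 0 := by
    rw [polar_comm]; exact mem_polarPerp.1 hf.2 x (Submodule.mem_span_singleton_self _)
  set z := g w₀
  have hx0 : Q x = 0 := by rw [mem_orth.1 hgo, he₀0]
  have hxz : polar Q x z = 0 := by rw [orth_polar hgo]; exact hew
  set σ := siegel Q x z hx0 hxz
  have hσ : σ ∈ M :=
    SiegIn.conj (fun h1 h2 => hst _ (siegel_mem e₀ w₀ h1 h2) (siegel_maps he₀U hw₀.1.1 h1 h2)) hg hgo hx0 hxz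
  by_cases hc : ∃ u ∈ U, σ u ∉ U
  · exact Or.inl (siegelGroup_le_of_point hQ hn hU hdim hexc hle hst hσ hc hf.1 hf00 hf0
      (by rw [siegel_eq_self Q x z hx0 hxz hfx hfw]; exact hf.1))
  push Not at hc
  have hxU : x ∉ U := fun h => hpt e₀ he₀U he₀00 he₀0 h
  have hperp : ∀ u ∈ U, polar Q u x = 0 → polar Q u z = 0 := by
    intro u hu hux
    by_contra huz
    refine hxU ?_
    have h := U.sub_mem (hc u hu) hu
    rw [siegel_apply, hux, mul_zero, zero_smul, zero_smul, add_zero, sub_zero, sub_sub_cancel_left] at h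
    have h' := U.smul_mem (-(polar Q u z)⁻¹) h
    rwa [smul_neg, neg_smul, neg_neg, smul_smul, inv_mul_cancel₀ huz, one_smul] at h'
  set v₁ := (polar Q u₁ x)⁻¹ • u₁
  have hv₁ : polar Q v₁ x = 1 := by rw [polar_smul_left', inv_mul_cancel₀ hxu₁]
  have hv₁U : v₁ ∈ U := U.smul_mem _ hu₁
  set d := polar Q v₁ z + Q z
  have hz' : z - d • x ∈ U := by
    have h := U.sub_mem (hc v₁ hv₁U) hv₁U
    rw [siegel_apply, hv₁, one_smul, mul_one] at h
    convert h using 1
    simp only [d]; module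
  have hself : polar Q (z - d • x) (z - d • x) = 0 := by
    have hx' : polar Q (z - d • x) x = 0 := by
      rw [polar_sub_left, polar_smul_left', polar_self', hx0, polar_comm Q z x, hxz]; simp
    rw [polar_sub_right (Q := Q) (z - d • x) z (d • x), polar_smul_right', hx', hperp _ hz' hx']
    simp
  refine Or.inr ⟨g, hg, hmv, hpt, w₀ - d • e₀, U.sub_mem hw₀.1.1 (U.smul_mem _ he₀U), fun h => hw₀e ?_, ?_, ?_⟩
  · rw [sub_eq_zero.1 h]; exact Submodule.smul_mem _ _ (Submodule.mem_span_singleton_self _)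
  · rw [map_sub, map_smul]; exact hz'
  · rw [← orth_polar hgo, map_sub, map_smul]; exact hself

/-- In odd characteristic four dimensions suffice. -/
theorem nondeg_stab_max_odd (h2 : (2 : F) ≠ 0) (hQ : (polarBilin Q).Nondegenerate) (hn : 5 ≤ Module.finrank F V)
    (hU : U ⊓ polarPerp Q U = ⊥) (hdim : 4 ≤ Module.finrank F U)
    (hswap : ∀ g ∈ orth Q, ∀ _ : ∀ u ∈ U, g u ∈ polarPerp Q U, False)
    (hexc : ¬ (Nat.card F ≤ 3 ∧ Module.finrank F (polarPerp Q U) = 2 ∧
      ∃ z ∈ polarPerp Q U, z ≠ 0 ∧ Q z = 0))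
    (hle : M ≤ siegelGroup Q) (hst : ∀ g ∈ siegelGroup Q, (∀ u ∈ U, g u ∈ U) → g ∈ M)
    (hne : ∃ g ∈ M, ∃ u ∈ U, g u ∉ U) : siegelGroup Q ≤ M := by
  rcases siegelGroup_le_or_pair hQ hn hU hdim hswap hexc hle hst hne with h | ⟨g, -, -, hpt, v, hv, hv0, hgv, hvv⟩
  · exact h
  · rw [polar_self', mul_eq_zero, or_iff_right h2] at hvv
    exact absurd hgv (hpt v hv hv0 hvv)

end CfsgLib.OrthMax
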