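import Cfsg.Agent.Lib.OrthMax.DecompThree
import Cfsg.Agent.Lib.AschbacherOrth.Proper

/-! From matrices to subgroups of the isometry group, for decomposition stabilisers. -/

set_option autoImplicit false
set_option linter.unusedSectionVars false
set_option linter.style.haveILetI false

namespace CfsgLib.OrthMax

open Cfsg CfsgLib.AschbacherOrth
open QuadraticMap CfsgLib.Geometry

variable {F : Type*} [Field F] [Finite F] {ι : Type} [Fintype ι] [DecidableEq ι]
variable {Q : QuadraticForm F (ι → F)}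

theorem orthParts_of_decomp (hQ : (polarBilin Q).Nondegenerate) {t k : ℕ} {D : Fin t → Submodule F (ι → F)}
    (hD : Cfsg.Geo.IsOrthogonalMDecomposition (⇑Q) k D) : OrthParts Q D := by
  refine ⟨fun l => ?_, fun i j hij => hD.decomp.orthogonal i j hij, hD.decomp.decomp.iSup_eq_top, hQ⟩
  rw [eq_bot_iff]
  rintro w ⟨hw, hw'⟩
  rw [Submodule.mem_bot]
  by_contra h0
  obtain ⟨x, hx, hne⟩ := (hD.decomp.nondegenerate l w hw h0).1
  exact hne (mem_polarPerp.1 hw' x hx)

theorem mem_decompStab_iff {t k : ℕ} {D : Fin t → Submodule F (ι → F)}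
    (hD : Cfsg.Geo.IsMDecomposition k D) (g : Geometry.orth Q) :
    Geometry.orthToGL Q g ∈ Cfsg.Geo.decompositionStabilizer D ↔ KeepsParts D (g : (ι → F) ≃ₗ[F] (ι → F)) := by
  have he : ∀ v, Matrix.toLin' ((Geometry.orthToGL Q g : Matrix.GeneralLinearGroup ι F) : Matrix ι ι F) v =
      (g : (ι → F) ≃ₗ[F] (ι → F)) v := fun v => by
    rw [Matrix.toLin'_apply]; exact Geometry.orthToGL_mulVec Q g v
  constructor
  · rintro ⟨σ, hσ⟩ i
    exact ⟨σ i, fun v hv => by rw [← hσ i, ← he]; exact Submodule.mem_map_of_mem hv⟩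
  · intro hk
    choose j hj using hk
    have hmap : ∀ i, (D i).map (Matrix.toLin' ((Geometry.orthToGL Q g : Matrix.GeneralLinearGroup ι F) : Matrix ι ι F)) =
        D (j i) := fun i => by
      refine Submodule.eq_of_le_of_finrank_le ?_ (le_of_eq ?_)
      · rintro _ ⟨v, hv, rfl⟩
        rw [he]; exact hj i v hv
      · rw [hD.finrank_eq, ← hD.finrank_eq i]
        refine LinearEquiv.finrank_eq (Submodule.equivMapOfInjective _ (fun a b hab => ?_) (D i))
        rw [he, he] at hab
        exact LinearEquiv.injective _ hab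
    have hinj : Function.Injective j := fun a b hab => by
      by_contra hne
      have h1 : D a = D b := by
        refine Submodule.map_injective_of_injective (fun x y hxy => ?_) ((hmap a).trans (hab ▸ (hmap b).symm))
        rw [he, he] at hxy
        exact LinearEquiv.injective _ hxy
      have h2 := hD.indep.pairwiseDisjoint hne
      simp only [Function.onFun, h1, disjoint_self] at h2
      have h3 := hD.finrank_eq b
      rw [h2, finrank_bot] at h3
      exact hD.pos.ne h3
    exact ⟨Equiv.ofBijective j (Finite.injective_iff_bijective.1 hinj), hmap⟩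

/-- Maximality of a decomposition stabiliser in `Ω` from its version for subgroups of the Siegel group. -/
theorem decomp_maximal (hQ : (polarBilin Q).Nondegenerate) (hn : 5 ≤ Fintype.card ι) {t k : ℕ}
    {D : Fin t → Submodule F (ι → F)} (hD : Cfsg.Geo.IsOrthogonalMDecomposition (⇑Q) k D)
    (hk : 3 ≤ k ∨ 4 ≤ t)
    (hmax : OrthParts Q D → (∀ i j, ∃ e : D i ≃ₗ[F] D j, ∀ v : D i, Q (e v : ι → F) = Q (v : ι → F)) →
      ∀ N : Subgroup ((ι → F) ≃ₗ[F] (ι → F)), N ≤ Geometry.siegelGroup Q →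
      (∀ g ∈ Geometry.siegelGroup Q, KeepsParts D g → g ∈ N) → (∃ g ∈ N, ¬ KeepsParts D g) →
      Geometry.siegelGroup Q ≤ N) :
    Cfsg.Geo.IsMaximalIn (Cfsg.Geo.omegaGL (⇑Q))
      (Cfsg.Geo.decompositionStabilizer D ⊓ Cfsg.Geo.omegaGL (⇑Q)) := by
  classical
  have hn' : 5 ≤ Module.finrank F (ι → F) := by simpa using hn
  have hC := fun g => mem_commutator_iff_siegelGroup hQ hn' (Q := Q) g
  refine ⟨lt_of_le_of_ne inf_le_right fun h => SiegelIn.not_decomp hQ hn hD.decomp.decomp
    (hk.imp id fun ht => ⟨ht, hD.decomp⟩) (siegelIn_of_omega_le hQ hn (inf_eq_right.1 h)), fun M hHM hMK => ?_⟩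
  set N := (M.comap (Geometry.orthToGL Q) ⊓ commutator (Geometry.orth Q)).map (Geometry.orth Q).subtype
  have hNle : N ≤ Geometry.siegelGroup Q := by
    rintro _ ⟨g, hg, rfl⟩; exact (hC g).1 hg.2
  have hst : ∀ g ∈ Geometry.siegelGroup Q, KeepsParts D g → g ∈ N := fun g hg hgk => by
    refine ⟨⟨g, Geometry.siegelGroup_le_orth hg⟩, ⟨hHM ⟨(mem_decompStab_iff hD.decomp.decomp _).2 hgk, ?_⟩, (hC _).2 hg⟩, rfl⟩
    rw [Geometry.omegaGL_eq_map]
    exact Subgroup.mem_map_of_mem _ ((hC _).2 hg)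
  by_cases hmv : ∃ g ∈ N, ¬ KeepsParts D g
  · refine Or.inr (le_antisymm hMK ?_)
    rw [Geometry.omegaGL_eq_map]
    rintro _ ⟨g, hg, rfl⟩
    obtain ⟨g', hg', he⟩ := hmax (orthParts_of_decomp hQ hD) hD.isometric N hNle hst hmv ((hC g).1 hg)
    rw [← Subtype.ext he]
    exact hg'.1
  · push Not at hmv
    refine Or.inl (le_antisymm (fun m hm => ?_) hHM)
    have hm' := hMK hm
    rw [Geometry.omegaGL_eq_map] at hm'
    obtain ⟨g, hg, rfl⟩ := hm'
    exact ⟨(mem_decompStab_iff hD.decomp.decomp g).2 (hmv _ ⟨g, ⟨hm, hg⟩, rfl⟩), by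
      rw [Geometry.omegaGL_eq_map]; exact Subgroup.mem_map_of_mem _ hg⟩

end CfsgLib.OrthMax

namespace CfsgLib.OrthMax

theorem decomp_card {F : Type*} [Field F] {ι : Type} [Fintype ι] [DecidableEq ι] {t k : ℕ}
    {D : Fin t → Submodule F (ι → F)} (hD : Cfsg.Geo.IsMDecomposition k D) : Fintype.card ι = t * k := by
  have hI := DirectSum.isInternal_submodule_of_iSupIndep_of_iSup_eq_top hD.indep hD.iSup_eq_top
  have h1 := LinearEquiv.finrank_eq (LinearEquiv.ofBijective (DirectSum.coeLinearMap D) hI)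
  rw [Module.finrank_directSum, Module.finrank_pi] at h1
  simp only [hD.finrank_eq, Finset.sum_const, Finset.card_univ, Fintype.card_fin, smul_eq_mul] at h1
  exact h1.symm

theorem exists_sq_ne_one {F : Type*} [Field F] [Fintype F] (h : 4 ≤ Fintype.card F) :
    ∃ w : F, w ≠ 0 ∧ w * w ≠ 1 := by
  classical
  by_contra hc
  push Not at hc
  have hs : (Finset.univ : Finset F) ⊆ {0, 1, -1} := fun w _ => by
    by_cases hw : w = 0
    · simp [hw]
    · rcases mul_self_eq_one_iff.1 (hc w hw) with e | e <;> simp [e]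
  have h1 := (Finset.card_le_card hs).trans Finset.card_le_three
  rw [Finset.card_univ] at h1
  omega

end CfsgLib.OrthMax
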