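import Cfsg.Agent.Lib.OrthMax.Nondeg

/-! In characteristic two the stabiliser of a non-singular line is maximal in `Ω(Q)`. -/

set_option autoImplicit false

namespace CfsgLib.OrthMax

open QuadraticMap CfsgLib.Geometry

variable {F V : Type*} [Field F] [AddCommGroup V] [Module F V] [FiniteDimensional F V]
variable {Q : QuadraticForm F V} {M : Subgroup (V ≃ₗ[F] V)} [Finite F]

theorem line_stab_max (hQ : (polarBilin Q).Nondegenerate) (hn : 8 ≤ Module.finrank F V)
    (h2 : (2 : F) = 0) {v : V} (hv : Q v ≠ 0) (hle : M ≤ siegelGroup Q)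
    (hst : ∀ g ∈ siegelGroup Q, (∀ u ∈ Submodule.span F {v}, g u ∈ Submodule.span F {v}) → g ∈ M)
    (hne : ∃ g ∈ M, ∃ u ∈ Submodule.span F {v}, g u ∉ Submodule.span F {v}) : siegelGroup Q ≤ M := by
  have hR : reflGroup Q = orth Q := reflGroup_eq_orth hQ (Or.inl (by omega))
  have hv0 : v ≠ 0 := fun h => hv (by rw [h, QuadraticMap.map_zero])
  have hvv : polar Q v v = 0 := by rw [polar_self', h2, zero_mul]
  have htop : (⊤ : Submodule F V) ⊓ polarPerp Q ⊤ = ⊥ := by
    have := finrank_polarPerp hQ (⊤ : Submodule F V)
    rw [finrank_top] at this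
    rw [Submodule.finrank_eq_zero.1 (show Module.finrank F (polarPerp Q (⊤ : Submodule F V)) = 0 by omega),
      inf_bot_eq]
  have fixv : ∀ g ∈ siegelGroup Q, g v = v → g ∈ M := fun g hg hgv => hst g hg fun u hu => by
    obtain ⟨c, rfl⟩ := Submodule.mem_span_singleton.1 hu
    rw [map_smul, hgv]; exact Submodule.smul_mem _ c (Submodule.mem_span_singleton_self v)
  have hin : ∀ e w, polar Q v e = 0 → polar Q v w = 0 → SiegIn Q M e w := fun e w h1 h2' he hw =>
    fixv _ (siegel_mem e w he hw) (siegel_eq_self Q e w he hw h1 h2')
  obtain ⟨g, hg, v₁, hv₁, hgv₁⟩ := hne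
  obtain ⟨c₁, rfl⟩ := Submodule.mem_span_singleton.1 hv₁
  have hgo := siegelGroup_le_orth (hle hg)
  have hgv : g v ∉ Submodule.span F {v} := fun h => hgv₁ (by
    rw [map_smul]; exact Submodule.smul_mem _ _ h)
  obtain ⟨x, y, hx0, hxy, hσ, hσv⟩ : ∃ x y, ∃ (hx0 : Q x = 0) (hxy : polar Q x y = 0),
      siegel Q x y hx0 hxy ∈ M ∧ siegel Q x y hx0 hxy v ∉ Submodule.span F {v} := by
    by_contra hc
    push Not at hc
    set u := g.symm v
    have hgu : g u = v := g.apply_symm_apply v
    have huv : u ∉ Submodule.span F {v} := fun h => by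
      obtain ⟨c, hc⟩ := Submodule.mem_span_singleton.1 h
      rw [← hc, map_smul] at hgu
      have hc0 : c ≠ 0 := fun h => hv0 (by rw [← hgu, h, zero_smul])
      exact hgv (Submodule.mem_span_singleton.2 ⟨c⁻¹, by
        conv_lhs => rw [← hgu]
        rw [smul_smul, inv_mul_cancel₀ hc0, one_smul]⟩)
    obtain ⟨e, f, -, -, he, hf, hef, hSe, hSf⟩ := exists_pair_perp hQ htop
      (Submodule.span F ({v, u} : Set V)) (by
        have := finrank_pair_le (F := F) v u; rw [finrank_top]; omega)
    have hve : polar Q v e = 0 := hSe v (Submodule.subset_span (by simp))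
    have hvf : polar Q v f = 0 := hSf v (Submodule.subset_span (by simp))
    have hue : polar Q u e = 0 := hSe u (Submodule.subset_span (by simp))
    have huf : polar Q u f = 0 := hSf u (Submodule.subset_span (by simp))
    have huT : u ∉ Submodule.span F ({v, e} : Set V) := fun h => by
      obtain ⟨a, b, hab⟩ := Submodule.mem_span_pair.1 h
      have := congrArg (fun z => polar Q z f) hab
      simp only [polar_add_left, polar_smul_left', hvf, hef, huf, mul_zero, zero_add, mul_one] at this
      exact huv (Submodule.mem_span_singleton.2 ⟨a, by rw [← hab, this]; module⟩)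
    obtain ⟨w, hw, hwu⟩ := exists_polar hQ _ huT 1
    have hvw : polar Q v w = 0 := by rw [polar_comm]; exact hw v (Submodule.subset_span (by simp))
    have hew : polar Q e w = 0 := by rw [polar_comm]; exact hw e (Submodule.subset_span (by simp))
    have h := hc _ _ (by rw [mem_orth.1 hgo, he]) (by rw [orth_polar hgo, hew])
      (by rw [← siegel_conj hgo e w he hew]
          exact mul_mem (mul_mem hg (hin e w hve hvw he hew)) (inv_mem hg))
    rw [← siegel_conj hgo e w he hew] at h
    change g (siegel Q e w he hew u) ∈ _ at h
    rw [siegel_apply, hue, polar_comm Q u w, hwu] at h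
    obtain ⟨s, hs⟩ := Submodule.mem_span_singleton.1 h
    rw [← hgu, ← map_smul] at hs
    have := congrArg (fun z => polar Q z f) (g.injective hs)
    simp only [polar_smul_left', polar_add_left, polar_sub_left, huf, hef, mul_zero, mul_one] at this
    exact one_ne_zero (α := F) (by linear_combination this)
  obtain ⟨e, f, he', hf', he, hf, hef⟩ := exists_pair_of_radical (Q := Q)
    (polarPerp Q (Submodule.span F ({x, y} : Set V) ⊔ Submodule.span F {v})) (by
      set S := Submodule.span F ({x, y} : Set V) ⊔ Submodule.span F {v}
      rw [polarPerp_polarPerp hQ, inf_comm]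
      have h0 := finrank_polarPerp hQ S
      have h1 := finrank_pair_le (F := F) x y
      have h2' := finrank_span_singleton (K := F) hv0
      have h3 := Submodule.finrank_sup_add_finrank_inf_eq (Submodule.span F ({x, y} : Set V))
        (Submodule.span F {v})
      have hlt : S ⊓ polarPerp Q S < S := lt_of_le_of_ne inf_le_left fun h => hσv (by
        have hvS : v ∈ polarPerp Q S := (inf_eq_left.1 h) (Submodule.mem_sup_right (Submodule.mem_span_singleton_self v))
        rw [siegel_eq_self Q x y hx0 hxy
          (by rw [polar_comm]; exact mem_polarPerp.1 hvS x (Submodule.mem_sup_left (Submodule.subset_span (by simp))))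
          (by rw [polar_comm]; exact mem_polarPerp.1 hvS y (Submodule.mem_sup_left (Submodule.subset_span (by simp))))]
        exact Submodule.mem_span_singleton_self v)
      have h4 := Submodule.finrank_lt_finrank_of_lt hlt
      change _ + Module.finrank F S = _ at h0
      change Module.finrank F S + _ = _ at h3
      omega)
  have hSe := mem_polarPerp.1 he'
  have hSf := mem_polarPerp.1 hf'
  set σ := siegel Q x y hx0 hxy
  have hσo : σ ∈ orth Q := siegel_mem_orth Q x y hx0 hxy
  have fix : ∀ z, (∀ s ∈ Submodule.span F ({x, y} : Set V) ⊔ Submodule.span F {v}, polar Q s z = 0) →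
      σ z = z ∧ polar Q v z = 0 := fun z hz => ⟨siegel_eq_self Q x y hx0 hxy
      (by rw [polar_comm]; exact hz x (Submodule.mem_sup_left (Submodule.subset_span (by simp))))
      (by rw [polar_comm]; exact hz y (Submodule.mem_sup_left (Submodule.subset_span (by simp)))),
      hz v (Submodule.mem_sup_right (Submodule.mem_span_singleton_self v))⟩
  have main : ∀ e f, Q e = 0 → Q f = 0 → polar Q e f = 1 → σ e = e → σ f = f → polar Q v e = 0 →
      polar Q v f = 0 → Full Q M e := by
    intro e f he hf hef hse hsf hve hvf
    set u := σ.symm v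
    have hσu : σ u = v := σ.apply_symm_apply v
    have huT : u ∉ Submodule.span F ({v, e} : Set V) := fun h => by
      obtain ⟨a, b, hab⟩ := Submodule.mem_span_pair.1 h
      have h' := congrArg σ hab
      rw [hσu, map_add, map_smul, map_smul, hse] at h'
      have hfσv : polar Q (σ v) f = 0 := by rw [← hsf, orth_polar hσo]; exact hvf
      have := congrArg (fun z => polar Q z f) h'
      simp only [polar_add_left, polar_smul_left', hfσv, hef, hvf, mul_zero, zero_add, mul_one] at this
      rw [this, zero_smul, add_zero] at h'
      have ha : a ≠ 0 := fun h => hv0 (by rw [← h', h, zero_smul])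
      exact hσv (Submodule.mem_span_singleton.2 ⟨a⁻¹, by
        conv_lhs => rw [← h']
        rw [smul_smul, inv_mul_cancel₀ ha, one_smul]⟩)
    obtain ⟨w, hw, hwu⟩ := exists_polar hQ _ huT 1
    set y₀ := σ w
    have hey : polar Q e y₀ = 0 := by
      rw [← hse, orth_polar hσo, polar_comm]; exact hw e (Submodule.subset_span (by simp))
    have hyv : polar Q y₀ v = 1 := by rw [← hσu, orth_polar hσo]; exact hwu
    have hiny : SiegIn Q M e y₀ := by
      have := (hin e w hve (by rw [polar_comm]; exact hw v (Submodule.subset_span (by simp)))).conj hσ hσo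
      rwa [hse] at this
    have hee : polar Q e e = 0 := by rw [polar_self', he, mul_zero]
    have hscale : ∀ c : F, SiegIn Q M e (c • y₀) := by
      intro c
      by_cases hc : c = 0
      · rw [hc, zero_smul]; exact hin e 0 hve (polar_zero_right _ _)
      obtain ⟨h, hinv, hh⟩ := exists_pair_scale hQ hR he hf hef hc
      have hC : h ∈ commutator (orth Q) := (mem_commutator_orth_iff hQ hR h).2
        (by rw [hinv, sqClass_eq_one_of_two h2 (sqMk hc)]; rfl)
      have hhM : (h : V ≃ₗ[F] V) ∈ M := fixv _ ((mem_commutator_iff_siegelGroup hQ (by omega) h).1 hC)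
        (by rw [hh, hve, hvf]; simp)
      have hhe : (h : V ≃ₗ[F] V) e = c • e := by rw [hh, hef, hee]; module
      have h1 := hiny.conj hhM h.2
      rw [hhe, hh y₀, polar_comm Q y₀ e, hey, mul_zero, zero_smul, add_zero] at h1
      set α := (c - 1) * polar Q y₀ f
      have h3 : SiegIn Q M e (c • y₀ + (c * α) • e) := by
        intro he' hw'
        have hw'' : polar Q (c • e) (y₀ + α • e) = 0 := by
          rw [polar_smul_left', polar_add_right, polar_smul_right', hey, hee]; ring
        have := h1 (by rw [CfsgLib.Geometry.map_smul', he, mul_zero]) hw''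
        rw [siegel_smul_left e (y₀ + α • e) c he (by rw [CfsgLib.Geometry.map_smul', he, mul_zero])
          hw'' (by rw [polar_smul_right', polar_add_right, polar_smul_right', hey, hee]; ring)] at this
        convert this using 2
        module
      have := h3.add (hin e ((-(c * α)) • e) hve (by rw [polar_smul_right', hve, mul_zero])) he
        (by rw [polar_add_right, polar_smul_right', polar_smul_right', hey, hee]; ring)
        (by rw [polar_smul_right', hee, mul_zero])
      rwa [show c • y₀ + (c * α) • e + (-(c * α)) • e = c • y₀ by module] at this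
    intro z he' hez
    set c := polar Q z v
    have h1 : polar Q v (z - c • y₀) = 0 := by
      rw [polar_sub_right, polar_smul_right', polar_comm Q v y₀, hyv, mul_one, polar_comm Q v z, sub_self]
    have hfin := ((hscale c).add (hin e _ hve h1) he (by rw [polar_smul_right', hey, mul_zero])
      (by rw [polar_sub_right, polar_smul_right', hez, hey, mul_zero, sub_zero]))
    rw [add_sub_cancel] at hfin
    exact hfin he' hez
  obtain ⟨fe, hve⟩ := fix e hSe
  obtain ⟨ff, hvf⟩ := fix f hSf
  exact siegelGroup_le_of_full hQ he hf hef (main e f he hf hef fe ff hve hvf)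
    (main f e hf he (by rw [polar_comm]; exact hef) ff fe hvf hve)

end CfsgLib.OrthMax
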