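import Cfsg.Agent.Lib.OrthMax.Singular
import Cfsg.Agent.Lib.OrthMax.Line
import Cfsg.Agent.Lib.Geometry.POmegaStd
import Cfsg.Agent.Lib.Geometry.FormClass

/-! Maximality of subspace stabilisers in `omegaGL`. -/

set_option autoImplicit false

namespace CfsgLib.OrthMax

open QuadraticMap CfsgLib.Geometry

variable {F : Type*} [Field F] [Finite F]

/-- A space that is the sum of two orthogonal isometric even-dimensional halves is of plus type. -/
theorem exists_singular_half {V : Type*} [AddCommGroup V] [Module F V] [FiniteDimensional F V]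
    {Q : QuadraticForm F V} {U : Submodule F V} (hU : U ⊓ polarPerp Q U = ⊥)
    (hev : Even (Module.finrank F U)) {g : V ≃ₗ[F] V} (hg : g ∈ orth Q)
    (hgU : ∀ u ∈ U, g u ∈ polarPerp Q U) :
    ∃ S : Submodule F V, (∀ s ∈ S, Q s = 0) ∧ Module.finrank F S = Module.finrank F U := by
  classical
  set R := Q.comp U.subtype with hRdef
  have hp : ∀ x y : U, polar R x y = polar Q (x : V) (y : V) := fun x y => by
    simp [hRdef, QuadraticMap.polar]
  obtain ⟨s, hs⟩ : ∃ s : U ≃ₗ[F] U, ∀ u, R (s u) = -R u := by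
    by_cases h2 : (2 : F) = 0
    · refine ⟨LinearEquiv.refl F U, fun u => ?_⟩
      show R u = -R u
      linear_combination (R u) * h2
    · have hl : ∀ x : U, (∀ y : U, polar Q (x : V) (y : V) = 0) → x = 0 := fun x hx => by
        have hm : (x : V) ∈ U ⊓ polarPerp Q U :=
          ⟨x.2, mem_polarPerp.2 fun y hy => by rw [polar_comm]; exact hx ⟨y, hy⟩⟩
        rw [hU, Submodule.mem_bot] at hm
        exact Subtype.ext hm
      have hR : (polarBilin R).Nondegenerate :=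
        ⟨fun x hx => hl x fun y => (hp x y).symm.trans (hx y), fun y hy => hl y fun x =>
          by rw [QuadraticMap.polar_comm]; exact (hp x y).symm.trans (hy x)⟩
      have hneg : ∀ x y : U, polar (-R) x y = -polar R x y := fun x y => by
        simp [QuadraticMap.polar]; ring
      have hR' : (polarBilin (-R)).Nondegenerate :=
        ⟨fun x hx => hR.1 x fun y => neg_eq_zero.1 ((hneg x y).symm.trans (hx y)),
          fun y hy => hR.2 y fun x => neg_eq_zero.1 ((hneg x y).symm.trans (hy x))⟩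
      let b := Module.finBasis F U
      obtain ⟨s, hs⟩ := exists_isometry_of_disc h2 (-R) hR hR' rfl b b (by
        have : (Matrix.of fun i j => polar (-R) (b i) (b j)) =
            -(Matrix.of fun i j => polar R (b i) (b j)) := by
          ext i j
          exact hneg (b i) (b j)
        rw [this, Matrix.det_neg, Fintype.card_fin, hev.neg_one_pow, one_mul]
        exact ⟨_, rfl⟩)
      refine ⟨s, fun u => ?_⟩
      have := hs u
      rw [QuadraticMap.neg_apply] at this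
      exact neg_eq_iff_eq_neg.1 this
  let φ : U →ₗ[F] V := U.subtype + g.toLinearMap.comp (U.subtype.comp s.toLinearMap)
  have hφ : Function.Injective φ := by
    refine (injective_iff_map_eq_zero _).2 fun u hu => ?_
    have h : (u : V) = -g (s u) := eq_neg_of_add_eq_zero_left hu
    have hm : (u : V) ∈ U ⊓ polarPerp Q U :=
      ⟨u.2, h ▸ Submodule.neg_mem _ (hgU _ (s u).2)⟩
    rw [hU, Submodule.mem_bot] at hm
    exact Subtype.ext hm
  refine ⟨LinearMap.range φ, ?_, LinearMap.finrank_range_of_inj hφ⟩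
  rintro _ ⟨u, rfl⟩
  show Q ((u : V) + g (s u)) = 0
  rw [CfsgLib.Geometry.map_add', mem_orth.1 hg, mem_polarPerp.1 (hgU _ (s u).2) u u.2]
  have := hs u
  simp only [hRdef, QuadraticMap.comp_apply, Submodule.subtype_apply] at this
  rw [this]; ring

variable {ι : Type} [Fintype ι] [DecidableEq ι] {Q : QuadraticForm F (ι → F)}

theorem nd_of_isNondegenerateOn {W : Submodule F (ι → F)}
    (hW : Cfsg.Geo.IsNondegenerateOn (QuadraticMap.polar ⇑Q) W) : W ⊓ polarPerp Q W = ⊥ := by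
  rw [eq_bot_iff]
  rintro w ⟨hw, hw'⟩
  by_contra h0
  obtain ⟨x, hx, hxw⟩ := (hW w hw h0).1
  exact hxw (mem_polarPerp.1 hw' x hx)

theorem singular_maximal (hQ : (polarBilin Q).Nondegenerate) (hn : 5 ≤ Fintype.card ι)
    {W : Submodule F (ι → F)} (h0 : W ≠ ⊥) (hW : ∀ w ∈ W, Q w = 0)
    (hex : ∀ u ∉ W, Q u = 0 → (∀ w ∈ W, polar Q w u = 0) →
      Fintype.card ι ≠ 2 * Module.finrank F W + 2) :
    Cfsg.Geo.IsMaximalIn (Cfsg.Geo.omegaGL ⇑Q)
      (Cfsg.Geo.subspaceStabilizer W ⊓ Cfsg.Geo.omegaGL ⇑Q) := by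
  refine isMaximalIn_of_siegel hQ hn h0 (fun h => ?_) fun M hle hst hne =>
    singular_stab_max hQ hW (fun u hu h1 h2 => by simpa using hex u hu h1 h2) hle hst hne
  obtain ⟨u, hu⟩ := exists_represents hQ (by simp; omega) (1 : F)
  exact zero_ne_one ((hW u (h ▸ Submodule.mem_top)).symm.trans hu)

/-- Stabilisers of non-degenerate subspaces which cannot be swapped with their perpendicular. -/
theorem nondeg_maximal_core (hQ : (polarBilin Q).Nondegenerate)
    {W : Submodule F (ι → F)}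
    (hn : 11 ≤ Fintype.card ι ∨ ((2 : F) ≠ 0 ∧ 7 ≤ Fintype.card ι) ∨
      (10 ≤ Fintype.card ι ∧ 2 * Module.finrank F W ≠ Fintype.card ι))
    (h0 : W ≠ ⊥) (h1 : W ≠ ⊤) (hW : W ⊓ polarPerp Q W = ⊥)
    (hswap : ∀ g ∈ orth Q, ∀ _ : ∀ u ∈ W, g u ∈ polarPerp Q W, ∀ _ : 2 * Module.finrank F W = Fintype.card ι, False)
    (hexW : ¬ (Nat.card F ≤ 3 ∧ Module.finrank F W = 2 ∧ ∃ z ∈ W, z ≠ 0 ∧ Q z = 0))
    (hexP : ¬ (Nat.card F ≤ 3 ∧ Module.finrank F (polarPerp Q W) = 2 ∧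
      ∃ z ∈ polarPerp Q W, z ≠ 0 ∧ Q z = 0)) :
    Cfsg.Geo.IsMaximalIn (Cfsg.Geo.omegaGL ⇑Q)
      (Cfsg.Geo.subspaceStabilizer W ⊓ Cfsg.Geo.omegaGL ⇑Q) := by
  have hV : Module.finrank F (ι → F) = Fintype.card ι := by simp
  have hd := finrank_polarPerp hQ W
  have hWW := polarPerp_polarPerp hQ W
  refine isMaximalIn_of_siegel hQ (by omega) h0 h1 fun M hle hst hne => ?_
  have key : ∀ U : Submodule F (ι → F), U ⊓ polarPerp Q U = ⊥ →
      Module.finrank F (polarPerp Q U) ≤ Module.finrank F U →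
      (U = W ∨ U = polarPerp Q W) →
      ¬ (Nat.card F ≤ 3 ∧ Module.finrank F (polarPerp Q U) = 2 ∧
        ∃ z ∈ polarPerp Q U, z ≠ 0 ∧ Q z = 0) →
      (∀ g ∈ siegelGroup Q, (∀ u ∈ U, g u ∈ U) → g ∈ M) → (∃ g ∈ M, ∃ u ∈ U, g u ∉ U) →
      siegelGroup Q ≤ M := by
    intro U hU hbig hor hexc hst' hne'
    have hdU := finrank_polarPerp hQ U
    have hswap' : ∀ g ∈ orth Q, ∀ _ : ∀ u ∈ U, g u ∈ polarPerp Q U, False := by
      intro g hg hgU
      have hle' : Module.finrank F U ≤ Module.finrank F (polarPerp Q U) := by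
        rw [← LinearEquiv.finrank_map_eq g U]
        exact Submodule.finrank_mono (by rintro _ ⟨u, hu, rfl⟩; exact hgU u hu)
      have hhalf : 2 * Module.finrank F W = Fintype.card ι := by rcases hor with rfl | rfl <;> omega
      rcases hor with rfl | rfl
      · exact hswap g hg hgU hhalf
      · have hmap : (polarPerp Q W).map g.toLinearMap = W := by
          refine Submodule.eq_of_le_of_finrank_eq (by rintro _ ⟨u, hu, rfl⟩; exact hWW ▸ hgU u hu) ?_
          rw [LinearEquiv.finrank_map_eq]; omega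
        refine hswap g⁻¹ (inv_mem hg) (fun u hu => ?_) hhalf
        obtain ⟨w, hw, rfl⟩ := hmap.ge hu
        show g.symm (g w) ∈ _
        rwa [g.symm_apply_apply]
    rcases hn with hn | ⟨h2, hn⟩ | ⟨hn, hne10⟩
    · exact nondeg_stab_max hQ hU (by omega) hswap' hexc hle hst' hne'
    · exact nondeg_stab_max_odd h2 hQ (by omega) hU (by omega) hswap' hexc hle hst' hne'
    · have : 2 * Module.finrank F U ≠ Fintype.card ι := by rcases hor with rfl | rfl <;> omega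
      exact nondeg_stab_max hQ hU (by omega) hswap' hexc hle hst' hne'
  rcases le_total (Module.finrank F (polarPerp Q W)) (Module.finrank F W) with h | h
  · exact key W hW h (Or.inl rfl) hexP hst hne
  · refine key (polarPerp Q W) (inf_polarPerp_perp hQ hW) (by rwa [hWW]) (Or.inr rfl) (by rwa [hWW])
      (fun g hg hgU => hst g hg (maps_of_maps_perp hQ (siegelGroup_le_orth hg) hgU)) ?_
    obtain ⟨g, hg, u, hu, hgu⟩ := hne
    by_contra hc
    push Not at hc
    exact hgu (maps_of_maps_perp hQ (siegelGroup_le_orth (hle hg)) (hc g hg) u hu)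

/-- A non-degenerate subspace stabiliser is maximal once either of the two perpendicular subspaces is. -/
theorem nondeg_maximal_of_stab (hQ : (polarBilin Q).Nondegenerate) (hn : 5 ≤ Fintype.card ι)
    {W : Submodule F (ι → F)} (h0 : W ≠ ⊥) (h1 : W ≠ ⊤) {U : Submodule F (ι → F)}
    (hor : U = W ∨ U = polarPerp Q W)
    (hstab : ∀ M ≤ siegelGroup Q, (∀ g ∈ siegelGroup Q, (∀ u ∈ U, g u ∈ U) → g ∈ M) →
      (∃ g ∈ M, ∃ u ∈ U, g u ∉ U) → siegelGroup Q ≤ M) :
    Cfsg.Geo.IsMaximalIn (Cfsg.Geo.omegaGL ⇑Q)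
      (Cfsg.Geo.subspaceStabilizer W ⊓ Cfsg.Geo.omegaGL ⇑Q) := by
  refine isMaximalIn_of_siegel hQ hn h0 h1 fun M hle hst hne => ?_
  rcases hor with rfl | rfl
  · exact hstab M hle hst hne
  · refine hstab M hle (fun g hg hgU => hst g hg (maps_of_maps_perp hQ (siegelGroup_le_orth hg) hgU)) ?_
    obtain ⟨g, hg, u, hu, hgu⟩ := hne
    by_contra hc
    push Not at hc
    exact hgu (maps_of_maps_perp hQ (siegelGroup_le_orth (hle hg)) (hc g hg) u hu)

theorem nondeg_maximal_of (hQ : (polarBilin Q).Nondegenerate)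
    (hn : 11 ≤ Fintype.card ι ∨ (2 : F) ≠ 0 ∧ 7 ≤ Fintype.card ι)
    {W : Submodule F (ι → F)} (h0 : W ≠ ⊥) (h1 : W ≠ ⊤) (hW : W ⊓ polarPerp Q W = ⊥)
    (hswap : 2 * Module.finrank F W = Fintype.card ι →
      Even (Module.finrank F W) ∧ ¬ ∃ S : Submodule F (ι → F), (∀ s ∈ S, Q s = 0) ∧
        2 * Module.finrank F S = Fintype.card ι)
    (hexW : ¬ (Nat.card F ≤ 3 ∧ Module.finrank F W = 2 ∧ ∃ z ∈ W, z ≠ 0 ∧ Q z = 0))
    (hexP : ¬ (Nat.card F ≤ 3 ∧ Module.finrank F (polarPerp Q W) = 2 ∧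
      ∃ z ∈ polarPerp Q W, z ≠ 0 ∧ Q z = 0)) :
    Cfsg.Geo.IsMaximalIn (Cfsg.Geo.omegaGL ⇑Q)
      (Cfsg.Geo.subspaceStabilizer W ⊓ Cfsg.Geo.omegaGL ⇑Q) :=
  nondeg_maximal_core hQ (hn.elim Or.inl fun h => Or.inr (Or.inl h)) h0 h1 hW
    (fun g hg hgU hhalf => by
      obtain ⟨hev, hno⟩ := hswap hhalf
      obtain ⟨S, hS, hSd⟩ := exists_singular_half hW hev hg hgU
      exact hno ⟨S, hS, by omega⟩) hexW hexP

/-- Non-degenerate subspace stabilisers are maximal from dimension 11 on. -/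
theorem nondeg_maximal (hQ : (polarBilin Q).Nondegenerate) (hn : 11 ≤ Fintype.card ι)
    {W : Submodule F (ι → F)} (h0 : W ≠ ⊥) (h1 : W ≠ ⊤) (hW : W ⊓ polarPerp Q W = ⊥)
    (hswap : 2 * Module.finrank F W = Fintype.card ι →
      Even (Module.finrank F W) ∧ ¬ ∃ S : Submodule F (ι → F), (∀ s ∈ S, Q s = 0) ∧
        2 * Module.finrank F S = Fintype.card ι)
    (hexW : ¬ (Nat.card F ≤ 3 ∧ Module.finrank F W = 2 ∧ ∃ z ∈ W, z ≠ 0 ∧ Q z = 0))
    (hexP : ¬ (Nat.card F ≤ 3 ∧ Module.finrank F (polarPerp Q W) = 2 ∧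
      ∃ z ∈ polarPerp Q W, z ≠ 0 ∧ Q z = 0)) :
    Cfsg.Geo.IsMaximalIn (Cfsg.Geo.omegaGL ⇑Q)
      (Cfsg.Geo.subspaceStabilizer W ⊓ Cfsg.Geo.omegaGL ⇑Q) :=
  nondeg_maximal_of hQ (Or.inl hn) h0 h1 hW hswap hexW hexP

theorem line_maximal (hQ : (polarBilin Q).Nondegenerate) (hn : 8 ≤ Fintype.card ι) (h2 : (2 : F) = 0)
    {v : ι → F} (hv : Q v ≠ 0) :
    Cfsg.Geo.IsMaximalIn (Cfsg.Geo.omegaGL ⇑Q)
      (Cfsg.Geo.subspaceStabilizer (Submodule.span F {v}) ⊓ Cfsg.Geo.omegaGL ⇑Q) := by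
  have hv0 : v ≠ 0 := fun h => hv (by rw [h, QuadraticMap.map_zero])
  refine isMaximalIn_of_siegel hQ (by omega) (by simpa using hv0) (fun h => ?_)
    fun M hle hst hne => line_stab_max hQ (by simp; omega) h2 hv hle hst hne
  have := finrank_span_singleton (K := F) hv0
  rw [h, finrank_top] at this
  simp at this
  omega

theorem exists_plane_exclusion {n : ℕ} [Fintype F] {Q : QuadraticForm F (Fin n → F)}
    (hQ : (polarBilin Q).Nondegenerate) {W : Submodule F (Fin n → F)}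
    (hW : Cfsg.Geo.IsNondegenerateOn (QuadraticMap.polar ⇑Q) W)
    (hex : ¬ (Fintype.card F ≤ 3 ∧ (∃ U : Submodule F (Fin n → F), Module.finrank F U = 2 ∧
      Cfsg.Geo.IsNondegenerateOn (QuadraticMap.polar ⇑Q) U ∧ Cfsg.Geo.IsPlusTypeOn ⇑Q U ∧
      (U = W ∨ (Cfsg.Geo.AreOrthogonalFor (QuadraticMap.polar ⇑Q) U W ∧
        Module.finrank F U + Module.finrank F W = n))))) :
    ¬ (Nat.card F ≤ 3 ∧ Module.finrank F W = 2 ∧ ∃ z ∈ W, z ≠ 0 ∧ Q z = 0) ∧
    ¬ (Nat.card F ≤ 3 ∧ Module.finrank F (polarPerp Q W) = 2 ∧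
      ∃ z ∈ polarPerp Q W, z ≠ 0 ∧ Q z = 0) := by
  have plus : ∀ S : Submodule F (Fin n → F), Module.finrank F S = 2 →
      (∃ z ∈ S, z ≠ 0 ∧ Q z = 0) → Cfsg.Geo.IsPlusTypeOn ⇑Q S := by
    rintro S hS ⟨z, hz, hz0, hQz⟩
    refine ⟨Submodule.span F {z}, by rwa [Submodule.span_singleton_le_iff_mem], fun w hw => ?_, ?_⟩
    · obtain ⟨c, rfl⟩ := Submodule.mem_span_singleton.1 hw
      rw [CfsgLib.Geometry.map_smul', hQz, mul_zero]
    · rw [finrank_span_singleton hz0, hS]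
  refine ⟨fun ⟨hc, hd, hz⟩ => hex ⟨by rwa [← Nat.card_eq_fintype_card],
    W, hd, hW, plus W hd hz, Or.inl rfl⟩, fun ⟨hc, hd, hz⟩ => ?_⟩
  refine hex ⟨by rwa [← Nat.card_eq_fintype_card], polarPerp Q W, hd, ?_, plus _ hd hz, Or.inr
    ⟨fun u hu w hw => by rw [polar_comm]; exact mem_polarPerp.1 hu w hw, ?_⟩⟩
  · intro w hw h0
    have hbot := inf_polarPerp_perp hQ (nd_of_isNondegenerateOn hW)
    obtain ⟨x, hx, hxw⟩ : ∃ x ∈ polarPerp Q W, polar Q x w ≠ 0 := by
      by_contra hh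
      push Not at hh
      exact h0 ((Submodule.mem_bot F).1 (hbot ▸ (⟨hw, mem_polarPerp.2 hh⟩ : w ∈ _ ⊓ polarPerp Q _)))
    exact ⟨⟨x, hx, hxw⟩, ⟨x, hx, by rwa [polar_comm]⟩⟩
  · rw [finrank_polarPerp hQ W]; simp

end CfsgLib.OrthMax
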