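import Cfsg.Agent.Lib.OrthMax.Nondeg

/-! Four-dimensional non-degenerate subspaces of minus type in characteristic two. -/

set_option autoImplicit false

namespace CfsgLib.OrthMax

open QuadraticMap CfsgLib.Geometry

variable {F V : Type*} [Field F] [AddCommGroup V] [Module F V] [FiniteDimensional F V]
variable {Q : QuadraticForm F V} {M : Subgroup (V ≃ₗ[F] V)} [Finite F]

/-- Two elements outside the image of `x ↦ x² + x` differ by a member of it. -/
theorem exists_artin_diff (h2 : (2 : F) = 0) {a b : F} (ha : ∀ x : F, x * x + x ≠ a) (hb : ∀ x : F, x * x + x ≠ b) :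
    ∃ x : F, x * x + x = a + b := by
  haveI := Fintype.ofFinite F
  classical
  have hadd : ∀ x y : F, (x + y) * (x + y) + (x + y) = x * x + x + (y * y + y) := fun x y => by
    linear_combination (x * y) * h2
  let φ : F →+ F := AddMonoidHom.mk' (fun x => x * x + x) hadd
  have hker : Nat.card φ.ker ≤ 2 := by
    have hsub : (φ.ker : Set F) ⊆ ({0, -1} : Finset F) := fun x hx => by
      have hx' : x * x + x = 0 := hx
      have : x * (x + 1) = 0 := by linear_combination hx'
      rcases mul_eq_zero.1 this with h | h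
      · simp [h]
      · simp [eq_neg_of_add_eq_zero_left h]
    have := Nat.card_mono (Finset.finite_toSet _) hsub
    simp only [SetLike.coe_sort_coe, Nat.card_eq_finsetCard] at this
    exact this.trans Finset.card_le_two
  have hidx : φ.range.index ≤ 2 := by
    have h1 := φ.range.card_mul_index
    have h2' := φ.ker.card_mul_index
    rw [AddSubgroup.index_ker] at h2'
    have hpos : 0 < Nat.card φ.range := Nat.card_pos
    nlinarith
  by_cases h1 : φ.range.index = 1
  · obtain ⟨x, hx⟩ := (AddSubgroup.index_eq_one.1 h1).ge (AddSubgroup.mem_top a)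
    exact absurd hx (ha x)
  have h20 : φ.range.index = 2 := by
    have := AddSubgroup.index_ne_zero_of_finite (H := φ.range)
    omega
  exact (AddSubgroup.add_mem_iff_of_index_two h20).2 (iff_of_false (fun ⟨x, hx⟩ => ha x hx) fun ⟨x, hx⟩ => hb x hx)

/-- A unit pair of an anisotropic plane. -/
theorem exists_unit_pair (h2 : (2 : F) = 0) {T : Submodule F V} (hT : Module.finrank F T = 2)
    (han : ∀ t ∈ T, Q t = 0 → t = 0) :
    ∃ t₁ t₂, t₁ ∈ T ∧ t₂ ∈ T ∧ Q t₁ = 1 ∧ polar Q t₁ t₂ = 1 ∧ ∀ x : F, x * x + x ≠ Q t₂ := by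
  haveI := Fintype.ofFinite F
  haveI := CharTwo.of_one_ne_zero_of_two_eq_zero (one_ne_zero (α := F)) h2
  obtain ⟨t, ht, ht0⟩ := Submodule.exists_mem_ne_zero_of_ne_bot (p := T) fun e => by rw [e, finrank_bot] at hT; omega
  have hQt : Q t ≠ 0 := fun e => ht0 (han t ht e)
  obtain ⟨r, hr⟩ := FiniteField.isSquare_of_char_two (ringChar.eq F 2) (Q t)⁻¹
  set t₁ := r • t
  have h1 : Q t₁ = 1 := by
    rw [CfsgLib.Geometry.map_smul', ← hr, inv_mul_cancel₀ hQt]
  obtain ⟨s, hs, hs1⟩ : ∃ s ∈ T, polar Q t₁ s ≠ 0 := by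
    by_contra hcon
    push Not at hcon
    obtain ⟨s, hs, hst⟩ : ∃ s ∈ T, s ∉ Submodule.span F {t₁} := SetLike.not_le_iff_exists.1 fun hle => by
      have a := Submodule.finrank_mono hle
      have b : Module.finrank F (Submodule.span F {t₁}) ≤ 1 := (finrank_span_le_card _).trans (by simp)
      omega
    obtain ⟨c, hc⟩ := FiniteField.isSquare_of_char_two (ringChar.eq F 2) (Q s)
    have h0 := han (s + c • t₁) (T.add_mem hs (T.smul_mem _ (T.smul_mem _ ht))) (by
      rw [CfsgLib.Geometry.map_add', CfsgLib.Geometry.map_smul', polar_smul_right', polar_comm, hcon s hs, h1, hc]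
      linear_combination (c * c) * h2)
    exact hst (by rw [eq_neg_of_add_eq_zero_left h0, ← neg_smul]; exact Submodule.smul_mem _ _ (Submodule.mem_span_singleton_self _))
  set t₂ := (polar Q t₁ s)⁻¹ • s
  have h12 : polar Q t₁ t₂ = 1 := by rw [polar_smul_right', inv_mul_cancel₀ hs1]
  refine ⟨t₁, t₂, T.smul_mem _ ht, T.smul_mem _ hs, h1, h12, fun x hx => ?_⟩
  have h0 := han (x • t₁ + t₂) (T.add_mem (T.smul_mem _ (T.smul_mem _ ht)) (T.smul_mem _ hs)) (by
    rw [CfsgLib.Geometry.map_add', CfsgLib.Geometry.map_smul', polar_smul_left', h1, h12, mul_one, mul_one, ← hx]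
    linear_combination (x * x + x) * h2)
  have := congrArg (fun v => polar Q t₁ v) h0
  simp [polar_add_right, polar_smul_right', polar_self', h1, h12, h2] at this

/-- In a four-space without singular planes the perp of an anisotropic plane is isotropic. -/
theorem exists_singular_perp_plane (h2 : (2 : F) = 0) (hQ : (polarBilin Q).Nondegenerate) {U T : Submodule F V}
    (hd : Module.finrank F U = 4) (hTU : T ≤ U) (hT : Module.finrank F T = 2)
    (han : ∀ t ∈ T, Q t = 0 → t = 0) (hno : ∀ X ≤ U, (∀ x ∈ X, Q x = 0) → Module.finrank F X ≠ 2) :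
    ∃ e, e ∈ U ∧ e ≠ 0 ∧ Q e = 0 ∧ ∀ t ∈ T, polar Q t e = 0 := by
  set S := U ⊓ polarPerp Q T
  by_contra hcon
  push Not at hcon
  have hanS : ∀ s ∈ S, Q s = 0 → s = 0 := fun s hs h0 => by_contra fun hne => by
    obtain ⟨t, ht, htp⟩ := hcon s hs.1 hne h0
    exact htp (mem_polarPerp.1 hs.2 t ht)
  have hS : 2 ≤ Module.finrank F S := by
    have h1 := Submodule.finrank_sup_add_finrank_inf_eq U (polarPerp Q T)
    have h2' := finrank_polarPerp hQ T
    have h3 := Submodule.finrank_le (U ⊔ polarPerp Q T)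
    change _ + Module.finrank F S = _ at h1
    omega
  have hS2 : Module.finrank F S = 2 := le_antisymm (by
    by_contra hlt
    obtain ⟨v, hv, hv0, hQv⟩ := exists_singular_in (Q := Q) S (by omega)
    exact hv0 (hanS v hv hQv)) hS
  obtain ⟨t₁, t₂, ht₁, ht₂, h1, h12, ht⟩ := exists_unit_pair h2 hT han
  obtain ⟨s₁, s₂, hs₁, hs₂, g1, g12, hs⟩ := exists_unit_pair h2 hS2 hanS
  obtain ⟨η, hη⟩ := exists_artin_diff h2 ht hs
  set x₁ := t₁ + s₁
  set x₂ := t₂ + (s₂ + η • s₁)
  have hts : ∀ t ∈ T, ∀ s ∈ S, polar Q t s = 0 := fun t ht s hs => mem_polarPerp.1 hs.2 t ht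
  have hq1 : Q x₁ = 0 := by
    rw [CfsgLib.Geometry.map_add', hts t₁ ht₁ s₁ hs₁, h1, g1]; linear_combination h2
  have hq2 : Q x₂ = 0 := by
    rw [CfsgLib.Geometry.map_add' Q t₂, hts t₂ ht₂ _ (S.add_mem hs₂ (S.smul_mem _ hs₁)), CfsgLib.Geometry.map_add',
      CfsgLib.Geometry.map_smul', polar_smul_right', polar_comm Q s₂ s₁, g12, g1]
    linear_combination hη + (Q t₂ + Q s₂) * h2
  have hp : polar Q x₁ x₂ = 0 := by
    simp only [x₁, x₂, polar_add_left, polar_add_right, polar_smul_right', hts t₁ ht₁ _ hs₂, hts t₁ ht₁ _ hs₁,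
      polar_comm Q s₁ t₂, hts t₂ ht₂ _ hs₁, h12, g12, polar_self', g1]
    linear_combination (1 + η) * h2
  refine hno (Submodule.span F {x₁, x₂}) (Submodule.span_le.2 (by
    rintro y (rfl | rfl)
    · exact U.add_mem (hTU ht₁) hs₁.1
    · exact U.add_mem (hTU ht₂) (U.add_mem hs₂.1 (U.smul_mem _ hs₁.1)))) (fun y hy => ?_) ?_
  · obtain ⟨p, q, rfl⟩ := Submodule.mem_span_pair.1 hy
    rw [CfsgLib.Geometry.map_add', CfsgLib.Geometry.map_smul', CfsgLib.Geometry.map_smul', polar_smul_left',
      polar_smul_right', hq1, hq2, hp]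
    ring
  · have hli : LinearIndependent F ![x₁, x₂] := LinearIndependent.pair_iff.2 fun p q hpq => by
      have e1 := congrArg (fun v => polar Q t₁ v) hpq
      have e2 := congrArg (fun v => polar Q t₂ v) hpq
      simp [x₁, x₂, polar_add_right, polar_smul_right', hts t₁ ht₁ _ hs₂, hts t₁ ht₁ _ hs₁, hts t₂ ht₂ _ hs₁,
        hts t₂ ht₂ _ hs₂, h12, polar_self', h1, h2, polar_comm Q t₂ t₁] at e1 e2
      exact ⟨by linear_combination e2 - 0 * e1, e1⟩
    have h := finrank_span_eq_card hli
    rwa [Matrix.range_cons_cons_empty, Fintype.card_fin] at h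

/-- In characteristic two four dimensions of minus type suffice. -/
theorem nondeg_stab_max_four (h2 : (2 : F) = 0) (hQ : (polarBilin Q).Nondegenerate) (hn : 5 ≤ Module.finrank F V)
    {U : Submodule F V} (hU : U ⊓ polarPerp Q U = ⊥) (hd : Module.finrank F U = 4)
    (hno : ∀ X ≤ U, (∀ x ∈ X, Q x = 0) → Module.finrank F X ≠ 2)
    (hswap : ∀ g ∈ orth Q, ∀ _ : ∀ u ∈ U, g u ∈ polarPerp Q U, False)
    (hexc : ¬ (Nat.card F ≤ 3 ∧ Module.finrank F (polarPerp Q U) = 2 ∧
      ∃ z ∈ polarPerp Q U, z ≠ 0 ∧ Q z = 0))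
    (hle : M ≤ siegelGroup Q) (hst : ∀ g ∈ siegelGroup Q, (∀ u ∈ U, g u ∈ U) → g ∈ M)
    (hne : ∃ g ∈ M, ∃ u ∈ U, g u ∉ U) : siegelGroup Q ≤ M := by
  rcases siegelGroup_le_or_pair hQ hn hU hd.ge hswap hexc hle hst hne with h | ⟨g, hg, -, hpt, v, hv, hv0, hgv, -⟩
  · exact h
  have hgo := siegelGroup_le_orth (hle hg)
  have hself : ∀ x, polar Q x x = 0 := fun x => by rw [polar_self', h2, zero_mul]
  have hneg : ∀ x : F, -x = x := fun x => by linear_combination -x * h2
  -- the part of `U` kept in `U`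
  set T₀ := U ⊓ U.comap g.toLinearMap
  have hT₀ : ∀ {t}, t ∈ T₀ ↔ t ∈ U ∧ g t ∈ U := Iff.rfl
  have han : ∀ t ∈ T₀, Q t = 0 → t = 0 := fun t ht h0 => by_contra fun hne => hpt t ht.1 hne h0 ht.2
  have hd1 : 1 ≤ Module.finrank F T₀ :=
    Submodule.one_le_finrank_iff.2 ((Submodule.ne_bot_iff _).2 ⟨v, ⟨hv, hgv⟩, hv0⟩)
  have hd2 : Module.finrank F T₀ ≤ 2 := by
    by_contra hlt
    obtain ⟨x, hx, hx0, hQx⟩ := exists_singular_in (Q := Q) T₀ (by omega)
    exact hx0 (han x hx hQx)
  -- a Siegel element keeping the part in `U` of a singular vector, but not `T₀`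
  have fin : ∀ u a e w : V, u ∈ U → u ≠ 0 → Q u = 0 → a ∈ U → (∀ x ∈ U, polar Q a x = polar Q (g.symm u) x) →
      e ∈ U → w ∈ U → ∀ (he : Q e = 0) (hew : polar Q e w = 0), polar Q a e = 0 → polar Q a w = 0 →
      (∃ t ∈ T₀, siegel Q e w he hew t ∉ T₀) → siegelGroup Q ≤ M := by
    intro u a e w huU hu0 hQu haU ha heU hwU he hew hae haw ⟨t, ht, hkt⟩
    set k := siegel Q e w he hew
    have hkU := siegel_maps (U := U) heU hwU he hew
    have hk : k ∈ M := hst _ (siegel_mem e w he hew) hkU
    have hmem : g * k * g⁻¹ ∈ M := mul_mem (mul_mem hg hk) (inv_mem hg)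
    refine siegelGroup_le_of_point hQ hn hU hd.ge hexc hle hst hmem ⟨g t, ht.2, ?_⟩ huU hu0 hQu ?_
    · show g (k (g.symm (g t))) ∉ U
      rw [g.symm_apply_apply]
      exact fun h => hkt (hT₀.2 ⟨hkU t ht.1, h⟩)
    · show g (k (g.symm u)) ∈ U
      rw [siegel_eq_self Q e w he hew (by rw [← ha e heU, hae]) (by rw [← ha w hwU, haw]), g.apply_symm_apply]
      exact huU
  have proj : ∀ u : V, ∃ a ∈ U, ∀ x ∈ U, polar Q a x = polar Q (g.symm u) x := fun u => exists_proj hQ hU _
  choose P hPU hP using proj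
  have hPt : ∀ u, ∀ t ∈ T₀, polar Q (P u) t = polar Q u (g t) := fun u t ht => by
    rw [hP u t ht.1, ← orth_polar hgo, g.apply_symm_apply]
  have hnd : ∀ x ∈ U, (∀ y ∈ U, polar Q x y = 0) → x = 0 := fun x hx h => by
    have : x ∈ U ⊓ polarPerp Q U := ⟨hx, mem_polarPerp.2 fun y hy => by rw [polar_comm]; exact h y hy⟩
    rwa [hU, Submodule.mem_bot] at this
  have hPadd : ∀ x y, P (x + y) = P x + P y := fun x y => sub_eq_zero.1 (hnd _
    (U.sub_mem (hPU _) (U.add_mem (hPU _) (hPU _))) fun z hz => by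
      rw [polar_sub_left, polar_add_left, hP _ z hz, hP _ z hz, hP _ z hz, map_add, polar_add_left, sub_self])
  have hPsmul : ∀ (c : F) x, P (c • x) = c • P x := fun c x => sub_eq_zero.1 (hnd _
    (U.sub_mem (hPU _) (U.smul_mem _ (hPU _))) fun z hz => by
      rw [polar_sub_left, polar_smul_left', hP _ z hz, hP _ z hz, map_smul, polar_smul_left', sub_self])
  let PL : V →ₗ[F] V := { toFun := P, map_add' := hPadd, map_smul' := hPsmul }
  have hperp1 : ∀ (X : Submodule F V) (t : V), Module.finrank F X ≤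
      Module.finrank F ↥(X ⊓ polarPerp Q (Submodule.span F {t})) + 1 := fun X t => by
    have h1 := Submodule.finrank_sup_add_finrank_inf_eq X (polarPerp Q (Submodule.span F {t}))
    have h2' := finrank_polarPerp hQ (Submodule.span F {t})
    have h3 := Submodule.finrank_le (X ⊔ polarPerp Q (Submodule.span F {t}))
    have h4 : Module.finrank F (Submodule.span F {t}) ≤ 1 := (finrank_span_le_card _).trans (by simp)
    omega
  have hs1 : ∀ {X : Submodule F V} {t y : V}, y ∈ X ⊓ polarPerp Q (Submodule.span F {t}) →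
      y ∈ X ∧ polar Q t y = 0 := fun hy => ⟨hy.1, mem_polarPerp.1 hy.2 _ (Submodule.mem_span_singleton_self _)⟩
  rcases (show Module.finrank F T₀ = 1 ∨ Module.finrank F T₀ = 2 by omega) with h1 | h2'
  · -- a single line
    have hvT : v ∈ T₀ := ⟨hv, hgv⟩
    have hT₀v : ∀ y ∈ T₀, y ∈ Submodule.span F {v} := fun y hy => by
      rw [Submodule.eq_of_le_of_finrank_le ((Submodule.span_singleton_le_iff_mem _ _).2 hvT)
        (by rw [finrank_span_singleton hv0]; omega)]
      exact hy
    obtain ⟨u, huU, hu0, hQu, hav⟩ : ∃ u ∈ U, u ≠ 0 ∧ Q u = 0 ∧ (P u ∈ Submodule.span F {v} → P u = 0) := by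
      by_contra hcon
      push Not at hcon
      -- the singular vectors span
      obtain ⟨e₁, he₁U, he₁00, he₁0⟩ := exists_singular_in (Q := Q) U (by omega)
      obtain ⟨f₁, hf₁U, hf₁0, hef₁⟩ := exists_partner_mem hQ hU he₁U he₁00 he₁0
      have hsing : ∀ y ∈ U, Q y = 0 → P y ∈ Submodule.span F {v} := fun y hy hQy => by
        by_cases hy0 : y = 0
        · rw [hy0, show P 0 = 0 from PL.map_zero]; exact zero_mem _
        · exact (hcon y hy hy0 hQy).1
      have hall : ∀ y ∈ U, P y ∈ Submodule.span F {v} := fun y hy => by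
        set r := y - polar Q f₁ y • e₁ - polar Q e₁ y • f₁
        have hrU : r ∈ U := U.sub_mem (U.sub_mem hy (U.smul_mem _ he₁U)) (U.smul_mem _ hf₁U)
        have hre : polar Q e₁ r = 0 := by
          simp only [r, polar_sub_right, polar_smul_right', polar_self', he₁0, hef₁]; ring
        have hrf : polar Q f₁ r = 0 := by
          simp only [r, polar_sub_right, polar_smul_right', polar_self', hf₁0, polar_comm Q f₁ e₁, hef₁]; ring
        have hz := hsing (r - Q r • e₁ + f₁) (U.add_mem (U.sub_mem hrU (U.smul_mem _ he₁U)) hf₁U) (by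
          simp only [CfsgLib.Geometry.map_add', CfsgLib.Geometry.map_sub', CfsgLib.Geometry.map_smul', polar_sub_left,
            polar_smul_left', polar_smul_right', he₁0, hf₁0, hef₁, polar_comm Q r e₁, hre, polar_comm Q r f₁, hrf]
          ring)
        have he := hsing e₁ he₁U he₁0
        have hf := hsing f₁ hf₁U hf₁0
        have e : P y = P (r - Q r • e₁ + f₁) + (Q r + polar Q f₁ y) • P e₁ + (polar Q e₁ y - 1) • P f₁ := by
          rw [← hPsmul, ← hPsmul, ← hPadd, ← hPadd]
          congr 1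
          simp only [r]
          module
        rw [e]
        exact add_mem (add_mem hz (Submodule.smul_mem _ _ he)) (Submodule.smul_mem _ _ hf)
      refine hv0 (g.map_eq_zero_iff.1 (hnd _ hgv fun y hy => ?_))
      obtain ⟨c, hc⟩ := Submodule.mem_span_singleton.1 (hall y hy)
      rw [polar_comm, ← hPt y v hvT, ← hc, polar_smul_left', hself, mul_zero]
    set a := P u
    have hvU := hvT.1
    -- the vector of the root group
    obtain ⟨e, w, heU, hwU, he, hew, hae, haw, hmove⟩ : ∃ e w, e ∈ U ∧ w ∈ U ∧ Q e = 0 ∧ polar Q e w = 0 ∧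
        polar Q a e = 0 ∧ polar Q a w = 0 ∧
        ((polar Q v e ≠ 0 ∧ w ∉ Submodule.span F {e}) ∨ (polar Q v e = 0 ∧ polar Q v w ≠ 0 ∧ e ≠ 0)) := by
      set Z := U ⊓ polarPerp Q (Submodule.span F {a})
      have hZ : 3 ≤ Module.finrank F Z := by have := hperp1 U a; change _ ≤ Module.finrank F Z + 1 at this; omega
      have hmZ : ∀ {y}, y ∈ Z → y ∈ U ∧ polar Q a y = 0 := fun hy => hs1 hy
      have pick : ∀ e ∈ Z, e ≠ 0 → Q e = 0 → (polar Q v e ≠ 0 ∨ ∃ w ∈ Z, polar Q e w = 0 ∧ polar Q v w ≠ 0) →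
          ∃ e w, e ∈ U ∧ w ∈ U ∧ Q e = 0 ∧ polar Q e w = 0 ∧ polar Q a e = 0 ∧ polar Q a w = 0 ∧
            ((polar Q v e ≠ 0 ∧ w ∉ Submodule.span F {e}) ∨ (polar Q v e = 0 ∧ polar Q v w ≠ 0 ∧ e ≠ 0)) := by
        intro e he he0 hQe h
        by_cases hve : polar Q v e = 0
        · obtain ⟨w, hw, hew, hvw⟩ := h.resolve_left (not_not.2 hve)
          exact ⟨e, w, (hmZ he).1, (hmZ hw).1, hQe, hew, (hmZ he).2, (hmZ hw).2, Or.inr ⟨hve, hvw, he0⟩⟩
        · obtain ⟨w, hw, hwe⟩ : ∃ w ∈ Z ⊓ polarPerp Q (Submodule.span F {e}), w ∉ Submodule.span F {e} :=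
            SetLike.not_le_iff_exists.1 fun hle' => by
              have h1 := Submodule.finrank_mono hle'
              have h3 := hperp1 Z e
              rw [finrank_span_singleton he0] at h1
              omega
          obtain ⟨hwZ, hew⟩ := hs1 hw
          exact ⟨e, w, (hmZ he).1, (hmZ hwZ).1, hQe, hew, (hmZ he).2, (hmZ hwZ).2, Or.inl ⟨hve, hwe⟩⟩
      by_cases ha0 : a ≠ 0 ∧ Q a = 0
      · refine pick a ⟨hPU u, mem_polarPerp.2 fun y hy => ?_⟩ ha0.1 ha0.2 ?_
        · obtain ⟨c, rfl⟩ := Submodule.mem_span_singleton.1 hy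
          rw [polar_smul_left', hself, mul_zero]
        refine or_iff_not_imp_left.2 fun hva => ?_
        by_contra hcon
        push Not at hcon
        obtain ⟨y, hy, hyv⟩ := exists_polar hQ (Submodule.span F {a})
          (x := v) (fun hm => hpt v hvU hv0 (by
            obtain ⟨c, rfl⟩ := Submodule.mem_span_singleton.1 hm
            rw [CfsgLib.Geometry.map_smul', ha0.2, mul_zero]) hgv) 1
        obtain ⟨y', hy'U, hy'⟩ := exists_proj hQ hU y
        have hy'a : polar Q a y' = 0 := by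
          rw [polar_comm, hy' a (hPU u)]; exact hy a (Submodule.mem_span_singleton_self a)
        have hy'v : polar Q v y' = 1 := by rw [polar_comm, hy' v hvU]; exact hyv
        refine one_ne_zero (α := F) (hy'v.symm.trans (hcon y' ⟨hy'U, mem_polarPerp.2 fun z hz => ?_⟩ hy'a))
        obtain ⟨c, rfl⟩ := Submodule.mem_span_singleton.1 hz
        rw [polar_smul_left', hy'a, mul_zero]
      obtain ⟨e₁, he₁, he₁0, hQe₁⟩ := exists_singular_in (Q := Q) Z hZ
      by_cases hve : polar Q v e₁ = 0
      swap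
      · exact pick e₁ he₁ he₁0 hQe₁ (Or.inl hve)
      by_cases hw : ∃ w ∈ Z, polar Q e₁ w = 0 ∧ polar Q v w ≠ 0
      · exact pick e₁ he₁ he₁0 hQe₁ (Or.inr hw)
      push Not at hw
      -- the partner
      obtain ⟨y, hy, hy1⟩ := exists_polar hQ (Submodule.span F {a}) (x := e₁) (fun hm => by
        obtain ⟨c, hc⟩ := Submodule.mem_span_singleton.1 hm
        rw [← hc, CfsgLib.Geometry.map_smul', mul_eq_zero] at hQe₁
        refine ha0 ⟨fun e => he₁0 (by rw [← hc, e, smul_zero]), hQe₁.resolve_left fun e => he₁0 ?_⟩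
        rw [← hc, mul_self_eq_zero.1 e, zero_smul]) 1
      obtain ⟨y', hy'U, hy'⟩ := exists_proj hQ hU y
      set f := y' - Q y' • e₁
      have hfe : polar Q e₁ f = 1 := by
        rw [polar_sub_right, polar_smul_right', hself, mul_zero, sub_zero, polar_comm, hy' e₁ (hmZ he₁).1]; exact hy1
      have hQf : Q f = 0 := by
        have hye : polar Q y' e₁ = 1 := by rw [hy' e₁ (hmZ he₁).1]; exact hy1
        simp only [f, CfsgLib.Geometry.map_sub', CfsgLib.Geometry.map_smul', polar_smul_right', hQe₁, hye]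
        ring
      have hfa : polar Q a f = 0 := by
        rw [polar_sub_right, polar_smul_right', (hmZ he₁).2, polar_comm, hy' a (hPU u)]
        simp [hy a (Submodule.mem_span_singleton_self a)]
      have hfZ : f ∈ Z := ⟨U.sub_mem hy'U (U.smul_mem _ (hmZ he₁).1), mem_polarPerp.2 fun z hz => by
        obtain ⟨c, rfl⟩ := Submodule.mem_span_singleton.1 hz
        rw [polar_smul_left', hfa, mul_zero]⟩
      refine pick f hfZ (fun e => one_ne_zero (α := F) (hfe.symm.trans (by rw [e, polar_zero_right]))) hQf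
        (Or.inl fun hvf => hv0 ?_)
      -- otherwise `v` is orthogonal to all of `Z`, hence a multiple of `a`
      have hvZ : ∀ z ∈ Z, polar Q v z = 0 := fun z hz => by
        have hz' := hw (z - polar Q e₁ z • f) (Z.sub_mem hz (Z.smul_mem _ hfZ))
          (by rw [polar_sub_right, polar_smul_right', hfe, mul_one, sub_self])
        rwa [polar_sub_right, polar_smul_right', hvf, mul_zero, sub_zero] at hz'
      have hva : v ∈ Submodule.span F {a} := by
        by_contra hm
        obtain ⟨y₂, hy₂, hy₂v⟩ := exists_polar hQ (Submodule.span F {a}) hm 1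
        obtain ⟨y₃, hy₃U, hy₃⟩ := exists_proj hQ hU y₂
        have := hvZ y₃ ⟨hy₃U, mem_polarPerp.2 fun z hz => by
          obtain ⟨c, rfl⟩ := Submodule.mem_span_singleton.1 hz
          rw [polar_smul_left', polar_comm, hy₃ a (hPU u), hy₂ a (Submodule.mem_span_singleton_self a), mul_zero]⟩
        rw [polar_comm, hy₃ v hvU, hy₂v] at this
        exact one_ne_zero this
      obtain ⟨c, hc⟩ := Submodule.mem_span_singleton.1 hva
      by_cases hc0 : c = 0
      · rw [← hc, hc0, zero_smul]
      · exfalso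
        have ha' := hav (Submodule.mem_span_singleton.2 ⟨c⁻¹, by rw [← hc, smul_smul, inv_mul_cancel₀ hc0, one_smul]⟩)
        exact hv0 (by rw [← hc, show a = 0 from ha', smul_zero])
    refine fin u a e w huU hu0 hQu (hPU u) (hP u) heU hwU he hew hae haw ⟨v, hvT, fun hmem => ?_⟩
    obtain ⟨c, hc⟩ := Submodule.mem_span_singleton.1 (hT₀v _ hmem)
    rw [siegel_apply] at hc
    rcases hmove with ⟨hve, hwe⟩ | ⟨hve, hvw, he0⟩
    · have e1 := congrArg (fun y => polar Q e y) hc
      simp only [polar_smul_right', polar_add_right, polar_sub_right, hew, hself, mul_zero, sub_zero, add_zero,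
        polar_comm Q e v] at e1
      rw [show c = 1 from mul_right_cancel₀ hve (by rw [one_mul]; exact e1), one_smul, sub_sub, ← add_smul] at hc
      refine hwe (Submodule.mem_span_singleton.2 ⟨(polar Q v e)⁻¹ * (polar Q v w + Q w * polar Q v e), ?_⟩)
      rw [eq_comm, add_sub_assoc, add_eq_left, sub_eq_zero] at hc
      rw [mul_smul, ← hc, inv_smul_smul₀ hve]
    · rw [hve, mul_zero, zero_smul, zero_smul, add_zero, sub_zero] at hc
      have e1 : polar Q v w • e = (1 - c) • v := by rw [sub_smul, one_smul, hc, sub_sub_cancel]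
      have e2 := congrArg Q e1
      rw [CfsgLib.Geometry.map_smul', CfsgLib.Geometry.map_smul', he, mul_zero] at e2
      have hQv : Q v ≠ 0 := fun h0 => hv0 (han v hvT h0)
      rw [mul_self_eq_zero.1 ((mul_eq_zero.1 e2.symm).resolve_right hQv), zero_smul] at e1
      exact smul_ne_zero hvw he0 e1
  · -- a plane
    obtain ⟨e, heU, he0, hQe, hTe⟩ := exists_singular_perp_plane h2 hQ hd inf_le_left h2' han hno
    set T := T₀.map g.toLinearMap
    set S := U ⊓ polarPerp Q T
    have hTd : Module.finrank F T = 2 := by rw [LinearEquiv.finrank_map_eq, h2']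
    have hSd : 2 ≤ Module.finrank F S := by
      have h3 := Submodule.finrank_sup_add_finrank_inf_eq U (polarPerp Q T)
      have h4 := finrank_polarPerp hQ T
      have h5 := Submodule.finrank_le (U ⊔ polarPerp Q T)
      change _ + Module.finrank F S = _ at h3
      omega
    obtain ⟨t₁, t₂, ht₁, ht₂, hq1, h12, -⟩ := exists_unit_pair h2 h2' han
    -- a vector perpendicular to the image plane whose part is on the singular line
    obtain ⟨s, hs, hs0, lam, hlam⟩ : ∃ s ∈ S, s ≠ 0 ∧ ∃ lam : F, P s = lam • e := by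
      have hmem : ∀ s ∈ S, P s ∈ U ⊓ polarPerp Q T₀ := fun s hs => ⟨hPU s, mem_polarPerp.2 fun t ht => by
        rw [polar_comm, hPt s t ht, polar_comm]; exact mem_polarPerp.1 hs.2 _ ⟨t, ht, rfl⟩⟩
      by_contra hcon
      push Not at hcon
      let f : S →ₗ[F] V := PL ∘ₗ S.subtype
      have hfi : Function.Injective f := (injective_iff_map_eq_zero _).2 fun s hs => by
        by_contra hs0
        exact hcon s s.2 (fun e' => hs0 (Subtype.ext e')) 0 (by rw [zero_smul]; exact hs)
      have hS0d : Module.finrank F (U ⊓ polarPerp Q T₀ : Submodule F V) ≤ 2 := by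
        have hdisj : T₀ ⊓ (U ⊓ polarPerp Q T₀) = ⊥ := eq_bot_iff.2 fun y hy => (Submodule.mem_bot F).2 (by
          have hyv : ∀ t ∈ T₀, polar Q t y = 0 := mem_polarPerp.1 hy.2.2
          obtain ⟨p, q, hpq⟩ : ∃ p q : F, p • t₁ + q • t₂ = y := by
            have hli : LinearIndependent F ![t₁, t₂] := LinearIndependent.pair_iff.2 fun p q hpq => by
              have e1 := congrArg (fun x => polar Q t₁ x) hpq
              have e2 := congrArg (fun x => polar Q t₂ x) hpq
              simp [polar_add_right, polar_smul_right', hself, h12, polar_comm Q t₂ t₁] at e1 e2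
              exact ⟨e2, e1⟩
            have h := finrank_span_eq_card hli
            rw [Matrix.range_cons_cons_empty, Fintype.card_fin] at h
            refine Submodule.mem_span_pair.1 ?_
            rw [Submodule.eq_of_le_of_finrank_le (Submodule.span_le.2 (by
              rintro x (rfl | rfl); exacts [ht₁, ht₂])) (by rw [h, h2'])]
            exact hy.1
          have e1 := hyv t₁ ht₁
          have e2 := hyv t₂ ht₂
          rw [← hpq] at e1 e2
          simp [polar_add_right, polar_smul_right', hself, h12, polar_comm Q t₂ t₁] at e1 e2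
          rw [← hpq, e1, e2]; simp)
        have h3 := Submodule.finrank_sup_add_finrank_inf_eq T₀ (U ⊓ polarPerp Q T₀)
        have h4 := Submodule.finrank_mono (show T₀ ⊔ (U ⊓ polarPerp Q T₀) ≤ U from sup_le inf_le_left inf_le_left)
        rw [hdisj, finrank_bot] at h3
        omega
      have hle' : LinearMap.range f ≤ U ⊓ polarPerp Q T₀ := by
        rintro _ ⟨s, rfl⟩; exact hmem s s.2
      have hr : LinearMap.range f = U ⊓ polarPerp Q T₀ := Submodule.eq_of_le_of_finrank_le hle'
        (by rw [LinearMap.finrank_range_of_inj hfi]; omega)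
      obtain ⟨s, hse⟩ := (hr ▸ (⟨heU, mem_polarPerp.2 hTe⟩ : e ∈ U ⊓ polarPerp Q T₀) : e ∈ LinearMap.range f)
      refine hcon s s.2 (fun e' => he0 ?_) 1 (by rw [one_smul]; exact hse)
      rw [← hse]; simp [f, e']
    haveI := Fintype.ofFinite F
    haveI := CharTwo.of_one_ne_zero_of_two_eq_zero (one_ne_zero (α := F)) h2
    obtain ⟨r, hr⟩ := FiniteField.isSquare_of_char_two (ringChar.eq F 2) (Q s)
    set t₀ := r • t₁
    have ht₀ : t₀ ∈ T₀ := T₀.smul_mem _ ht₁
    set u := g t₀ + s
    have hgts : polar Q (g t₀) s = 0 := mem_polarPerp.1 hs.2 _ ⟨t₀, ht₀, rfl⟩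
    have hQu : Q u = 0 := by
      rw [CfsgLib.Geometry.map_add', hgts, mem_orth.1 hgo, CfsgLib.Geometry.map_smul', hq1, ← hr]
      linear_combination (Q s) * h2
    have hu0 : u ≠ 0 := fun h0 => hs0 (by
      have e1 := congrArg (fun x => polar Q (g t₂) x) h0
      simp only [u, polar_add_right, orth_polar hgo, t₀, polar_smul_right', polar_comm Q t₂ t₁, h12, polar_zero_right,
        mem_polarPerp.1 hs.2 (g t₂) ⟨t₂, ht₂, rfl⟩, add_zero, mul_one] at e1
      simpa [u, t₀, e1] using h0)
    have ha : ∀ x ∈ U, polar Q (t₀ + lam • e) x = polar Q (g.symm u) x := fun x hx => by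
      rw [← hlam, map_add, g.symm_apply_apply, polar_add_left, polar_add_left, hP s x hx]
    refine fin u (t₀ + lam • e) e t₁ (U.add_mem ht₀.2 hs.1) hu0 hQu (U.add_mem ht₀.1 (U.smul_mem _ heU)) ha heU ht₁.1
      hQe (by rw [polar_comm]; exact hTe t₁ ht₁) ?_ ?_ ⟨t₂, ht₂, fun hm => he0 ?_⟩
    · rw [polar_add_left, polar_smul_left', polar_smul_left', hTe t₁ ht₁, hself]; simp
    · rw [polar_add_left, polar_smul_left', polar_smul_left', hself, polar_comm Q e t₁, hTe t₁ ht₁]; simp
    · rw [siegel_apply, hTe t₂ ht₂, mul_zero, zero_smul, zero_smul, add_zero, sub_zero, polar_comm Q t₂ t₁, h12,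
        one_smul] at hm
      have := T₀.sub_mem ht₂ hm
      rw [sub_sub_cancel] at this
      exact han e this hQe

end CfsgLib.OrthMax
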