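import Cfsg.Agent.Lib.Geometry.GeoOmega
import Cfsg.Agent.Lib.Geometry.OmegaMem

/-!
Generation criteria for `Ω(Q)`: root subgroups at two non-orthogonal singular points, and
irreducibility of the Siegel elements of a non-degenerate subspace.
-/

set_option autoImplicit false

namespace CfsgLib.OrthMax

open QuadraticMap CfsgLib.Geometry

variable {F V : Type*} [Field F] [AddCommGroup V] [Module F V]
variable (Q : QuadraticForm F V)

/-- `M` contains the whole Siegel group of the singular vector `e`. -/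
def Full (M : Subgroup (V ≃ₗ[F] V)) (e : V) : Prop :=
  ∀ (w : V) (he : Q e = 0) (hw : polar Q e w = 0), siegel Q e w he hw ∈ M

variable {Q} {M : Subgroup (V ≃ₗ[F] V)}

theorem Full.smul {e : V} (h : Full Q M e) (he : Q e = 0) (t : F) : Full Q M (t • e) := by
  intro w hte hw
  rw [siegel_smul_left e w t he hte hw (by rwa [polar_smul_right', ← polar_smul_left'])]
  exact h _ he _

theorem siegel_zero_left {w : V} (he : Q (0 : V) = 0) (hw : polar Q 0 w = 0) :
    siegel Q 0 w he hw = 1 :=
  LinearEquiv.ext fun v => by simp [siegel_apply, polar_zero_right]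

theorem Full.image {e : V} (h : Full Q M e) {g : V ≃ₗ[F] V} (hgM : g ∈ M) (hg : g ∈ orth Q) :
    Full Q M (g e) := by
  intro w hge hgw
  have he : Q e = 0 := by rw [← mem_orth.1 hg e]; exact hge
  have hw : polar Q e (g.symm w) = 0 := by
    rw [← orth_polar hg, g.apply_symm_apply]; exact hgw
  have := mul_mem (mul_mem hgM (h _ he hw)) (inv_mem hgM)
  rw [siegel_conj hg] at this
  simpa using this

/-- Moving one full point by the root group of another. -/
theorem Full.move {a b z : V} (ha : Q a = 0) (hb : Q b = 0) (hz : Q z = 0)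
    (hA : Full Q M a) (hB : Full Q M b) (hab : polar Q a b ≠ 0) (haz : polar Q a z ≠ 0) :
    Full Q M z := by
  set a' := (polar Q a z)⁻¹ • a
  set b' := (polar Q a' b)⁻¹ • b
  have hab' : polar Q a' b ≠ 0 := by
    simp only [a', polar_smul_left']; exact mul_ne_zero (inv_ne_zero haz) hab
  have ha' : Q a' = 0 := by simp only [a', CfsgLib.Geometry.map_smul', ha, mul_zero]
  have hb' : Q b' = 0 := by simp only [b', CfsgLib.Geometry.map_smul', hb, mul_zero]
  have h1 : polar Q a' z = 1 := by
    simp only [a', polar_smul_left']; exact inv_mul_cancel₀ haz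
  have h2 : polar Q a' b' = 1 := by
    simp only [b', polar_smul_right']; exact inv_mul_cancel₀ hab'
  have hw : polar Q a' (z - b') = 0 := by rw [polar_sub_right, h1, h2, sub_self]
  have hs : siegel Q a' (z - b') ha' hw b' = z := by
    rw [siegel_apply, polar_comm Q b' a', h2, CfsgLib.Geometry.map_sub', polar_sub_right, polar_self', hb', hz,
      polar_comm Q z b']
    module
  have := (hB.smul hb (polar Q a' b)⁻¹).image (hA.smul ha (polar Q a z)⁻¹ (z - b') ha' hw)
    (siegel_mem_orth Q a' _ ha' hw)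
  rwa [hs] at this

variable [FiniteDimensional F V]

/-- Root groups at a hyperbolic pair generate the whole Siegel group. -/
theorem siegelGroup_le_of_full (hQ : (polarBilin Q).Nondegenerate) {e f : V} (he : Q e = 0)
    (hf : Q f = 0) (hef : polar Q e f = 1) (hE : Full Q M e) (hF : Full Q M f) :
    siegelGroup Q ≤ M := by
  rw [siegelGroup, Subgroup.closure_le]
  rintro _ ⟨z, w, hz, hw, rfl⟩
  suffices h : Full Q M z from h w hz hw
  by_cases hz0 : z = 0
  · subst hz0
    intro w' hz' hw'
    rw [siegel_zero_left hz' hw']; exact one_mem M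
  have hfe : polar Q f e = 1 := by rw [polar_comm]; exact hef
  have hef0 : polar Q e f ≠ 0 := by rw [hef]; exact one_ne_zero
  by_cases h1 : polar Q e z ≠ 0
  · exact Full.move he hf hz hE hF hef0 h1
  push Not at h1
  by_cases h2 : polar Q f z ≠ 0
  · exact Full.move hf he hz hF hE (by rw [hfe]; exact one_ne_zero) h2
  push Not at h2
  have hzT : z ∉ Submodule.span F ({e, f} : Set V) := by
    intro hm
    obtain ⟨a, b, rfl⟩ := Submodule.mem_span_pair.1 hm
    simp [polar_add_right, polar_smul_right', polar_self', he, hf, hef, hfe] at h1 h2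
    exact hz0 (by simp [h1, h2])
  obtain ⟨u, hu, huz⟩ := exists_polar hQ _ hzT 1
  have hue : polar Q u e = 0 := hu e (Submodule.subset_span (by simp))
  have huf : polar Q u f = 0 := hu f (Submodule.subset_span (by simp))
  set y := (-(Q u)) • e + f + u
  have hy : Q y = 0 := by
    simp only [y, CfsgLib.Geometry.map_add', CfsgLib.Geometry.map_smul', he, hf, polar_add_left, polar_smul_left', hef,
      polar_comm Q e u, polar_comm Q f u, hue, huf]
    ring
  have hey : polar Q e y = 1 := by
    simp only [y, polar_add_right, polar_smul_right', polar_self', he, hef, polar_comm Q e u, hue]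
    ring
  have hyz : polar Q y z = 1 := by
    simp only [y, polar_add_left, polar_smul_left', h1, h2, huz]
    ring
  have hY : Full Q M y := Full.move he hf hy hE hF hef0 (by rw [hey]; exact one_ne_zero)
  exact Full.move hy he hz hY hE (by rw [polar_comm, hey]; exact one_ne_zero)
    (by rw [hyz]; exact one_ne_zero)

theorem le_polarPerp_polarPerp (X : Submodule F V) : X ≤ polarPerp Q (polarPerp Q X) :=
  fun x hx => mem_polarPerp.2 fun u hu => by rw [polar_comm]; exact mem_polarPerp.1 hu x hx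

theorem polarPerp_polarPerp (hQ : (polarBilin Q).Nondegenerate) (X : Submodule F V) :
    polarPerp Q (polarPerp Q X) = X := by
  refine (Submodule.eq_of_le_of_finrank_le (le_polarPerp_polarPerp X) ?_).symm
  have := finrank_polarPerp hQ X
  have := finrank_polarPerp hQ (polarPerp Q X)
  omega

/-- A subspace large compared with its radical contains a hyperbolic pair. -/
theorem exists_pair_of_radical [Finite F] (P : Submodule F V)
    (h : Module.finrank F ↥(P ⊓ polarPerp Q P) + 3 ≤ Module.finrank F P) :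
    ∃ e f, e ∈ P ∧ f ∈ P ∧ Q e = 0 ∧ Q f = 0 ∧ polar Q e f = 1 := by
  set R := P ⊓ polarPerp Q P
  obtain ⟨C, hC⟩ := Submodule.exists_isCompl R
  set N := P ⊓ C
  have hsup : R ⊔ N = P := by
    refine le_antisymm (sup_le inf_le_left inf_le_left) fun p hp => ?_
    have : p ∈ R ⊔ C := hC.sup_eq_top ▸ trivial
    obtain ⟨r, hr, c, hc, hrc⟩ := Submodule.mem_sup.1 this
    refine Submodule.mem_sup.2 ⟨r, hr, c, ⟨?_, hc⟩, hrc⟩
    rw [show c = p - r by rw [← hrc]; abel]
    exact P.sub_mem hp hr.1
  have hN : N ⊓ polarPerp Q N = ⊥ := by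
    rw [eq_bot_iff]
    rintro n ⟨hn, hn'⟩
    have hnR : n ∈ R := ⟨hn.1, mem_polarPerp.2 fun p hp => by
      rw [← hsup] at hp
      obtain ⟨r, hr, m, hm, rfl⟩ := Submodule.mem_sup.1 hp
      rw [polar_add_left, polar_comm Q r n, mem_polarPerp.1 hr.2 n hn.1, mem_polarPerp.1 hn' m hm,
        add_zero]⟩
    have : n ∈ R ⊓ C := ⟨hnR, hn.2⟩
    rwa [hC.inf_eq_bot] at this
  have hdim : 3 ≤ Module.finrank F N := by
    have h1 := Submodule.finrank_sup_add_finrank_inf_eq R N
    rw [hsup] at h1
    omega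
  have hp : ∀ x y : N, polar (Q.comp N.subtype) x y = polar Q (x : V) (y : V) := fun x y => by
    simp [QuadraticMap.polar]
  have hl : ∀ x : N, (∀ y : N, polar Q (x : V) (y : V) = 0) → x = 0 := fun x hx => by
    have hm : (x : V) ∈ N ⊓ polarPerp Q N :=
      ⟨x.2, mem_polarPerp.2 fun y hy => by rw [polar_comm]; exact hx ⟨y, hy⟩⟩
    rw [hN, Submodule.mem_bot] at hm
    exact Subtype.ext hm
  have hQN : (polarBilin (Q.comp N.subtype)).Nondegenerate :=
    ⟨fun x hx => hl x fun y => (hp x y).symm.trans (hx y), fun y hy => hl y fun x =>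
      by rw [QuadraticMap.polar_comm]; exact (hp x y).symm.trans (hy x)⟩
  obtain ⟨e, he0, he⟩ := exists_singular hQN hdim
  obtain ⟨f, hf, hef, -⟩ := exists_partner hQN ⊥ (by simpa using he0) he
    (fun z hz => by rw [(Submodule.mem_bot F).1 hz, QuadraticMap.polar_zero_right])
  exact ⟨e, f, e.2.1, f.2.1, he, hf, (hp e f).symm.trans hef⟩

/-- Every subspace of dimension at least three is isotropic. -/
theorem exists_singular_in [Finite F] (P : Submodule F V) (hd : 3 ≤ Module.finrank F P) : ∃ v ∈ P, v ≠ 0 ∧ Q v = 0 := by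
  classical
  by_cases hR : P ⊓ polarPerp Q P = ⊥
  · obtain ⟨e, f, he, -, he0, -, hef⟩ := exists_pair_of_radical (Q := Q) P (by rw [hR, finrank_bot]; omega)
    exact ⟨e, he, fun e' => by rw [e', polar_zero_left] at hef; exact zero_ne_one hef, he0⟩
  obtain ⟨r, hr, hr0⟩ := Submodule.exists_mem_ne_zero_of_ne_bot hR
  by_cases hQr : Q r = 0
  · exact ⟨r, hr.1, hr0, hQr⟩
  have h2 : (2 : F) = 0 := by
    have := mem_polarPerp.1 hr.2 r hr.1
    rw [polar_self'] at this
    exact (mul_eq_zero.1 this).resolve_right hQr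
  obtain ⟨w, hw, hwr⟩ : ∃ w ∈ P, w ∉ Submodule.span F {r} := by
    refine SetLike.not_le_iff_exists.1 fun hle => ?_
    have h1 := Submodule.finrank_mono hle
    have h3 : Module.finrank F (Submodule.span F {r}) ≤ 1 := (finrank_span_le_card _).trans (by simp)
    omega
  haveI := CharTwo.of_one_ne_zero_of_two_eq_zero (one_ne_zero (α := F)) h2
  haveI := Fintype.ofFinite F
  obtain ⟨s, hs⟩ := FiniteField.isSquare_of_char_two (ringChar.eq F 2) (Q w / Q r)
  refine ⟨w + s • r, P.add_mem hw (P.smul_mem _ hr.1), fun e => hwr ?_, ?_⟩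
  · rw [eq_neg_of_add_eq_zero_left e, ← neg_smul]
    exact Submodule.smul_mem _ _ (Submodule.mem_span_singleton_self r)
  · rw [CfsgLib.Geometry.map_add', CfsgLib.Geometry.map_smul', polar_smul_right', mem_polarPerp.1 hr.2 w hw, ← hs, div_mul_cancel₀ _ hQr, mul_zero,
      add_zero, CharTwo.add_self_eq_zero]

/-- A hyperbolic pair of a non-degenerate subspace orthogonal to a small set of vectors. -/
theorem exists_pair_perp [Finite F] (hQ : (polarBilin Q).Nondegenerate) {U : Submodule F V}
    (hU : U ⊓ polarPerp Q U = ⊥) (S : Submodule F V)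
    (h : 2 * Module.finrank F S + 3 ≤ Module.finrank F U) :
    ∃ e f, e ∈ U ∧ f ∈ U ∧ Q e = 0 ∧ Q f = 0 ∧ polar Q e f = 1 ∧
      (∀ s ∈ S, polar Q s e = 0) ∧ ∀ s ∈ S, polar Q s f = 0 := by
  set P := U ⊓ polarPerp Q S with hP
  have h1 := Submodule.finrank_sup_add_finrank_inf_eq U (polarPerp Q S)
  rw [← hP] at h1
  have h2 := finrank_polarPerp hQ S
  have h3 := Submodule.finrank_le (U ⊔ polarPerp Q S)
  have h4 : Module.finrank F ↥(P ⊓ polarPerp Q P) + Module.finrank F P ≤ Module.finrank F U := by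
    have hle : P ⊓ polarPerp Q P ≤ polarPerp Q (polarPerp Q U ⊔ P) := by
      rintro r ⟨hr, hr'⟩
      refine mem_polarPerp.2 fun x hx => ?_
      obtain ⟨a, ha, b, hb, rfl⟩ := Submodule.mem_sup.1 hx
      rw [polar_add_left, mem_polarPerp.1 hr' b hb, polar_comm, mem_polarPerp.1 ha r hr.1, add_zero]
    have hd : polarPerp Q U ⊓ P = ⊥ := by
      rw [eq_bot_iff]
      rintro x ⟨hx, hx'⟩
      exact hU.le ⟨hx'.1, hx⟩
    have h5 := Submodule.finrank_mono hle
    have h6 := finrank_polarPerp hQ (polarPerp Q U ⊔ P)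
    have h7 := Submodule.finrank_sup_add_finrank_inf_eq (polarPerp Q U) P
    have h8 := finrank_polarPerp hQ U
    rw [hd, finrank_bot] at h7
    omega
  obtain ⟨e, f, he, hf, he', hf', hef⟩ := exists_pair_of_radical (Q := Q) P (by omega)
  exact ⟨e, f, he.1, hf.1, he', hf', hef, fun s hs => mem_polarPerp.1 he.2 s hs,
    fun s hs => mem_polarPerp.1 hf.2 s hs⟩

/-- A subspace invariant under the Siegel elements of a non-degenerate `U` is orthogonal to `U`
or contains it. -/
theorem le_of_siegel_invariant [Finite F] (hQ : (polarBilin Q).Nondegenerate) {U : Submodule F V}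
    (hU : U ⊓ polarPerp Q U = ⊥) (hdim : 5 ≤ Module.finrank F U) (X : Submodule F V)
    (hX : ∀ e ∈ U, ∀ w ∈ U, ∀ (he : Q e = 0) (hw : polar Q e w = 0), ∀ x ∈ X,
      siegel Q e w he hw x ∈ X)
    {x : V} (hx : x ∈ X) {u : V} (hu : u ∈ U) (hxu : polar Q x u ≠ 0) : U ≤ X := by
  have step : ∀ y ∈ X, ∀ g ∈ U, Q g = 0 → polar Q y g = 0 →
      ∀ w ∈ U, polar Q g w = 0 → polar Q y w ≠ 0 → g ∈ X := by
    intro y hy g hg hg0 hyg w hw hgw hyw
    have h := X.sub_mem (hX g hg w hw hg0 hgw y hy) hy
    rw [siegel_apply, hyg, mul_zero, zero_smul, zero_smul, add_zero, sub_zero,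
      sub_sub_cancel_left] at h
    have h' := X.smul_mem (-(polar Q y w)⁻¹) h
    rwa [smul_neg, neg_smul, neg_neg, smul_smul, inv_mul_cancel₀ hyw, one_smul] at h'
  obtain ⟨f₁, f₂, hf₁, hf₂, h₁, h₂, h12, hx₁, hx₂⟩ := exists_pair_perp hQ hU (Submodule.span F {x})
    (by
      have := finrank_span_le_card (R := F) ({x} : Set V)
      simp only [Set.toFinset_singleton, Finset.card_singleton] at this
      omega)
  have hx₁' := hx₁ x (Submodule.mem_span_singleton_self x)
  have hx₂' := hx₂ x (Submodule.mem_span_singleton_self x)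
  have h21 : polar Q f₂ f₁ = 1 := by rw [polar_comm]; exact h12
  have hX1 : f₁ ∈ X := step x hx f₁ hf₁ h₁ hx₁' (u - polar Q f₁ u • f₂)
    (U.sub_mem hu (U.smul_mem _ hf₂))
    (by rw [polar_sub_right, polar_smul_right', h12, mul_one, sub_self])
    (by rw [polar_sub_right, polar_smul_right', hx₂', mul_zero, sub_zero]; exact hxu)
  have hX2 : f₂ ∈ X := step x hx f₂ hf₂ h₂ hx₂' (u - polar Q f₂ u • f₁)
    (U.sub_mem hu (U.smul_mem _ hf₁))
    (by rw [polar_sub_right, polar_smul_right', h21, mul_one, sub_self])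
    (by rw [polar_sub_right, polar_smul_right', hx₁', mul_zero, sub_zero]; exact hxu)
  have hsing : ∀ z ∈ U, Q z = 0 → z ∈ X := by
    intro z hz hz0
    obtain ⟨y, hy, hyU, hyz, hy0⟩ : ∃ y, y ∈ X ∧ y ∈ U ∧ polar Q y z = 0 ∧ y ≠ 0 := by
      by_cases h : polar Q f₁ z = 0
      · exact ⟨f₁, hX1, hf₁, h, fun h0 => by simp [h0, polar_zero_left] at h12⟩
      · refine ⟨polar Q f₂ z • f₁ - polar Q f₁ z • f₂, X.sub_mem (X.smul_mem _ hX1) (X.smul_mem _ hX2),
          U.sub_mem (U.smul_mem _ hf₁) (U.smul_mem _ hf₂), ?_, fun h0 => h ?_⟩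
        · rw [polar_sub_left, polar_smul_left', polar_smul_left']; ring
        · have := congrArg (fun v => polar Q v f₁) h0
          simpa [polar_sub_left, polar_smul_left', polar_self', h₁, h21] using this
    by_cases hys : y ∈ Submodule.span F {z}
    · obtain ⟨c, rfl⟩ := Submodule.mem_span_singleton.1 hys
      have hc : c ≠ 0 := fun h => hy0 (by rw [h, zero_smul])
      simpa [smul_smul, inv_mul_cancel₀ hc] using X.smul_mem c⁻¹ hy
    have hy' : y ∉ Submodule.span F {z} ⊔ polarPerp Q U := fun hm => by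
      obtain ⟨a, ha, b, hb, rfl⟩ := Submodule.mem_sup.1 hm
      have hbU : b ∈ U := by
        obtain ⟨c, rfl⟩ := Submodule.mem_span_singleton.1 ha
        simpa using U.sub_mem hyU (U.smul_mem c hz)
      have hb0 : b ∈ U ⊓ polarPerp Q U := ⟨hbU, hb⟩
      rw [hU, Submodule.mem_bot] at hb0
      exact hys (by rw [hb0, add_zero]; exact ha)
    obtain ⟨w, hw, hwy⟩ := exists_polar hQ _ hy' 1
    refine step y hy z hz hz0 hyz w ?_ ?_ (by rw [polar_comm, hwy]; exact one_ne_zero)
    · rw [← polarPerp_polarPerp hQ U]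
      exact mem_polarPerp.2 fun a ha => by rw [polar_comm]; exact hw a (Submodule.mem_sup_right ha)
    · rw [polar_comm]; exact hw z (Submodule.mem_sup_left (Submodule.mem_span_singleton_self z))
  intro v hv
  set v' := v - polar Q v f₂ • f₁ - polar Q v f₁ • f₂
  have hv'U : v' ∈ U := U.sub_mem (U.sub_mem hv (U.smul_mem _ hf₁)) (U.smul_mem _ hf₂)
  have e1 : polar Q v' f₁ = 0 := by
    simp only [v', polar_sub_left, polar_smul_left', polar_self', h₁, h21]; ring
  have e2 : polar Q v' f₂ = 0 := by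
    simp only [v', polar_sub_left, polar_smul_left', polar_self', h₂, h12]; ring
  have hs : v' + f₁ - Q v' • f₂ ∈ X :=
    hsing _ (U.sub_mem (U.add_mem hv'U hf₁) (U.smul_mem _ hf₂)) (by
      rw [CfsgLib.Geometry.map_sub', CfsgLib.Geometry.map_add', CfsgLib.Geometry.map_smul', polar_smul_right', polar_add_left, e1, e2, h₁, h₂, h12]; ring)
  have : v' ∈ X := by
    have h := X.add_mem (X.sub_mem hs hX1) (X.smul_mem (Q v') hX2)
    rwa [show v' + f₁ - Q v' • f₂ - f₁ + Q v' • f₂ = v' by abel] at h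
  have h := X.add_mem (X.add_mem this (X.smul_mem (polar Q v f₂) hX1))
    (X.smul_mem (polar Q v f₁) hX2)
  rwa [show v' + polar Q v f₂ • f₁ + polar Q v f₁ • f₂ = v by simp only [v']; abel] at h

/-- No proper subspace meeting the orthogonal of nothing is fixed by all Siegel elements. -/
theorem exists_siegel_notMem [Finite F] (hQ : (polarBilin Q).Nondegenerate)
    (hn : 5 ≤ Module.finrank F V) (X : Submodule F V) (h0 : X ≠ ⊥) (h1 : X ≠ ⊤) :
    ∃ g ∈ siegelGroup Q, ∃ x ∈ X, g x ∉ X := by
  by_contra hc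
  push Not at hc
  obtain ⟨x, hx, hx0⟩ := Submodule.exists_mem_ne_zero_of_ne_bot h0
  obtain ⟨u, -, hux⟩ := exists_polar hQ ⊥ (show x ∉ (⊥ : Submodule F V) by simpa using hx0) 1
  have hbot : polarPerp Q (⊤ : Submodule F V) = ⊥ := by
    have := finrank_polarPerp hQ (⊤ : Submodule F V)
    rw [finrank_top] at this
    exact Submodule.finrank_eq_zero.1 (by omega)
  refine h1 (eq_top_iff.2 ?_)
  exact le_of_siegel_invariant hQ (by rw [hbot, inf_bot_eq]) (by rw [finrank_top]; exact hn) X
    (fun e _ w _ he hw y hy => hc _ (siegel_mem e w he hw) y hy) hx (Submodule.mem_top (x := u))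
    (by rw [polar_comm, hux]; exact one_ne_zero)

end CfsgLib.OrthMax
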