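import Cfsg.Agent.Lib.OrthMax.DecompFour
import Cfsg.Agent.Lib.OrthMax.DecompBridge
import Cfsg.Agent.Lib.Geometry.GeoOmega
import Cfsg.Agent.Lib.AschbacherOrth.OddRows

/-! Decomposition stabilisers are maximal, all part dimensions from two on. -/

set_option autoImplicit false
set_option linter.unusedSectionVars false
set_option linter.style.haveILetI false

namespace CfsgLib.OrthMax

open Cfsg QuadraticMap CfsgLib.Geometry

variable {F : Type*} [Field F] [Fintype F] {ι : Type} [Fintype ι] [DecidableEq ι]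
variable {Q : QuadraticForm F (ι → F)} {t k : ℕ} {D : Fin t → Submodule F (ι → F)}

theorem plus_transfer (hD : Cfsg.Geo.IsOrthogonalMDecomposition (⇑Q) k D) {i : Fin t}
    (h : Cfsg.Geo.IsPlusTypeOn (⇑Q) (D i)) (j : Fin t) : Cfsg.Geo.IsPlusTypeOn (⇑Q) (D j) := by
  obtain ⟨U, hUD, hU, hdim⟩ := h
  obtain ⟨e, he⟩ := hD.isometric i j
  refine ⟨((U.comap (D i).subtype).map e.toLinearMap).map (D j).subtype, Submodule.map_subtype_le _ _, ?_, ?_⟩
  · rintro _ ⟨w, ⟨u, hu, rfl⟩, rfl⟩
    show Q (e u : ι → F) = 0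
    rw [he]
    exact hU _ hu
  · rw [Submodule.finrank_map_subtype_eq, LinearEquiv.finrank_map_eq,
      (Submodule.comapSubtypeEquivOfLe hUD).finrank_eq, hdim, hD.decomp.decomp.finrank_eq, hD.decomp.decomp.finrank_eq]

theorem aniso_of_not_plus (hD : Cfsg.Geo.IsOrthogonalMDecomposition (⇑Q) 2 D) {i : Fin t}
    (h : ¬ Cfsg.Geo.IsPlusTypeOn (⇑Q) (D i)) : ∀ v ∈ D i, Q v = 0 → v = 0 := by
  intro v hv hQv
  by_contra hv0
  refine h ⟨Submodule.span F {v}, (Submodule.span_singleton_le_iff_mem _ _).2 hv, fun u hu => ?_, ?_⟩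
  · obtain ⟨c, rfl⟩ := Submodule.mem_span_singleton.1 hu
    rw [CfsgLib.Geometry.map_smul', hQv, mul_zero]
  · rw [finrank_span_singleton hv0, hD.decomp.decomp.finrank_eq]

theorem no_singular_line_of_not_plus (hD : Cfsg.Geo.IsOrthogonalMDecomposition (⇑Q) 4 D) {i : Fin t}
    (h : ¬ Cfsg.Geo.IsPlusTypeOn (⇑Q) (D i)) :
    ∀ a ∈ D i, ∀ b ∈ D i, Q a = 0 → Q b = 0 → polar Q a b = 0 → a ≠ 0 → b ∈ Submodule.span F {a} := by
  intro a ha b hb hQa hQb hab ha0
  by_contra hb0
  refine h ⟨Submodule.span F ({a, b} : Set (ι → F)), Submodule.span_le.2 ?_, fun u hu => ?_, ?_⟩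
  · rintro z (rfl | rfl)
    · exact ha
    · exact hb
  · obtain ⟨c, d, rfl⟩ := Submodule.mem_span_pair.1 hu
    rw [CfsgLib.Geometry.map_add', CfsgLib.Geometry.map_smul', CfsgLib.Geometry.map_smul', polar_smul_left',
      polar_smul_right', hQa, hQb, hab]
    ring
  · have h1 : LinearIndependent F ![a, b] :=
      (LinearIndependent.pair_iff' ha0).2 fun c hc => hb0 (Submodule.mem_span_singleton.2 ⟨c, hc⟩)
    have h2 := finrank_span_eq_card h1
    rw [Matrix.range_cons, Matrix.range_cons, Matrix.range_empty, Set.union_empty, Set.singleton_union,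
      Fintype.card_fin] at h2
    rw [h2, hD.decomp.decomp.finrank_eq]

/-- Maximality for every part dimension from two on. -/
theorem decomp_all_maximal_of_nine (hQ : (polarBilin Q).Nondegenerate) (hι : 9 ≤ Fintype.card ι)
    (hD : Cfsg.Geo.IsOrthogonalMDecomposition (⇑Q) k D) (hk : 2 ≤ k)
    (h2 : k = 2 → 7 ≤ Fintype.card F ∨ (Fintype.card F ≠ 3 ∧ ∀ i, ¬ Cfsg.Geo.IsPlusTypeOn (⇑Q) (D i)))
    (h3 : k = 3 → Odd (Fintype.card F) ∧ Fintype.card F ≠ 3)
    (h4 : k = 4 → Fintype.card F ≠ 2 ∨ ∀ i, ¬ Cfsg.Geo.IsPlusTypeOn (⇑Q) (D i)) :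
    Cfsg.Geo.IsMaximalIn (Cfsg.Geo.omegaGL (⇑Q))
      (Cfsg.Geo.decompositionStabilizer D ⊓ Cfsg.Geo.omegaGL (⇑Q)) := by
  classical
  have hcard := decomp_card hD.decomp.decomp
  have ht : k = 2 → 5 ≤ t := fun e => by rw [e] at hcard; omega
  refine decomp_maximal hQ (by omega) hD ?_ fun hP hiso N hN hst hne => ?_
  · rcases eq_or_lt_of_le hk with e | e
    · exact Or.inr (le_trans (by norm_num) (ht e.symm))
    · exact Or.inl e
  have hn : 5 ≤ Module.finrank F (ι → F) := by simp; omega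
  have hfin := fun l => hD.decomp.decomp.finrank_eq l
  have hF1 := Fintype.one_lt_card (α := F)
  rcases Nat.lt_or_ge k 5 with hk5 | hk5
  swap
  · exact decomp_stab_max hP hN hst hn hiso (fun l => by rw [hfin l]; omega)
      (fun l => Or.inl (by rw [hfin l]; omega)) hne
  interval_cases k
  · refine TwoCtx.decomp_two_stab_max ⟨⟨hP, hfin, ?_⟩, hN, hst, hn, hiso, by simpa using ht rfl⟩ hne
    rw [Nat.card_eq_fintype_card]
    exact (h2 rfl).imp id fun ⟨a, b⟩ => ⟨a, fun i => aniso_of_not_plus hD (b i)⟩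
  · obtain ⟨hodd, hq3⟩ := h3 rfl
    have hne2 : (2 : F) ≠ 0 := CfsgLib.AschbacherOrth.two_ne_of_odd hodd
    have hq4 : 4 ≤ Fintype.card F := by
      obtain ⟨c, hc⟩ := hodd
      omega
    exact decomp_three_stab_max hP hN hst hn hiso (fun l => (hfin l).ge) hne2 (exists_sq_ne_one hq4)
      (by simp; omega) hne
  · by_cases hq : Fintype.card F = 2
    · have hnp := (h4 rfl).resolve_left (fun e => e hq)
      refine decomp_four_stab_max hP hN hst hn hiso (fun l => (hfin l).ge) (fun s => ?_)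
        (fun l => no_singular_line_of_not_plus hD (hnp l)) (by simp; omega) hne
      by_contra hs
      push Not at hs
      have : ({0, 1, s} : Finset F).card = 3 := by
        rw [Finset.card_insert_of_notMem (by simp [hs.1.symm]), Finset.card_pair hs.2.symm]
      have := Finset.card_le_univ ({0, 1, s} : Finset F)
      omega
    · refine decomp_stab_max hP hN hst hn hiso (fun l => (hfin l).ge) (fun l => Or.inr fun α β hα => ?_) hne
      by_contra hc
      push Not at hc
      have hs : (Finset.univ : Finset F) ⊆ {0, -β / α} := fun s _ => by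
        rcases mul_eq_zero.1 (show s * (β + s * α) = 0 by linear_combination hc s) with e | e
        · simp [e]
        · have : s = -β / α := by rw [eq_div_iff hα]; linear_combination e
          simp [this]
      have := (Finset.card_le_card hs).trans Finset.card_le_two
      rw [Finset.card_univ] at this
      omega

/-- Maximality for every part dimension from two on, in dimension at least ten. -/
theorem decomp_all_maximal (hQ : (polarBilin Q).Nondegenerate) (hι : 10 ≤ Fintype.card ι)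
    (hD : Cfsg.Geo.IsOrthogonalMDecomposition (⇑Q) k D) (hk : 2 ≤ k)
    (h2 : k = 2 → 7 ≤ Fintype.card F ∨ (Fintype.card F ≠ 3 ∧ ∀ i, ¬ Cfsg.Geo.IsPlusTypeOn (⇑Q) (D i)))
    (h3 : k = 3 → Odd (Fintype.card F) ∧ Fintype.card F ≠ 3)
    (h4 : k = 4 → Fintype.card F ≠ 2 ∨ ∀ i, ¬ Cfsg.Geo.IsPlusTypeOn (⇑Q) (D i)) :
    Cfsg.Geo.IsMaximalIn (Cfsg.Geo.omegaGL (⇑Q))
      (Cfsg.Geo.decompositionStabilizer D ⊓ Cfsg.Geo.omegaGL (⇑Q)) :=
  decomp_all_maximal_of_nine hQ (Nat.le_of_succ_le hι) hD hk h2 h3 h4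

end CfsgLib.OrthMax
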