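import Cfsg.Agent.Lib.OrthMax.Unitary

/-! Orthogonal decompositions: components, local elements, and spreading of root groups. -/

set_option autoImplicit false
set_option linter.unusedSectionVars false
set_option linter.unusedVariables false
set_option linter.unusedSimpArgs false
set_option linter.deprecated false
set_option linter.style.haveILetI false

namespace CfsgLib.OrthMax

open QuadraticMap CfsgLib.Geometry

variable {F V κ : Type*} [Field F] [Finite F] [AddCommGroup V] [Module F V] [FiniteDimensional F V]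
variable [Fintype κ] [DecidableEq κ]
variable {Q : QuadraticForm F V} {M : Subgroup (V ≃ₗ[F] V)} {D : κ → Submodule F V}

/-- Pairwise orthogonal non-degenerate parts spanning the space. -/
structure OrthParts (Q : QuadraticForm F V) (D : κ → Submodule F V) : Prop where
  nd : ∀ l, D l ⊓ polarPerp Q (D l) = ⊥
  orth : ∀ i j, i ≠ j → ∀ u ∈ D i, ∀ v ∈ D j, polar Q u v = 0
  top : iSup D = ⊤
  gram : (polarBilin Q).Nondegenerate

/-- Each part is mapped into a part. -/
def KeepsParts (D : κ → Submodule F V) (g : V ≃ₗ[F] V) : Prop := ∀ i, ∃ j, ∀ v ∈ D i, g v ∈ D j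

/-- The component in a part. -/
noncomputable def prPart {Q : QuadraticForm F V} {D : κ → Submodule F V} (h : OrthParts Q D) (l : κ) : V →ₗ[F] V :=
  (D l).subtype ∘ₗ Submodule.projectionOnto (D l) (polarPerp Q (D l))
    ⟨disjoint_iff.2 (h.nd l), codisjoint_iff.2 (sup_polarPerp_eq_top h.gram (h.nd l))⟩

namespace OrthParts

variable (h : OrthParts Q D)

theorem pr_mem (l : κ) (v : V) : prPart h l v ∈ D l := by
  simp only [prPart, LinearMap.coe_comp, Function.comp_apply, Submodule.subtype_apply]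
  exact Submodule.coe_mem _

theorem pr_of_mem {l : κ} {v : V} (hv : v ∈ D l) : prPart h l v = v := by
  simp only [prPart, LinearMap.coe_comp, Function.comp_apply, Submodule.subtype_apply]
  exact congrArg Subtype.val (Submodule.projectionOnto_apply_left _ ⟨v, hv⟩)

theorem pr_of_perp {l : κ} {v : V} (hv : v ∈ polarPerp Q (D l)) : prPart h l v = 0 := by
  simp only [prPart, LinearMap.coe_comp, Function.comp_apply, Submodule.subtype_apply]
  rw [Submodule.projectionOnto_apply_of_mem_right _ hv, Submodule.coe_zero]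

theorem pr_other {i l : κ} (hil : i ≠ l) {v : V} (hv : v ∈ D i) : prPart h l v = 0 :=
  h.pr_of_perp (mem_polarPerp.2 fun u hu => h.orth l i hil.symm u hu v hv)

theorem sub_pr_mem (l : κ) (v : V) : v - prPart h l v ∈ polarPerp Q (D l) := by
  have hm : v ∈ D l ⊔ polarPerp Q (D l) := by rw [sup_polarPerp_eq_top h.gram (h.nd l)]; trivial
  obtain ⟨a, ha, b, hb, rfl⟩ := Submodule.mem_sup.1 hm
  rw [map_add, h.pr_of_mem ha, h.pr_of_perp hb, add_zero, add_sub_cancel_left]
  exact hb

include h in
theorem eq_zero_of_perp {v : V} (hv : ∀ l, ∀ u ∈ D l, polar Q u v = 0) : v = 0 := by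
  refine h.gram.2 v fun x => ?_
  have hx : x ∈ ⨆ l, D l := h.top ▸ Submodule.mem_top
  show polar Q x v = 0
  induction hx using Submodule.iSup_induction' with
  | mem i y hy => exact hv i y hy
  | zero => exact polar_zero_left _ _
  | add a b _ _ ha hb => rw [polar_add_left, ha, hb, add_zero]

theorem polar_pr {l : κ} {a : V} (ha : a ∈ D l) (v : V) : polar Q a (prPart h l v) = polar Q a v := by
  have := mem_polarPerp.1 (h.sub_pr_mem l v) a ha
  rw [polar_sub_right, sub_eq_zero] at this
  exact this.symm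

theorem polar_pr' {l : κ} {a : V} (ha : a ∈ D l) (v : V) : polar Q (prPart h l v) a = polar Q v a := by
  rw [QuadraticMap.polar_comm, h.polar_pr ha, QuadraticMap.polar_comm]

theorem sum_pr (v : V) : ∑ l, prPart h l v = v := by
  refine sub_eq_zero.1 (h.eq_zero_of_perp fun l u hu => ?_)
  rw [polar_sub_right, ← polarBilin_apply_apply, map_sum, Finset.sum_eq_single l, polarBilin_apply_apply,
    h.polar_pr hu, sub_self]
  · intro j _ hj
    exact h.orth l j hj.symm u hu _ (h.pr_mem j v)
  · simp

theorem ext_pr {v w : V} (hvw : ∀ l, prPart h l v = prPart h l w) : v = w := by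
  rw [← h.sum_pr v, ← h.sum_pr w]; exact Finset.sum_congr rfl fun l _ => hvw l

theorem Q_eq (v : V) : Q v = ∑ l, Q (prPart h l v) := by
  have key : ∀ s : Finset κ, Q (∑ l ∈ s, prPart h l v) = ∑ l ∈ s, Q (prPart h l v) := by
    intro s
    induction s using Finset.induction with
    | empty => simp
    | insert a s has ih =>
      rw [Finset.sum_insert has, Finset.sum_insert has, CfsgLib.Geometry.map_add', ih, ← polarBilin_apply_apply, map_sum,
        show ∑ j ∈ s, polarBilin Q (prPart h a v) (prPart h j v) = 0 from Finset.sum_eq_zero fun j hj =>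
          h.orth a j (fun e => has (e ▸ hj)) _ (h.pr_mem a v) _ (h.pr_mem j v), add_zero]
  conv_lhs => rw [← h.sum_pr v]
  exact key _

theorem mem_iff {l : κ} {v : V} : v ∈ D l ↔ ∀ j, j ≠ l → prPart h j v = 0 := by
  refine ⟨fun hv j hj => h.pr_other hj.symm hv, fun hv => ?_⟩
  rw [← h.sum_pr v, Finset.sum_eq_single l (fun j _ hj => hv j hj) (by simp)]
  exact h.pr_mem l v

include h in
theorem perp_maps {l : κ} {g : V ≃ₗ[F] V} (hg : g ∈ Geometry.orth Q)
    (hfix : ∀ v ∈ polarPerp Q (D l), g v = v) : ∀ v ∈ D l, g v ∈ D l :=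
  maps_of_maps_perp h.gram hg fun w hw => by rw [hfix w hw]; exact hw

include h in
theorem keeps_of_local {l : κ} {g : V ≃ₗ[F] V} (hg : g ∈ Geometry.orth Q)
    (hfix : ∀ v ∈ polarPerp Q (D l), g v = v) : KeepsParts D g := fun i => ⟨i, fun v hv => by
  by_cases hil : i = l
  · subst hil; exact h.perp_maps hg hfix v hv
  · rwa [hfix v (mem_polarPerp.2 fun u hu => h.orth l i (Ne.symm hil) u hu v hv)]⟩

include h in
/-- A singular vector of a part pairing with a given one. -/
theorem exists_partner_in {l : κ} {a : V} (ha : a ∈ D l) (ha0 : a ≠ 0) (hQa : Q a = 0) :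
    ∃ f ∈ D l, Q f = 0 ∧ polar Q a f = 1 := by
  obtain ⟨p, hp, hpa⟩ : ∃ p ∈ D l, polar Q a p ≠ 0 := by
    by_contra hc
    push Not at hc
    exact ha0 ((Submodule.mem_bot F).1 (h.nd l ▸ (⟨ha, mem_polarPerp.2 fun u hu => by
      rw [QuadraticMap.polar_comm]; exact hc u hu⟩ : a ∈ D l ⊓ polarPerp Q (D l))))
  refine ⟨(polar Q a p)⁻¹ • (p - (Q p * (polar Q a p)⁻¹) • a), (D l).smul_mem _ ((D l).sub_mem hp ((D l).smul_mem _ ha)),
    ?_, ?_⟩
  · rw [CfsgLib.Geometry.map_smul', CfsgLib.Geometry.map_sub', CfsgLib.Geometry.map_smul', hQa, polar_smul_right', QuadraticMap.polar_comm Q p a]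
    field_simp
    ring
  · rw [polar_smul_right', polar_sub_right, polar_smul_right', polar_self', hQa, mul_zero, mul_zero, sub_zero,
      inv_mul_cancel₀ hpa]

include h in
theorem exists_polar_in {l : κ} {x : V} (hx : prPart h l x ≠ 0) (c : F) : ∃ p ∈ D l, polar Q p x = c := by
  obtain ⟨p, hp, hne⟩ : ∃ p ∈ D l, polar Q p x ≠ 0 := by
    by_contra hc
    push Not at hc
    exact hx ((Submodule.mem_bot F).1 (h.nd l ▸ (⟨h.pr_mem l x, mem_polarPerp.2 fun u hu => by
      rw [h.polar_pr hu]; exact hc u hu⟩ : prPart h l x ∈ D l ⊓ polarPerp Q (D l))))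
  exact ⟨(c * (polar Q p x)⁻¹) • p, (D l).smul_mem _ hp, by rw [polar_smul_left', inv_mul_cancel_right₀ hne]⟩

include h in
/-- A vector of a part orthogonal to `a` with prescribed product. -/
theorem exists_perp_polar {l : κ} {a x : V} (ha : a ∈ D l) (hx : prPart h l x ∉ Submodule.span F {a}) (c : F) :
    ∃ p ∈ D l, polar Q a p = 0 ∧ polar Q p x = c := by
  obtain ⟨w, hw, hwx⟩ := exists_polar h.gram (Submodule.span F {a}) hx c
  refine ⟨prPart h l w, h.pr_mem l w, ?_, ?_⟩
  · rw [h.polar_pr ha, QuadraticMap.polar_comm]; exact hw a (Submodule.mem_span_singleton_self a)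
  · rw [← h.polar_pr (h.pr_mem l w), h.polar_pr' (h.pr_mem l x), hwx]

end OrthParts

/-- A local Siegel element moves a vector inside its part. -/
theorem siegel_diff {a c : V} (ha : Q a = 0) (hac : polar Q a c = 0) (v : V) :
    siegel Q a c ha hac v - v = polar Q v a • c - (polar Q v c + Q c * polar Q v a) • a := by
  rw [siegel_apply]; module

variable (h : OrthParts Q D)

include h in
/-- The Siegel elements of a part are irreducible on it. -/
theorem sweep {l : κ} (hd : 3 ≤ Module.finrank F (D l)) (W : Submodule F V)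
    (hW : ∀ a ∈ D l, ∀ c ∈ D l, Q a = 0 → polar Q a c = 0 → ∀ v ∈ W,
      polar Q v a • c - (polar Q v c + Q c * polar Q v a) • a ∈ W)
    {v : V} (hv : v ∈ W) (hvl : prPart h l v ≠ 0) : D l ≤ W := by
  -- singular vectors pairing with a member of `W` lie in `W`
  have key : ∀ v ∈ W, ∀ a ∈ D l, Q a = 0 → polar Q v a ≠ 0 → a ∈ W := by
    intro v hv a ha hQa hva
    have ha0 : a ≠ 0 := fun e => hva (by rw [e, polar_zero_right])
    obtain ⟨f, hf, hQf, haf⟩ := h.exists_partner_in ha ha0 hQa
    obtain ⟨p, hp, hpS⟩ : ∃ p ∈ D l, p ∉ Submodule.span F ({a, f} : Set V) := by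
      refine SetLike.not_le_iff_exists.1 fun hle => ?_
      have h1 := Submodule.finrank_mono hle
      have h2 := finrank_pair_le (F := F) a f
      omega
    obtain ⟨c', hc'⟩ : ∃ c', c' = p - polar Q p f • a - polar Q p a • f := ⟨_, rfl⟩
    have hfa : polar Q f a = 1 := by rw [QuadraticMap.polar_comm, haf]
    have hc'D : c' ∈ D l := hc' ▸ (D l).sub_mem ((D l).sub_mem hp ((D l).smul_mem _ ha)) ((D l).smul_mem _ hf)
    have hc'a : polar Q a c' = 0 := by
      rw [hc', polar_sub_right, polar_sub_right, polar_smul_right', polar_smul_right', polar_self', hQa, haf,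
        QuadraticMap.polar_comm Q a p]
      ring
    have hc'f : polar Q f c' = 0 := by
      rw [hc', polar_sub_right, polar_sub_right, polar_smul_right', polar_smul_right', polar_self', hQf, hfa,
        QuadraticMap.polar_comm Q f p]
      ring
    have hc'0 : c' ≠ 0 := fun e => hpS (Submodule.mem_span_pair.2 ⟨polar Q p f, polar Q p a, by
      rw [e] at hc'; linear_combination (norm := module) hc'⟩)
    obtain ⟨w, hw, hwc⟩ := h.exists_polar_in (x := c') (l := l) (by rwa [h.pr_of_mem hc'D]) 1
    obtain ⟨c, hc⟩ : ∃ c, c = w - polar Q w a • f := ⟨_, rfl⟩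
    have hcD : c ∈ D l := hc ▸ (D l).sub_mem hw ((D l).smul_mem _ hf)
    have hca : polar Q a c = 0 := by
      rw [hc, polar_sub_right, polar_smul_right', haf, QuadraticMap.polar_comm Q a w]; ring
    have hcc : polar Q c c' = 1 := by
      rw [hc, polar_sub_left, polar_smul_left', hwc, hc'f]; ring
    have hsum : polar Q a (c + c') = 0 := by rw [polar_add_right, hca, hc'a, add_zero]
    have h1 := W.sub_mem (W.add_mem (hW a ha c hcD hQa hca v hv) (hW a ha c' hc'D hQa hc'a v hv))
      (hW a ha (c + c') ((D l).add_mem hcD hc'D) hQa hsum v hv)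
    have h2 := W.smul_mem (polar Q v a)⁻¹ h1
    convert h2 using 1
    rw [CfsgLib.Geometry.map_add', polar_add_right, hcc]
    match_scalars <;> field_simp <;> ring
  obtain ⟨e, f, heD, hfD, he, hf, hef⟩ := exists_pair_of_radical (Q := Q) (D l) (by rw [h.nd l, finrank_bot]; omega)
  obtain ⟨a, ha, hQa, hva⟩ : ∃ a ∈ D l, Q a = 0 ∧ polar Q v a ≠ 0 := by
    by_contra hc
    push Not at hc
    obtain ⟨p, hp, hpv⟩ := h.exists_polar_in hvl 1
    have hs : Q (p + (-(polar Q p f)) • e + (-(polar Q p e)) • f +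
        (e + (-(Q (p + (-(polar Q p f)) • e + (-(polar Q p e)) • f))) • f)) = 0 := by
      simp only [CfsgLib.Geometry.map_add', CfsgLib.Geometry.map_smul', polar_add_left, polar_add_right, polar_smul_left', polar_smul_right',
        polar_self', he, hf, hef, QuadraticMap.polar_comm Q f e]
      ring
    have h1 := hc _ ((D l).add_mem ((D l).add_mem ((D l).add_mem hp ((D l).smul_mem _ heD)) ((D l).smul_mem _ hfD))
      ((D l).add_mem heD ((D l).smul_mem _ hfD))) hs
    simp only [polar_add_right, polar_smul_right', hc e heD he, hc f hfD hf, mul_zero, add_zero,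
      QuadraticMap.polar_comm Q v p, hpv] at h1
    exact one_ne_zero h1
  have haW := key v hv a ha hQa hva
  have ha0 : a ≠ 0 := fun e' => hva (by rw [e', polar_zero_right])
  obtain ⟨g, hg, hQg, hag⟩ := h.exists_partner_in ha ha0 hQa
  have hne : ∀ p ∈ D l, polar Q a p ≠ 0 → p ∈ W := by
    intro p hp hap
    have hs : Q (p + (-(Q p) * (polar Q a p)⁻¹) • a) = 0 := by
      rw [CfsgLib.Geometry.map_add', CfsgLib.Geometry.map_smul', hQa, polar_smul_right', QuadraticMap.polar_comm Q p a]
      field_simp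
      ring
    have h1 := key a haW _ ((D l).add_mem hp ((D l).smul_mem _ ha)) hs
      (by rw [polar_add_right, polar_smul_right', polar_self', hQa, mul_zero, mul_zero, add_zero]; exact hap)
    simpa using W.sub_mem h1 (W.smul_mem (-(Q p) * (polar Q a p)⁻¹) haW)
  intro p hp
  by_cases hap : polar Q a p = 0
  · have := W.sub_mem (hne (p + g) ((D l).add_mem hp hg) (by rw [polar_add_right, hap, hag, zero_add]; exact one_ne_zero))
      (hne g hg (by rw [hag]; exact one_ne_zero))
    simpa using this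
  · exact hne p hp hap

/-- The vectors giving root groups with `u`. -/
def rootSpace (Q : QuadraticForm F V) (M : Subgroup (V ≃ₗ[F] V)) {u : V} (hu : Q u = 0) : Submodule F V where
  carrier := {v | polar Q u v = 0 ∧ RootIn Q M u v}
  zero_mem' := ⟨polar_zero_right _ _, fun t => by rw [smul_zero]; exact SiegIn.zero u⟩
  add_mem' {a b} ha hb := ⟨by rw [polar_add_right, ha.1, hb.1, add_zero], ha.2.add hb.2 hu ha.1 hb.1⟩
  smul_mem' c v hv := ⟨by rw [polar_smul_right', hv.1, mul_zero], hv.2.smul c⟩

variable (hle : M ≤ siegelGroup Q) (hst : ∀ g ∈ siegelGroup Q, KeepsParts D g → g ∈ M)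

include h hst in
theorem local_siegel_mem {l : κ} {a c : V} (ha : a ∈ D l) (hc : c ∈ D l) (hQa : Q a = 0) (hac : polar Q a c = 0) :
    siegel Q a c hQa hac ∈ M := by
  refine hst _ (siegel_mem a c hQa hac) (h.keeps_of_local (l := l) (siegel_mem_orth Q a c hQa hac) fun v hv => ?_)
  rw [siegel_apply, QuadraticMap.polar_comm Q v a, QuadraticMap.polar_comm Q v c, mem_polarPerp.1 hv a ha,
    mem_polarPerp.1 hv c hc]
  module

include h hst in
theorem root_in_part {l : κ} {a c : V} (ha : a ∈ D l) (hc : c ∈ D l) : RootIn Q M a c := fun t he hw =>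
  local_siegel_mem h hst ha ((D l).smul_mem t hc) he hw

include h hle hst in
/-- If a point of `y` has no component in a part, a component of its partner sweeps the part. -/
theorem root_sweep {l : κ} (hd : 3 ≤ Module.finrank F (D l)) {y z : V} (hy : Q y = 0) (hyz : polar Q y z = 0)
    (hR : RootIn Q M y z) (hyl : prPart h l y = 0) (hzl : prPart h l z ≠ 0) : ∀ c ∈ D l, RootIn Q M y c := by
  have hperp : ∀ a ∈ D l, polar Q y a = 0 := fun a ha => by
    rw [← h.polar_pr' ha, hyl, polar_zero_left]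
  refine fun c hc => (sweep h hd (rootSpace Q M hy) ?_ (v := z) ⟨hyz, hR⟩ hzl hc).2
  intro a ha c hc hQa hac v hv
  have hm := local_siegel_mem h hst ha hc hQa hac
  refine ⟨?_, hv.2.diff hm (siegelGroup_le_orth (hle hm)) hy hv.1 ?_ ?_⟩
  · rw [polar_sub_right, polar_smul_right', polar_smul_right', hperp a ha, hperp c hc]; ring
  · rw [siegel_apply, hperp a ha, hperp c hc]; module
  · rw [siegel_apply]; module

variable (hn : 5 ≤ Module.finrank F V) (hiso : ∀ i j, ∃ e : D i ≃ₗ[F] D j, ∀ v : D i, Q (e v : V) = Q (v : V))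

include h hn hiso in
/-- An element of the Siegel group exchanging two parts and fixing the others. -/
theorem exists_part_swap (hd : ∀ l, 2 ≤ Module.finrank F (D l)) {i j : κ} (hij : i ≠ j) :
    ∃ g ∈ siegelGroup Q, KeepsParts D g ∧ (∀ v ∈ D i, g v ∈ D j) ∧ (∀ v ∈ D j, g v ∈ D i) ∧
      ∀ l, l ≠ i → l ≠ j → ∀ v ∈ D l, g v = v := by
  classical
  have hR : reflGroup Q = Geometry.orth Q := reflGroup_eq_orth h.gram (Or.inl (by omega))
  obtain ⟨e, he⟩ := hiso i j
  let pI : V →ₗ[F] D i := LinearMap.codRestrict (D i) (prPart h i) (h.pr_mem i)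
  let pJ : V →ₗ[F] D j := LinearMap.codRestrict (D j) (prPart h j) (h.pr_mem j)
  let T : V →ₗ[F] V := LinearMap.id - prPart h i - prPart h j + (D j).subtype ∘ₗ e.toLinearMap ∘ₗ pI +
    (D i).subtype ∘ₗ e.symm.toLinearMap ∘ₗ pJ
  have hT : ∀ v, T v = v - prPart h i v - prPart h j v + (e (pI v) : V) + (e.symm (pJ v) : V) := fun v => by
    simp [T]
  have hp0 : ∀ v, prPart h i (v - prPart h i v - prPart h j v) = 0 ∧ prPart h j (v - prPart h i v - prPart h j v) = 0 :=
    fun v => by
      constructor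
      · rw [map_sub, map_sub, h.pr_of_mem (h.pr_mem i v), h.pr_other hij.symm (h.pr_mem j v), sub_self, sub_zero]
      · rw [map_sub, map_sub, h.pr_of_mem (h.pr_mem j v), h.pr_other hij (h.pr_mem i v)]; simp
  have hTi : ∀ v, prPart h i (T v) = (e.symm (pJ v) : V) := fun v => by
    rw [hT, map_add, map_add, (hp0 v).1, h.pr_other hij.symm (e (pI v)).2, h.pr_of_mem (e.symm (pJ v)).2]
    simp
  have hTj : ∀ v, prPart h j (T v) = (e (pI v) : V) := fun v => by
    rw [hT, map_add, map_add, (hp0 v).2, h.pr_other hij (e.symm (pJ v)).2, h.pr_of_mem (e (pI v)).2]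
    simp
  have hTl : ∀ v, ∀ l, l ≠ i → l ≠ j → prPart h l (T v) = prPart h l v := fun v l hli hlj => by
    rw [hT, map_add, map_add, map_sub, map_sub, h.pr_other hlj.symm (e (pI v)).2,
      h.pr_other hli.symm (e.symm (pJ v)).2, h.pr_other hli.symm (h.pr_mem i v), h.pr_other hlj.symm (h.pr_mem j v)]
    simp
  have hTT : ∀ v, T (T v) = v := fun v => h.ext_pr fun l => by
    by_cases hli : l = i
    · subst hli
      rw [hTi]
      have : pJ (T v) = e (pI v) := Subtype.ext (hTj v)
      rw [this, LinearEquiv.symm_apply_apply]; rfl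
    by_cases hlj : l = j
    · subst hlj
      rw [hTj]
      have : pI (T v) = e.symm (pJ v) := Subtype.ext (hTi v)
      rw [this, LinearEquiv.apply_symm_apply]; rfl
    rw [hTl _ l hli hlj, hTl _ l hli hlj]
  let g₀ : V ≃ₗ[F] V := LinearEquiv.ofLinear T T (LinearMap.ext hTT) (LinearMap.ext hTT)
  have hg₀ : g₀ ∈ Geometry.orth Q := mem_orth.2 fun v => by
    have hes : ∀ w : D j, Q (e.symm w : V) = Q (w : V) := fun w => by
      have := he (e.symm w); rw [LinearEquiv.apply_symm_apply] at this; exact this.symm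
    show Q (T v) = Q v
    have e1 : ∀ f : κ → F, ∑ l, f l = ∑ l ∈ (Finset.univ.erase i).erase j, f l + f j + f i := fun f => by
      rw [Finset.sum_erase_add _ _ (Finset.mem_erase.2 ⟨hij.symm, Finset.mem_univ j⟩),
        Finset.sum_erase_add _ _ (Finset.mem_univ i)]
    have hs2 : ∑ l ∈ (Finset.univ.erase i).erase j, Q (prPart h l (T v)) =
        ∑ l ∈ (Finset.univ.erase i).erase j, Q (prPart h l v) := Finset.sum_congr rfl fun l hl => by
      rw [Finset.mem_erase, Finset.mem_erase] at hl
      rw [hTl v l hl.2.1 hl.1]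
    rw [h.Q_eq (T v), h.Q_eq v, e1, e1 (fun l => Q (prPart h l v)), hTi, hTj, hes, he]
    simp only [pI, pJ, LinearMap.codRestrict_apply]
    linear_combination hs2
  have hfull : (fixOn Q (polarPerp Q (D j))).map (orthInvariant h.gram hR) = ⊤ :=
    map_eq_top_of_refls h.gram hR (h.nd j) (hd j) _ fun a ha ha0 v hv =>
      refl_eq_self Q a ha0 (by rw [QuadraticMap.polar_comm]; exact mem_polarPerp.1 hv a ha)
  obtain ⟨s, hs, hsg⟩ := exists_mul_mem_commutator h.gram hR _ hfull ⟨g₀, hg₀⟩
  have hperpj : ∀ l, l ≠ j → ∀ v ∈ D l, v ∈ polarPerp Q (D j) := fun l hl v hv =>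
    mem_polarPerp.2 fun u hu => h.orth j l hl.symm u hu v hv
  have hsj := h.perp_maps s.2 hs
  have hmi : ∀ v ∈ D i, (s : V ≃ₗ[F] V) (T v) ∈ D j := fun v hv => by
    refine hsj _ ((h.mem_iff).2 fun l hlj => ?_)
    by_cases hli : l = i
    · subst hli
      rw [hTi, show pJ v = 0 from Subtype.ext (h.pr_other hij hv)]
      simp
    · rw [hTl v l hli hlj, h.pr_other (Ne.symm hli) hv]
  have hmj : ∀ v ∈ D j, (s : V ≃ₗ[F] V) (T v) ∈ D i := fun v hv => by
    have hTv : T v ∈ D i := (h.mem_iff).2 fun l hli => by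
      by_cases hlj : l = j
      · subst hlj
        rw [hTj, show pI v = 0 from Subtype.ext (h.pr_other hij.symm hv)]
        simp
      · rw [hTl v l hli hlj, h.pr_other (Ne.symm hlj) hv]
    rw [hs _ (hperpj i hij _ hTv)]; exact hTv
  have hml : ∀ l, l ≠ i → l ≠ j → ∀ v ∈ D l, (s : V ≃ₗ[F] V) (T v) = v := fun l hli hlj v hv => by
    have : T v = v := h.ext_pr fun o => by
      by_cases hoi : o = i
      · subst hoi; rw [hTi, h.pr_other hli hv, show pJ v = 0 from Subtype.ext (h.pr_other hlj hv)]; simp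
      by_cases hoj : o = j
      · subst hoj; rw [hTj, h.pr_other hlj hv, show pI v = 0 from Subtype.ext (h.pr_other hli hv)]; simp
      exact hTl v o hoi hoj
    rw [this, hs v (hperpj l hlj v hv)]
  let G : Geometry.orth Q := s * ⟨g₀, hg₀⟩
  refine ⟨(G : V ≃ₗ[F] V), (mem_commutator_iff_siegelGroup h.gram hn _).1 hsg,
    fun l => ?_, hmi, hmj, hml⟩
  by_cases hli : l = i
  · subst hli; exact ⟨j, hmi⟩
  by_cases hlj : l = j
  · subst hlj; exact ⟨i, hmj⟩
  exact ⟨l, fun v hv => by
    show (s : V ≃ₗ[F] V) (T v) ∈ D l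
    rw [hml l hli hlj v hv]; exact hv⟩

include h hle hst hn hiso in
/-- A root group joining a part to its orthogonal gives everything. -/
theorem top_of_part (hd : ∀ l, 3 ≤ Module.finrank F (D l)) {i : κ} {a w : V} (ha : a ∈ D i) (ha0 : a ≠ 0)
    (hQa : Q a = 0) (haw : polar Q a w = 0) (hR : RootIn Q M a w) (hw : ∃ j, j ≠ i ∧ prPart h j w ≠ 0) :
    siegelGroup Q ≤ M := by
  obtain ⟨j, hji, hwj⟩ := hw
  have hd2 : ∀ l, 2 ≤ Module.finrank F (D l) := fun l => le_trans (by norm_num) (hd l)
  have hDj := root_sweep h hle hst (hd j) hQa haw hR (h.pr_other hji.symm ha) hwj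
  obtain ⟨b, f', hb, -, hQb, -, hbf⟩ := exists_pair_of_radical (Q := Q) (D j) (by rw [h.nd j, finrank_bot]; have := hd j; omega)
  have hb0 : b ≠ 0 := fun e => by rw [e, polar_zero_left] at hbf; exact zero_ne_one hbf
  have hba : polar Q b a = 0 := h.orth j i hji b hb a ha
  have hbR := (hDj b hb).swap hQa hQb (by rw [QuadraticMap.polar_comm]; exact hba)
  have hDi := root_sweep h hle hst (hd i) hQb hba hbR (h.pr_other hji hb) (by rw [h.pr_of_mem ha]; exact ha0)
  have hfull : ∀ x ∈ D i, Q x = 0 → Full Q M x := by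
    intro x hx hQx
    by_cases hx0 : x = 0
    · subst hx0
      intro w' hz hw'
      rw [siegel_zero_left hz hw']; exact one_mem M
    have hxb : polar Q x b = 0 := h.orth i j hji.symm x hx b hb
    have hxR := (hDi x hx).swap hQb hQx (by rw [QuadraticMap.polar_comm]; exact hxb)
    have hxj := root_sweep h hle hst (hd j) hQx hxb hxR (h.pr_other hji.symm hx) (by rw [h.pr_of_mem hb]; exact hb0)
    have hall : ∀ l, l ≠ i → ∀ c ∈ D l, RootIn Q M x c := by
      intro l hli c hc
      by_cases hlj : l = j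
      · subst hlj; exact hxj c hc
      obtain ⟨g, hg, hgk, hgl, hgj, hgfix⟩ := exists_part_swap h hn hiso hd2 (i := l) (j := j) hlj
      have hgM := hst g hg hgk
      intro t
      have h1 := (hxj (g c) (hgl c hc) t)
      have hgo := siegelGroup_le_orth hg
      have hgx : g x = x := hgfix i (Ne.symm hli) hji.symm x hx
      have hgi : g⁻¹ ∈ Geometry.orth Q := inv_mem hgo
      have h2 := h1.conj (inv_mem hgM) hgi
      have e1 : g⁻¹ x = x := by show g.symm x = x; rw [LinearEquiv.symm_apply_eq, hgx]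
      have e2 : g⁻¹ (t • g c) = t • c := by
        show g.symm (t • g c) = t • c; rw [LinearEquiv.symm_apply_eq, map_smul]
      rwa [e1, e2] at h2
    intro w' he hw'
    have hmem : ∀ l, prPart h l w' ∈ rootSpace Q M hQx := fun l => by
      by_cases hli : l = i
      · subst hli
        exact ⟨by rw [h.polar_pr hx]; exact hw', root_in_part h hst hx (h.pr_mem l w')⟩
      · exact ⟨h.orth i l (Ne.symm hli) x hx _ (h.pr_mem l w'), hall l hli _ (h.pr_mem l w')⟩
    have hsum : w' ∈ rootSpace Q M hQx := h.sum_pr w' ▸ Submodule.sum_mem _ fun l _ => hmem l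
    exact hsum.2.one he hw'
  obtain ⟨f, hf, hQf, haf⟩ := h.exists_partner_in ha ha0 hQa
  exact siegelGroup_le_of_full h.gram hQa hQf haf (hfull a ha hQa) (hfull f hf hQf)

end CfsgLib.OrthMax
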