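import Cfsg.Agent.Lib.OrthMax.TwoMax

/-! Orthogonal decompositions into four-dimensional minus spaces over two elements. -/

set_option autoImplicit false
set_option linter.unusedSectionVars false
set_option linter.unusedVariables false
set_option linter.unusedSimpArgs false
set_option linter.deprecated false
set_option linter.style.haveILetI false

namespace CfsgLib.OrthMax

open QuadraticMap CfsgLib.Geometry

variable {F V κ : Type*} [Field F] [Finite F] [AddCommGroup V] [Module F V] [FiniteDimensional F V]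
variable [Fintype κ] [DecidableEq κ]
variable {Q : QuadraticForm F V} {M : Subgroup (V ≃ₗ[F] V)} {D : κ → Submodule F V}
variable (h : OrthParts Q D) (hle : M ≤ siegelGroup Q)
  (hst : ∀ g ∈ siegelGroup Q, KeepsParts D g → g ∈ M)
  (hn : 5 ≤ Module.finrank F V) (hiso : ∀ i j, ∃ e : D i ≃ₗ[F] D j, ∀ v : D i, Q (e v : V) = Q (v : V))
  (hd : ∀ l, 4 ≤ Module.finrank F (D l)) (hF : ∀ s : F, s = 0 ∨ s = 1)
  (hts : ∀ l, ∀ a ∈ D l, ∀ b ∈ D l, Q a = 0 → Q b = 0 → polar Q a b = 0 → a ≠ 0 → b ∈ Submodule.span F {a})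

include hF in
theorem two_of_F : (2 : F) = 0 := by
  rcases hF 2 with e | e
  · exact e
  · exact absurd (show (1 : F) = 0 by linear_combination e) one_ne_zero

include hF in
theorem rootIn_of_siegIn {y z : V} (hS : SiegIn Q M y z) : RootIn Q M y z := fun t => by
  rcases hF t with rfl | rfl
  · rw [zero_smul]; exact SiegIn.zero y
  · rwa [one_smul]

include h hst hn in
theorem pair_mem_four {i j : κ} {a b : V} (ha : a ∈ D i) (hb : b ∈ D j) (hQa : Q a ≠ 0) (hQb : Q b ≠ 0)
    (hab : Q b = Q a) : refl Q a hQa * refl Q b hQb ∈ M := by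
  have hR : reflGroup Q = Geometry.orth Q := reflGroup_eq_orth h.gram (Or.inl (by omega))
  let g : Geometry.orth Q := oRefl Q a hQa * oRefl Q b hQb
  have hg : (g : V ≃ₗ[F] V) ∈ siegelGroup Q := by
    refine (mem_commutator_iff_siegelGroup h.gram hn g).1 ((mem_commutator_orth_iff h.gram hR g).2 ?_)
    show orthInvariant h.gram hR (oRefl Q a hQa * oRefl Q b hQb) = 1
    rw [map_mul, orthInvariant_oRefl, orthInvariant_oRefl, Prod.mk_mul_mk]
    refine Prod.ext ?_ (show Multiplicative.ofAdd (1 : ZMod 2) * Multiplicative.ofAdd 1 = 1 by decide)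
    show sqMk _ * sqMk _ = 1
    rw [← sqMk_mul, sqMk_eq_one_iff]
    exact ⟨Q a, by rw [hab]⟩
  have hk : ∀ (i : κ) (a : V) (ha : a ∈ D i) (hQa : Q a ≠ 0), KeepsParts D (refl Q a hQa) := fun i a ha hQa =>
    h.keeps_of_local (l := i) (refl_mem_orth Q a hQa) fun v hv =>
      refl_eq_self Q a hQa (by rw [QuadraticMap.polar_comm]; exact mem_polarPerp.1 hv a ha)
  exact hst _ hg ((hk i a ha hQa).mul (hk j b hb hQb))

include h hd hF hts in
/-- A non-singular vector of a part orthogonal to two vectors. -/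
theorem exists_nonsingular_perp (l : κ) (u v : V) : ∃ d ∈ D l, polar Q u d = 0 ∧ polar Q v d = 0 ∧ Q d = 1 := by
  set P := D l ⊓ polarPerp Q (Submodule.span F ({u, v} : Set V))
  have h1 := Submodule.finrank_sup_add_finrank_inf_eq (D l) (polarPerp Q (Submodule.span F ({u, v} : Set V)))
  have h2 := finrank_polarPerp h.gram (Submodule.span F ({u, v} : Set V))
  have h3 := Submodule.finrank_le (D l ⊔ polarPerp Q (Submodule.span F ({u, v} : Set V)))
  have h4 := finrank_pair_le (F := F) u v
  have h5 := hd l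
  change _ + Module.finrank F ↥P = _ at h1
  have hperp : ∀ w ∈ P, polar Q u w = 0 ∧ polar Q v w = 0 := fun w hw =>
    ⟨mem_polarPerp.1 hw.2 u (Submodule.subset_span (by simp)), mem_polarPerp.1 hw.2 v (Submodule.subset_span (by simp))⟩
  by_contra hc
  push Not at hc
  have hsing : ∀ w ∈ P, Q w = 0 := fun w hw => by
    rcases hF (Q w) with e | e
    · exact e
    · exact absurd e (hc w hw.1 (hperp w hw).1 (hperp w hw).2)
  haveI : Nontrivial P := Module.nontrivial_of_finrank_pos (R := F) (by omega)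
  obtain ⟨a, ha⟩ := exists_ne (0 : P)
  have ha0 : (a : V) ≠ 0 := fun e => ha (Subtype.ext e)
  have hle' : P ≤ Submodule.span F {(a : V)} := fun b hb => by
    refine hts l a a.2.1 b hb.1 (hsing a a.2) (hsing b hb) ?_ ha0
    have := hsing _ (P.add_mem a.2 hb)
    rw [CfsgLib.Geometry.map_add', hsing a a.2, hsing b hb] at this
    simpa using this
  have h6 := Submodule.finrank_mono hle'
  have h7 : Module.finrank F (Submodule.span F {(a : V)}) ≤ 1 := (finrank_span_le_card _).trans (by simp)
  omega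

include h hd hF hts in
/-- A non-singular vector of a part pairing with a given one. -/
theorem exists_nonsingular_polar {l : κ} {x : V} (hx : prPart h l x ≠ 0) :
    ∃ b ∈ D l, polar Q x b = 1 ∧ Q b = 1 := by
  obtain ⟨p, hp, hpx⟩ := h.exists_polar_in hx 1
  rw [QuadraticMap.polar_comm] at hpx
  rcases hF (Q p) with e | e
  swap
  · exact ⟨p, hp, hpx, e⟩
  by_contra hc
  push Not at hc
  obtain ⟨d, hd', hxd, hpd, hQd⟩ := exists_nonsingular_perp h hd hF hts l x p
  refine hc (p + d) ((D l).add_mem hp hd') ?_ ?_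
  · rw [polar_add_right, hpx, hxd, add_zero]
  · rw [CfsgLib.Geometry.map_add', e, hQd, hpd]; ring

include h hle hst hn hd hF hts in
theorem four_step (hκ : 2 ≤ Fintype.card κ) {y z : V} (hy : Q y = 0) (hyz : polar Q y z = 0) (hR : RootIn Q M y z)
    {l : κ} (hQl : Q (prPart h l y) ≠ 0) (hzl : prPart h l z ∉ Submodule.span F {prPart h l y}) :
    (∃ u ∈ D l, polar Q y u = 0 ∧ RootIn Q M y u ∧ u ∉ Submodule.span F {prPart h l y}) ∨
      (polar Q (prPart h l y) z = 1 ∧ Q (prPart h l z) = 0 ∧ RootIn Q M y (prPart h l y)) := by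
  have h2 := two_of_F hF
  have hQl1 : Q (prPart h l y) = 1 := (hF _).resolve_left hQl
  set yl := prPart h l y
  have hylD : yl ∈ D l := h.pr_mem l y
  obtain ⟨q, hql⟩ := Fintype.exists_ne_of_one_lt_card (α := κ) (by omega) l
  obtain ⟨d, hdD, hyd, hzd, hQd⟩ := exists_nonsingular_perp h hd hF hts q y z
  have hd0 : Q d ≠ 0 := by rw [hQd]; exact one_ne_zero
  have key : ∀ b ∈ D l, Q b = 1 → polar Q y b = 0 → polar Q z b = 1 → RootIn Q M y b := by
    intro b hb hQb hyb hzb
    have hb0 : Q b ≠ 0 := by rw [hQb]; exact one_ne_zero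
    have hm := pair_mem_four h hst hn hb hdD hb0 hd0 (by rw [hQb, hQd])
    have hmo := siegelGroup_le_orth (hle hm)
    have h1 := hR.diff (d := (-1 : F) • b) hm hmo hy hyz ?_ ?_
    · have h3 := h1.smul (-1)
      rwa [smul_smul, neg_mul_neg, one_mul, one_smul] at h3
    · show refl Q b hb0 (refl Q d hd0 y) = y
      rw [refl_eq_self Q d hd0 hyd, refl_eq_self Q b hb0 hyb]
    · show refl Q b hb0 (refl Q d hd0 z) = _
      rw [refl_eq_self Q d hd0 hzd, refl_apply, hQb, hzb, inv_one, one_mul]; module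
  have hyl : polar Q y yl = 0 := by rw [← h.polar_pr' hylD, polar_self', h2, zero_mul]
  by_cases hsucc : ∃ b ∈ D l, Q b = 1 ∧ polar Q y b = 0 ∧ polar Q z b = 1 ∧ b ∉ Submodule.span F {yl}
  · obtain ⟨b, hb, hQb, hyb, hzb, hbS⟩ := hsucc
    exact Or.inl ⟨b, hb, hyb, key b hb hQb hyb hzb, hbS⟩
  push Not at hsucc
  obtain ⟨p, hp, hyp', hpz⟩ := h.exists_perp_polar hylD hzl 1
  have hyp : polar Q y p = 0 := by rw [← h.polar_pr' hp]; exact hyp'
  rw [QuadraticMap.polar_comm] at hpz
  have hz1 : polar Q z yl = 1 := by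
    refine (hF _).resolve_left fun h0 => ?_
    rcases hF (Q p) with e | e
    · have hm := hsucc (p + yl) ((D l).add_mem hp hylD)
        (by rw [CfsgLib.Geometry.map_add', e, hQl1, QuadraticMap.polar_comm, hyp']; ring)
        (by rw [polar_add_right, hyp, hyl, add_zero]) (by rw [polar_add_right, hpz, h0, add_zero])
      obtain ⟨k, hk⟩ := Submodule.mem_span_singleton.1 hm
      have hpe : p = (k - 1) • yl := by linear_combination (norm := module) -hk
      rw [hpe, polar_smul_right', h0, mul_zero] at hpz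
      exact zero_ne_one hpz
    · obtain ⟨k, hk⟩ := Submodule.mem_span_singleton.1 (hsucc p hp e hyp hpz)
      rw [← hk, polar_smul_right', h0, mul_zero] at hpz
      exact zero_ne_one hpz
  refine Or.inr ⟨by rw [QuadraticMap.polar_comm]; exact hz1, ?_, key yl hylD hQl1 hyl hz1⟩
  rcases hF (Q (prPart h l z)) with e | e
  · exact e
  exfalso
  set zl := prPart h l z
  have hzlD : zl ∈ D l := h.pr_mem l z
  -- a singular vector orthogonal to both
  obtain ⟨c₁, hc₁, hy1, hz1', hQc₁⟩ := exists_nonsingular_perp h hd hF hts l y z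
  have hyl1 : polar Q yl c₁ = 0 := by rw [h.polar_pr' hc₁]; exact hy1
  have hzl1 : polar Q zl c₁ = 0 := by rw [h.polar_pr' hc₁]; exact hz1'
  obtain ⟨e', he', hye, hze, he0, hQe⟩ : ∃ e' ∈ D l, polar Q y e' = 0 ∧ polar Q z e' = 0 ∧ e' ≠ 0 ∧ Q e' = 0 := by
    by_contra hc
    push Not at hc
    set P := D l ⊓ polarPerp Q (Submodule.span F ({y, z} : Set V))
    obtain ⟨c₂, hc₂, hc₂1⟩ : ∃ c₂ ∈ P, c₂ ∉ Submodule.span F {c₁} := by
      refine SetLike.not_le_iff_exists.1 fun hle' => ?_
      have i1 := Submodule.finrank_mono hle'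
      have i2 : Module.finrank F (Submodule.span F {c₁}) ≤ 1 := (finrank_span_le_card _).trans (by simp)
      have i3 := Submodule.finrank_sup_add_finrank_inf_eq (D l) (polarPerp Q (Submodule.span F ({y, z} : Set V)))
      have i4 := finrank_polarPerp h.gram (Submodule.span F ({y, z} : Set V))
      have i5 := Submodule.finrank_le (D l ⊔ polarPerp Q (Submodule.span F ({y, z} : Set V)))
      have i6 := finrank_pair_le (F := F) y z
      have i7 := hd l
      change _ + Module.finrank F ↥P = _ at i3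
      omega
    have hy2 : polar Q y c₂ = 0 := mem_polarPerp.1 hc₂.2 y (Submodule.subset_span (by simp))
    have hz2 : polar Q z c₂ = 0 := mem_polarPerp.1 hc₂.2 z (Submodule.subset_span (by simp))
    have hyl2 : polar Q yl c₂ = 0 := by rw [h.polar_pr' hc₂.1]; exact hy2
    have hzl2 : polar Q zl c₂ = 0 := by rw [h.polar_pr' hc₂.1]; exact hz2
    have hQc₂ : Q c₂ = 1 := (hF _).resolve_left fun e0 =>
      hc₂1 (by rw [show c₂ = 0 from by_contra fun hne => hc c₂ hc₂.1 hy2 hz2 hne e0]; exact Submodule.zero_mem _)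
    have hQ12 : Q (c₁ + c₂) = 1 := (hF _).resolve_left fun e0 =>
      hc (c₁ + c₂) ((D l).add_mem hc₁ hc₂.1) (by rw [polar_add_right, hy1, hy2, add_zero])
        (by rw [polar_add_right, hz1', hz2, add_zero])
        (fun e1 => hc₂1 (Submodule.mem_span_singleton.2 ⟨-1, by rw [eq_neg_of_add_eq_zero_right e1, neg_one_smul]⟩)) e0
    rw [CfsgLib.Geometry.map_add', hQc₁, hQc₂] at hQ12
    have h12 : polar Q c₁ c₂ = 1 := by linear_combination hQ12 - h2
    have hylzl : polar Q yl zl = 1 := by rw [h.polar_pr hylD, QuadraticMap.polar_comm]; exact hz1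
    have hs := hts l (yl + c₁) ((D l).add_mem hylD hc₁) (zl + c₂) ((D l).add_mem hzlD hc₂.1)
      (by rw [CfsgLib.Geometry.map_add', hQl1, hQc₁, hyl1]; linear_combination h2)
      (by rw [CfsgLib.Geometry.map_add', e, hQc₂, hzl2]; linear_combination h2)
      (by rw [polar_add_left, polar_add_right, polar_add_right, hylzl, hyl2, QuadraticMap.polar_comm Q c₁ zl, hzl1, h12]
          linear_combination h2)
      (fun e1 => by
        have := congrArg (fun w => polar Q w c₂) e1
        simp only [polar_add_left, hyl2, h12, polar_zero_left, zero_add] at this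
        exact one_ne_zero this)
    obtain ⟨k, hk⟩ := Submodule.mem_span_singleton.1 hs
    have := congrArg (fun w => polar Q w c₁) hk
    simp only [polar_add_left, polar_smul_left', hyl1, hzl1, polar_self', hQc₁, h2, QuadraticMap.polar_comm Q c₂ c₁, h12,
      mul_zero, zero_mul, zero_add, add_zero] at this
    exact zero_ne_one this
  have hm := hsucc (yl + e') ((D l).add_mem hylD he')
    (by rw [CfsgLib.Geometry.map_add', hQl1, hQe, h.polar_pr' he', hye]; ring)
    (by rw [polar_add_right, hyl, hye, add_zero]) (by rw [polar_add_right, hz1, hze, add_zero])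
  obtain ⟨k, hk⟩ := Submodule.mem_span_singleton.1 hm
  have hee : e' = (k - 1) • yl := by linear_combination (norm := module) -hk
  have hQe' := hQe
  rw [hee, CfsgLib.Geometry.map_smul', hQl1, mul_one, mul_self_eq_zero] at hQe'
  exact he0 (by rw [hee, hQe', zero_smul])

include h hle hst hn hiso hd hF hts in
theorem four_independent (hκ : 2 ≤ Fintype.card κ) {y z : V} (hy0 : y ≠ 0) (hy : Q y = 0) (hyz : polar Q y z = 0)
    (hR : RootIn Q M y z) {l : κ} (hyD : y ∉ D l) (hzl : prPart h l z ∉ Submodule.span F {prPart h l y}) :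
    siegelGroup Q ≤ M := by
  classical
  have h2 := two_of_F hF
  have hd3 : ∀ l, 3 ≤ Module.finrank F (D l) := fun l => le_trans (by norm_num) (hd l)
  by_cases hyl : prPart h l y = 0
  · exact top_of_zero h hle hst hn hiso hd3 hy0 hy hyz hR hyl (fun e => hzl (by rw [e]; exact Submodule.zero_mem _))
  by_cases hQl : Q (prPart h l y) = 0
  · exact top_of_singular_component h hle hst hn hiso hd3 hy hyz hR hyD hyl hQl hzl
  have hgood : ∀ (i : κ) (u : V), Q (prPart h i y) ≠ 0 → u ∈ D i → polar Q y u = 0 → RootIn Q M y u →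
      u ∉ Submodule.span F {prPart h i y} → siegelGroup Q ≤ M := by
    intro l u hQl hu hyu hRu hui
    obtain ⟨j, hj, hQj⟩ := other_nonsingular h hy hQl
    obtain ⟨a, b, ha, hb, ha0, hQa, hay, hab, hby⟩ := kernel_point h (hd j) hQj
    refine top_of_kernel h hle hst hn hiso hd3 hy hyu hRu ha hb ha0 hQa hay (h.orth j l hj a ha u hu) hab ⟨l, hj.symm, ?_⟩
    rw [hby, h.orth j l hj b hb u hu, map_sub, map_smul, map_smul, h.pr_of_mem hu]
    intro e
    exact hui (Submodule.mem_span_singleton.2 ⟨Q u, by linear_combination (norm := module) -e⟩)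
  rcases four_step h hle hst hn hd hF hts hκ hy hyz hR hQl hzl with ⟨u, hu, hyu, hRu, hui⟩ | ⟨hylz, hQzl, hRyl⟩
  · exact hgood l u hQl hu hyu hRu hui
  set yl := prPart h l y
  have hylD : yl ∈ D l := h.pr_mem l y
  have hQl1 : Q yl = 1 := (hF _).resolve_left hQl
  have hyyl : polar Q y yl = 0 := by rw [← h.polar_pr' hylD, polar_self', h2, zero_mul]
  obtain ⟨x, hx⟩ : ∃ x, x = yl + y := ⟨_, rfl⟩
  have hQx : Q x = 1 := by rw [hx, CfsgLib.Geometry.map_add', hQl1, hy, QuadraticMap.polar_comm, hyyl]; ring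
  have hx0 : Q x ≠ 0 := by rw [hQx]; exact one_ne_zero
  have hxl : prPart h l x = 0 := by
    rw [hx, map_add, h.pr_of_mem hylD, ← two_smul F, h2, zero_smul]
  have hxo : ∀ i, i ≠ l → prPart h i x = prPart h i y := fun i hi => by
    rw [hx, map_add, h.pr_other hi.symm hylD, zero_add]
  have hxyl : Rel Q M yl x := by
    intro h1 h3
    have h4 := hRyl.one hy hyyl
    convert h4 using 1
    refine LinearEquiv.ext fun v => ?_
    rw [siegel_apply, LinearEquiv.mul_apply, refl_apply, refl_apply, hQx, hQl1]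
    simp only [hx, polar_sub_left, polar_smul_left', polar_add_left, polar_add_right, polar_self', hyyl,
      QuadraticMap.polar_comm Q yl y, hQl1]
    match_scalars <;> ring_nf
  by_cases h3 : ∃ j o p, j ≠ o ∧ j ≠ p ∧ o ≠ p ∧ prPart h j x ≠ 0 ∧ prPart h o x ≠ 0 ∧ prPart h p x ≠ 0
  · obtain ⟨j, o, p, hjo, hjp, hop, hj, ho, hp⟩ := h3
    obtain ⟨b, hb, hxb, hQb⟩ := exists_nonsingular_polar h hd hF hts hj
    obtain ⟨b', hb', hxb', hQb'⟩ := exists_nonsingular_polar h hd hF hts ho
    have hb0 : Q b ≠ 0 := by rw [hQb]; exact one_ne_zero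
    have hb'0 : Q b' ≠ 0 := by rw [hQb']; exact one_ne_zero
    have hlj : l ≠ j := fun e => hj (e ▸ hxl)
    have hlo : l ≠ o := fun e => ho (e ▸ hxl)
    have hm := pair_mem_four h hst hn hb hb' hb0 hb'0 (by rw [hQb, hQb'])
    set m := refl Q b hb0 * refl Q b' hb'0
    have hmo := siegelGroup_le_orth (hle hm)
    have hmyl : m yl = yl := by
      show refl Q b hb0 (refl Q b' hb'0 yl) = yl
      rw [refl_eq_self Q b' hb'0 (h.orth l o hlo yl hylD b' hb'), refl_eq_self Q b hb0 (h.orth l j hlj yl hylD b hb)]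
    obtain ⟨r, hr⟩ : ∃ r, r = (-1 : F) • b + (-1 : F) • b' := ⟨_, rfl⟩
    have hmx : m x = x + r := by
      show refl Q b hb0 (refl Q b' hb'0 x) = _
      rw [refl_apply Q b', hQb', hxb', refl_apply Q b, hQb, polar_sub_left, polar_smul_left', hxb,
        h.orth o j hjo.symm b' hb' b hb, hr]
      simp only [inv_one, mul_one, mul_zero, sub_zero, one_smul]
      module
    have hxr : Rel Q M x (x + r) := by
      have h1 := hxyl.conj hm hmo
      rw [hmyl, hmx] at h1
      exact hxyl.symm.trans hQl h1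
    have hpol : polar Q r x = 0 := by
      rw [hr, polar_add_left, polar_smul_left', polar_smul_left', QuadraticMap.polar_comm Q b x,
        QuadraticMap.polar_comm Q b' x, hxb, hxb']
      linear_combination -h2
    have hQr : Q r = 0 := by
      rw [hr, CfsgLib.Geometry.map_add', CfsgLib.Geometry.map_smul', CfsgLib.Geometry.map_smul', hQb, hQb',
        polar_smul_left', polar_smul_right', h.orth j o hjo b hb b' hb']
      linear_combination h2
    have hS := siegIn_of_rel hx0 hQr hpol hxr
    refine top_of_zero h hle hst hn hiso hd3 (fun e => ?_) hQr (by rw [polar_smul_right', hpol, mul_zero])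
      (rootIn_of_siegIn hF hS) (l := p) ?_ ?_
    · have h1 := congrArg (prPart h j) e
      rw [hr, map_add, map_smul, map_smul, h.pr_of_mem hb, h.pr_other hjo.symm hb', smul_zero, add_zero, map_zero,
        smul_eq_zero] at h1
      exact h1.elim (neg_ne_zero.2 one_ne_zero) (fun e' => hb0 (by rw [e', QuadraticMap.map_zero]))
    · rw [hr, map_add, map_smul, map_smul, h.pr_other hjp hb, h.pr_other hop hb']; simp
    · rw [map_smul, hQx, inv_one, one_smul]; exact hp
  push Not at h3
  obtain ⟨o, ho⟩ : ∃ o, prPart h o x ≠ 0 := by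
    by_contra hc
    push Not at hc
    exact hx0 (by rw [show x = 0 from h.ext_pr fun i => by rw [hc i, map_zero], QuadraticMap.map_zero])
  have hlo : l ≠ o := fun e => ho (e ▸ hxl)
  by_cases h4 : ∃ j, j ≠ o ∧ prPart h j x ≠ 0
  · obtain ⟨j, hjo, hj⟩ := h4
    have hsupp : ∀ i, i ≠ j → i ≠ o → prPart h i x = 0 := fun i hij hio =>
      h3 j o i hjo (Ne.symm hij) (Ne.symm hio) hj ho
    have hxe : x = prPart h j x + prPart h o x := h.ext_pr fun i => by
      rw [map_add]
      by_cases hij : i = j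
      · subst hij; rw [h.pr_of_mem (h.pr_mem i x), h.pr_other hjo.symm (h.pr_mem o x), add_zero]
      by_cases hio : i = o
      · subst hio; rw [h.pr_of_mem (h.pr_mem i x), h.pr_other hjo (h.pr_mem j x), zero_add]
      rw [hsupp i hij hio, h.pr_other (Ne.symm hij) (h.pr_mem j x), h.pr_other (Ne.symm hio) (h.pr_mem o x), add_zero]
    have hsum : Q (prPart h j x) + Q (prPart h o x) = 1 := by
      rw [← hQx]
      conv_rhs => rw [hxe, CfsgLib.Geometry.map_add', h.orth j o hjo _ (h.pr_mem j x) _ (h.pr_mem o x), add_zero]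
    have fin : ∀ (j o : κ), o ≠ j → prPart h j x ≠ 0 → Q (prPart h j x) = 0 → Q (prPart h o x) = 1 →
        x = prPart h o x + prPart h j x → prPart h o x ≠ 0 → siegelGroup Q ≤ M := by
      intro j o hoj hj hQj hQo hxe ho
      set v := prPart h j x
      set v' := prPart h o x
      have hv : v ∈ D j := h.pr_mem j x
      have hv' : v' ∈ D o := h.pr_mem o x
      have hv0 : Q v' ≠ 0 := by rw [hQo]; exact one_ne_zero
      have h1 : Rel Q M v' (v' + v) := by
        rw [← hxe]
        refine Rel.trans hQl (fun hv0' _ => pair_mem_four h hst hn hv' hylD hv0' hQl (by rw [hQo, hQl1])) hxyl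
      have hS := siegIn_of_rel hv0 hQj (h.orth j o hoj.symm v hv v' hv') h1
      rw [hQo, inv_one, one_smul] at hS
      exact top_of_part h hle hst hn hiso hd3 hv hj hQj (h.orth j o hoj.symm v hv v' hv') (rootIn_of_siegIn hF hS)
        ⟨o, hoj, by rw [h.pr_of_mem hv']; exact ho⟩
    rcases hF (Q (prPart h j x)) with e | e
    · exact fin j o hjo.symm hj e (by rw [e, zero_add] at hsum; exact hsum) (hxe.trans (add_comm _ _)) ho
    · exact fin o j hjo ho (by rw [e] at hsum; linear_combination hsum) e hxe hj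
  push Not at h4
  by_cases h5 : ∃ p, p ≠ l ∧ p ≠ o ∧ prPart h p z ≠ 0
  · obtain ⟨p, hpl, hpo, hp⟩ := h5
    exact top_of_zero h hle hst hn hiso hd3 hy0 hy hyz hR (l := p) (by rw [← hxo p hpl]; exact h4 p hpo) hp
  push Not at h5
  have hyo : prPart h o y = prPart h o x := (hxo o hlo.symm).symm
  have hsum2 : ∀ i, i ≠ l → i ≠ o → prPart h i y = 0 := fun i hil hio => by rw [← hxo i hil]; exact h4 i hio
  have hQo : Q (prPart h o y) ≠ 0 := by
    rw [hyo, show prPart h o x = x from h.pr_of_mem (h.mem_iff.2 fun i hi => h4 i hi)]; exact hx0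
  have hzo : prPart h o z ∉ Submodule.span F {prPart h o y} := by
    intro hm
    obtain ⟨k, hk⟩ := Submodule.mem_span_singleton.1 hm
    have hye : y = yl + prPart h o y := h.ext_pr fun i => by
      rw [map_add]
      by_cases hil : i = l
      · subst hil; rw [h.pr_of_mem hylD, h.pr_other hlo.symm (h.pr_mem o y), add_zero]
      by_cases hio : i = o
      · subst hio; rw [h.pr_other (Ne.symm hil) hylD, h.pr_of_mem (h.pr_mem i y), zero_add]
      rw [hsum2 i hil hio, h.pr_other (Ne.symm hil) hylD, h.pr_other (Ne.symm hio) (h.pr_mem o y), add_zero]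
    have h1 := hyz
    rw [hye, polar_add_left, hylz, ← h.polar_pr (h.pr_mem o y) z, ← hk, polar_smul_right', polar_self', h2, zero_mul,
      mul_zero, add_zero] at h1
    exact one_ne_zero h1
  rcases four_step h hle hst hn hd hF hts hκ hy hyz hR hQo hzo with ⟨u, hu, hyu, hRu, hui⟩ | ⟨-, hQzo, -⟩
  · exact hgood o u hQo hu hyu hRu hui
  have hQz : Q z = 0 := by
    rw [h.Q_eq z]
    refine Finset.sum_eq_zero fun i _ => ?_
    by_cases hil : i = l
    · rw [hil]; exact hQzl
    by_cases hio : i = o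
    · rw [hio]; exact hQzo
    rw [h5 i hil hio, QuadraticMap.map_zero]
  refine top_of_singular_component h hle hst hn hiso hd3 hQz (by rw [QuadraticMap.polar_comm]; exact hyz)
    (hR.swap hy hQz hyz) (l := l) (fun hm => hzo (by rw [h.pr_other hlo hm]; exact Submodule.zero_mem _))
    (fun e => hzl (by rw [e]; exact Submodule.zero_mem _)) hQzl fun hm => ?_
  obtain ⟨k, hk⟩ := Submodule.mem_span_singleton.1 hm
  exact hQl (by show Q yl = 0; rw [show yl = k • prPart h l z from hk.symm, CfsgLib.Geometry.map_smul', hQzl, mul_zero])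

include h hle hst hn hiso hd hF hts in
/-- Stabilisers of orthogonal decompositions into four-dimensional minus spaces over two elements. -/
theorem decomp_four_stab_max (hκ : 2 ≤ Fintype.card κ) (hne : ∃ g ∈ M, ¬ KeepsParts D g) : siegelGroup Q ≤ M := by
  have hd3 : ∀ l, 3 ≤ Module.finrank F (D l) := fun l => le_trans (by norm_num) (hd l)
  obtain ⟨y, z, hy, hyz, hR, hy0, i, v, hv, hxv⟩ := exists_moved_root h hle hst hd3 hne
  by_cases hyD : ∃ l, y ∈ D l
  · obtain ⟨l, hl⟩ := hyD
    refine top_of_part h hle hst hn hiso hd3 hl hy0 hy hyz hR (other_component h fun hz => hxv ?_)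
    rw [siegel_apply]
    by_cases hil : i = l
    · subst hil
      exact (D i).sub_mem ((D i).sub_mem ((D i).add_mem hv ((D i).smul_mem _ hz)) ((D i).smul_mem _ hl))
        ((D i).smul_mem _ hl)
    · rw [h.orth i l hil v hv y hl, h.orth i l hil v hv z hz]
      simpa using hv
  push Not at hyD
  by_cases hind : ∀ l, prPart h l z ∈ Submodule.span F {prPart h l y}
  · exact top_of_proportional h hle hst hn hiso hd hy0 hy hyz hR hind ⟨i, v, hv, hxv⟩
  push Not at hind
  obtain ⟨l, hl⟩ := hind
  exact four_independent h hle hst hn hiso hd hF hts hκ hy0 hy hyz hR (hyD l) hl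

end CfsgLib.OrthMax
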