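import Cfsg.Agent.Lib.OrthMax.DecompBasic

/-! Stabilisers of orthogonal decompositions are maximal in `Ω(Q)`. -/

set_option autoImplicit false
set_option linter.unusedSectionVars false
set_option linter.unusedVariables false
set_option linter.unusedSimpArgs false
set_option linter.style.haveILetI false

namespace CfsgLib.OrthMax

open QuadraticMap CfsgLib.Geometry

variable {F V κ : Type*} [Field F] [Finite F] [AddCommGroup V] [Module F V] [FiniteDimensional F V]
variable [Fintype κ] [DecidableEq κ]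
variable {Q : QuadraticForm F V} {M : Subgroup (V ≃ₗ[F] V)} {D : κ → Submodule F V}
variable (h : OrthParts Q D) (hle : M ≤ siegelGroup Q)
  (hst : ∀ g ∈ siegelGroup Q, KeepsParts D g → g ∈ M)
  (hn : 5 ≤ Module.finrank F V) (hiso : ∀ i j, ∃ e : D i ≃ₗ[F] D j, ∀ v : D i, Q (e v : V) = Q (v : V))

include h in
theorem other_component {l : κ} {y : V} (hy : y ∉ D l) : ∃ j, j ≠ l ∧ prPart h j y ≠ 0 := by
  by_contra hc
  push Not at hc
  exact hy (h.mem_iff.2 hc)

include h hle hst hn hiso in
theorem top_of_zero (hd : ∀ l, 3 ≤ Module.finrank F (D l)) {y z : V} (hy0 : y ≠ 0) (hy : Q y = 0)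
    (hyz : polar Q y z = 0) (hR : RootIn Q M y z) {l : κ} (hyl : prPart h l y = 0) (hzl : prPart h l z ≠ 0) :
    siegelGroup Q ≤ M := by
  obtain ⟨a, ha, ha0, hQa⟩ := exists_singular_in (Q := Q) (D l) (hd l)
  have hya : polar Q y a = 0 := by rw [← h.polar_pr' ha, hyl, polar_zero_left]
  have hRa := (root_sweep h hle hst (hd l) hy hyz hR hyl hzl a ha).swap hy hQa hya
  refine top_of_part h hle hst hn hiso hd ha ha0 hQa (by rw [QuadraticMap.polar_comm]; exact hya) hRa
    (other_component h fun hm => hy0 ?_)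
  rw [← h.pr_of_mem hm, hyl]

include h in
theorem exists_perp_pair_in {l : κ} (hd : 3 ≤ Module.finrank F (D l)) {a : V} (ha : a ∈ D l) (ha0 : a ≠ 0)
    (hQa : Q a = 0) : ∃ c c', c ∈ D l ∧ c' ∈ D l ∧ polar Q a c = 0 ∧ polar Q a c' = 0 ∧ polar Q c c' = 1 := by
  obtain ⟨f, hf, hQf, haf⟩ := h.exists_partner_in ha ha0 hQa
  obtain ⟨p, hp, hpS⟩ : ∃ p ∈ D l, p ∉ Submodule.span F ({a, f} : Set V) := by
    refine SetLike.not_le_iff_exists.1 fun hle => ?_
    have h1 := Submodule.finrank_mono hle
    have h2 := finrank_pair_le (F := F) a f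
    omega
  obtain ⟨c', hc'⟩ : ∃ c', c' = p - polar Q p f • a - polar Q p a • f := ⟨_, rfl⟩
  have hfa : polar Q f a = 1 := by rw [QuadraticMap.polar_comm, haf]
  have hc'D : c' ∈ D l := hc' ▸ (D l).sub_mem ((D l).sub_mem hp ((D l).smul_mem _ ha)) ((D l).smul_mem _ hf)
  have hc'a : polar Q a c' = 0 := by
    rw [hc', polar_sub_right, polar_sub_right, polar_smul_right', polar_smul_right', polar_self', hQa, haf,
      QuadraticMap.polar_comm Q a p]
    ring
  have hc'f : polar Q f c' = 0 := by
    rw [hc', polar_sub_right, polar_sub_right, polar_smul_right', polar_smul_right', polar_self', hQf, hfa,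
      QuadraticMap.polar_comm Q f p]
    ring
  have hc'0 : c' ≠ 0 := fun e => hpS (Submodule.mem_span_pair.2 ⟨polar Q p f, polar Q p a, by
    rw [e] at hc'; linear_combination (norm := module) hc'⟩)
  obtain ⟨w, hw, hwc⟩ := h.exists_polar_in (x := c') (l := l) (by rwa [h.pr_of_mem hc'D]) 1
  refine ⟨w - polar Q w a • f, c', (D l).sub_mem hw ((D l).smul_mem _ hf), hc'D, ?_, hc'a, ?_⟩
  · rw [polar_sub_right, polar_smul_right', haf, QuadraticMap.polar_comm Q a w]; ring
  · rw [polar_sub_left, polar_smul_left', hwc, hc'f]; ring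

include h hle hst in
/-- Moving the second vector of a root group by a local Siegel element fixing the first. -/
theorem root_phi {l : κ} {y z a c : V} (hy : Q y = 0) (hyz : polar Q y z = 0) (hR : RootIn Q M y z)
    (ha : a ∈ D l) (hc : c ∈ D l) (hQa : Q a = 0) (hac : polar Q a c = 0) (hya : polar Q y a = 0)
    (hyc : polar Q y c = 0) :
    polar Q z a • c - (polar Q z c + Q c * polar Q z a) • a ∈ rootSpace Q M hy := by
  have hm := local_siegel_mem h hst ha hc hQa hac
  refine ⟨by rw [polar_sub_right, polar_smul_right', polar_smul_right', hya, hyc]; ring,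
    hR.diff hm (siegelGroup_le_orth (hle hm)) hy hyz ?_ ?_⟩
  · rw [siegel_apply, hya, hyc]; module
  · rw [siegel_apply]; module

include h hle hst hn hiso in
theorem top_of_singular_component (hd : ∀ l, 3 ≤ Module.finrank F (D l)) {y z : V} (hy : Q y = 0)
    (hyz : polar Q y z = 0) (hR : RootIn Q M y z) {l : κ} (hyD : y ∉ D l) (hyl0 : prPart h l y ≠ 0)
    (hyl : Q (prPart h l y) = 0) (hzl : prPart h l z ∉ Submodule.span F {prPart h l y}) :
    siegelGroup Q ≤ M := by
  set a := prPart h l y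
  have ha : a ∈ D l := h.pr_mem l y
  have hya : polar Q y a = 0 := by
    rw [QuadraticMap.polar_comm, ← h.polar_pr ha]; show polar Q a a = 0; rw [polar_self', hyl, mul_zero]
  have hyperp : ∀ c ∈ D l, polar Q a c = 0 → polar Q y c = 0 := fun c hc hac => by
    rw [← h.polar_pr' hc]; exact hac
  have haX : a ∈ rootSpace Q M hy := by
    by_cases hza : polar Q z a = 0
    · obtain ⟨c, hc, hac, hcz⟩ := h.exists_perp_polar ha hzl 1
      have := root_phi h hle hst hy hyz hR ha hc hyl hac hya (hyperp c hc hac)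
      rw [hza, QuadraticMap.polar_comm Q z c, hcz, mul_zero, add_zero, zero_smul, one_smul, zero_sub] at this
      simpa using (rootSpace Q M hy).neg_mem this
    · obtain ⟨c, c', hc, hc', hac, hac', hcc⟩ := exists_perp_pair_in h (hd l) ha hyl0 hyl
      have h1 := root_phi h hle hst hy hyz hR ha hc hyl hac hya (hyperp c hc hac)
      have h2 := root_phi h hle hst hy hyz hR ha hc' hyl hac' hya (hyperp c' hc' hac')
      have hsum : polar Q a (c + c') = 0 := by rw [polar_add_right, hac, hac', add_zero]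
      have h3 := root_phi h hle hst hy hyz hR ha ((D l).add_mem hc hc') hyl hsum hya
        (hyperp _ ((D l).add_mem hc hc') hsum)
      have h4 := (rootSpace Q M hy).smul_mem (polar Q z a)⁻¹
        ((rootSpace Q M hy).sub_mem ((rootSpace Q M hy).add_mem h1 h2) h3)
      convert h4 using 1
      rw [CfsgLib.Geometry.map_add', polar_add_right, hcc]
      match_scalars <;> field_simp <;> ring
  exact top_of_part h hle hst hn hiso hd ha hyl0 hyl (by rw [QuadraticMap.polar_comm]; exact hya)
    (haX.2.swap hy hyl hya) (other_component h hyD)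

include h in
theorem other_nonsingular {y : V} (hy : Q y = 0) {l : κ} (hl : Q (prPart h l y) ≠ 0) :
    ∃ j, j ≠ l ∧ Q (prPart h j y) ≠ 0 := by
  by_contra hc
  push Not at hc
  rw [h.Q_eq, Finset.sum_eq_single l (fun j _ hj => hc j hj) (by simp)] at hy
  exact hl hy

include h in
/-- A singular vector of a part orthogonal to a non-singular one, and a vector pairing with the latter. -/
theorem kernel_point {j : κ} (hd : 4 ≤ Module.finrank F (D j)) {y : V} (hQ : Q (prPart h j y) ≠ 0) :
    ∃ a b, a ∈ D j ∧ b ∈ D j ∧ a ≠ 0 ∧ Q a = 0 ∧ polar Q a y = 0 ∧ polar Q a b = 0 ∧ polar Q b y = 1 := by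
  set P := D j ⊓ polarPerp Q (Submodule.span F {y})
  have hPd : 3 ≤ Module.finrank F P := by
    have h1 := Submodule.finrank_sup_add_finrank_inf_eq (D j) (polarPerp Q (Submodule.span F {y}))
    have h2 := finrank_polarPerp h.gram (Submodule.span F {y})
    have h3 := Submodule.finrank_le (D j ⊔ polarPerp Q (Submodule.span F {y}))
    have h4 : Module.finrank F (Submodule.span F {y}) ≤ 1 := (finrank_span_le_card _).trans (by simp)
    change _ + Module.finrank F ↥P = _ at h1
    omega
  obtain ⟨a, ⟨haD, hay⟩, ha0, hQa⟩ := exists_singular_in (Q := Q) P hPd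
  have hay' : polar Q a y = 0 := by
    rw [QuadraticMap.polar_comm]; exact mem_polarPerp.1 hay y (Submodule.mem_span_singleton_self y)
  have hn : prPart h j y ∉ Submodule.span F {a} := fun hm => by
    obtain ⟨c, hc⟩ := Submodule.mem_span_singleton.1 hm
    exact hQ (by rw [← hc, CfsgLib.Geometry.map_smul', hQa, mul_zero])
  obtain ⟨b, hb, hab, hby⟩ := h.exists_perp_polar haD hn 1
  exact ⟨a, b, haD, hb, ha0, hQa, hay', hab, hby⟩

include h hle hst hn hiso in
/-- Using a root element with a fixed singular point in a part. -/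
theorem top_of_kernel (hd : ∀ l, 3 ≤ Module.finrank F (D l)) {y z : V} (hy : Q y = 0)
    (hyz : polar Q y z = 0) (hR : RootIn Q M y z) {j : κ} {a b : V} (ha : a ∈ D j) (hb : b ∈ D j) (ha0 : a ≠ 0)
    (hQa : Q a = 0) (hay : polar Q a y = 0) (haz : polar Q a z = 0) (hab : polar Q a b = 0)
    (hout : ∃ o, o ≠ j ∧ prPart h o (polar Q b y • z - (polar Q b z + Q z * polar Q b y) • y) ≠ 0) :
    siegelGroup Q ≤ M := by
  have hm : siegel Q y z hy hyz ∈ M := hR.one hy hyz
  have hgo := siegelGroup_le_orth (hle hm)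
  set g := siegel Q y z hy hyz
  have hga : g a = a := by rw [siegel_apply, hay, haz]; module
  have hR' : RootIn Q M a (g b) := fun t => by
    have := ((root_in_part h hst ha hb) t).conj hm hgo
    rwa [hga, map_smul] at this
  refine top_of_part h hle hst hn hiso hd ha ha0 hQa ?_ hR' ?_
  · rw [← hga, orth_polar hgo, hab]
  obtain ⟨o, ho, hne⟩ := hout
  refine ⟨o, ho, ?_⟩
  rw [siegel_apply, show b + polar Q b y • z - polar Q b z • y - (Q z * polar Q b y) • y =
    b + (polar Q b y • z - (polar Q b z + Q z * polar Q b y) • y) by module, map_add, h.pr_other ho.symm hb, zero_add]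
  exact hne

include h hle hst in
/-- A root vector in a part independent of the component. -/
theorem exists_root_in_part {l : κ} (hd4 : 4 ≤ Module.finrank F (D l))
    (hex : 5 ≤ Module.finrank F (D l) ∨ ∀ α β : F, α ≠ 0 → ∃ t : F, t * β + t * t * α ≠ 0)
    {y z : V} (hy : Q y = 0) (hyz : polar Q y z = 0) (hR : RootIn Q M y z) (hQ : Q (prPart h l y) ≠ 0)
    (hzl : prPart h l z ∉ Submodule.span F {prPart h l y}) :
    ∃ u ∈ D l, polar Q y u = 0 ∧ RootIn Q M y u ∧ u ∉ Submodule.span F {prPart h l y} := by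
  set yl := prPart h l y
  have hylD : yl ∈ D l := h.pr_mem l y
  obtain ⟨a₀, b₀, ha₀, -, ha₀0, hQa₀, ha₀y, -, -⟩ := kernel_point h hd4 hQ
  have hya₀ : polar Q y a₀ = 0 := by rw [QuadraticMap.polar_comm]; exact ha₀y
  obtain ⟨a, ha, hQa, hya, hza⟩ : ∃ a ∈ D l, Q a = 0 ∧ polar Q y a = 0 ∧ polar Q z a ≠ 0 := by
    by_cases h0 : polar Q z a₀ = 0
    swap
    · exact ⟨a₀, ha₀, hQa₀, hya₀, h0⟩
    obtain ⟨p, hp, hyp, hpz⟩ := h.exists_perp_polar hylD hzl 1
    have hn0 : yl ∉ Submodule.span F {a₀} := fun hm => by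
      obtain ⟨c, hc⟩ := Submodule.mem_span_singleton.1 hm
      exact hQ (show Q yl = 0 by rw [← hc, CfsgLib.Geometry.map_smul', hQa₀, mul_zero])
    obtain ⟨p', hp', hp'y, hp'a⟩ : ∃ p' ∈ D l, polar Q yl p' = 0 ∧ polar Q p' a₀ = 1 := by
      refine h.exists_perp_polar hylD ?_ 1
      rw [h.pr_of_mem ha₀]
      intro hm
      obtain ⟨c, hc⟩ := Submodule.mem_span_singleton.1 hm
      have hc0 : c ≠ 0 := fun e => ha₀0 (by rw [← hc, e, zero_smul])
      exact hn0 (Submodule.mem_span_singleton.2 ⟨c⁻¹, by rw [← hc, smul_smul, inv_mul_cancel₀ hc0, one_smul]⟩)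
    obtain ⟨q, hq, hyq, hqa, hqz⟩ : ∃ q ∈ D l, polar Q yl q = 0 ∧ polar Q q a₀ ≠ 0 ∧ polar Q z q ≠ 0 := by
      by_cases h1 : polar Q p a₀ = 0
      · by_cases h2 : polar Q z p' = 0
        · refine ⟨p + p', (D l).add_mem hp hp', by rw [polar_add_right, hyp, hp'y, add_zero],
            by rw [polar_add_left, h1, hp'a, zero_add]; exact one_ne_zero, ?_⟩
          rw [polar_add_right, h2, add_zero, QuadraticMap.polar_comm, hpz]; exact one_ne_zero
        · exact ⟨p', hp', hp'y, by rw [hp'a]; exact one_ne_zero, h2⟩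
      · exact ⟨p, hp, hyp, h1, by rw [QuadraticMap.polar_comm, hpz]; exact one_ne_zero⟩
    refine ⟨q + (-(Q q) * (polar Q q a₀)⁻¹) • a₀, (D l).add_mem hq ((D l).smul_mem _ ha₀), ?_, ?_, ?_⟩
    · rw [CfsgLib.Geometry.map_add', CfsgLib.Geometry.map_smul', hQa₀, polar_smul_right']; field_simp; ring
    · rw [polar_add_right, polar_smul_right', hya₀, ← h.polar_pr' hq, show prPart h l y = yl from rfl, hyq]; ring
    · rw [polar_add_right, polar_smul_right', h0, mul_zero, add_zero]; exact hqz
  have ha0 : a ≠ 0 := fun e => hza (by rw [e, polar_zero_right])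
  set S := Submodule.span F ({a, yl} : Set V)
  set P := D l ⊓ polarPerp Q (Submodule.span F ({y, a} : Set V))
  by_cases hPS : P ≤ S
  · -- characteristic two, dimension four
    have h1 := Submodule.finrank_sup_add_finrank_inf_eq (D l) (polarPerp Q (Submodule.span F ({y, a} : Set V)))
    have h2 := finrank_polarPerp h.gram (Submodule.span F ({y, a} : Set V))
    have h3 := Submodule.finrank_le (D l ⊔ polarPerp Q (Submodule.span F ({y, a} : Set V)))
    have h4 := finrank_pair_le (F := F) y a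
    have h5 := finrank_pair_le (F := F) a yl
    have h6 := Submodule.finrank_mono hPS
    change Module.finrank F ↥P ≤ Module.finrank F ↥S at h6
    change Module.finrank F ↥S ≤ 2 at h5
    change _ + Module.finrank F ↥P = _ at h1
    rcases hex with hex | hex
    · omega
    have hPeq : P = S := Submodule.eq_of_le_of_finrank_le hPS (by omega)
    have hyl : yl ∈ P := hPeq ▸ Submodule.subset_span (by simp)
    have hyyl : polar Q y yl = 0 := mem_polarPerp.1 hyl.2 y (Submodule.subset_span (by simp))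
    have hayl : polar Q a yl = 0 := mem_polarPerp.1 hyl.2 a (Submodule.subset_span (by simp))
    obtain ⟨t, ht⟩ := hex (Q yl * polar Q z a) (polar Q z yl) (mul_ne_zero hQ hza)
    have h0 := root_phi h hle hst hy hyz hR ha ((D l).smul_mem t hylD) hQa
      (by rw [polar_smul_right', hayl, mul_zero]) hya (by rw [polar_smul_right', hyyl, mul_zero])
    refine ⟨_, ?_, h0.1, h0.2, fun hm => ?_⟩
    · exact (D l).sub_mem ((D l).smul_mem _ ((D l).smul_mem _ hylD)) ((D l).smul_mem _ ha)
    obtain ⟨c, hc⟩ := Submodule.mem_span_singleton.1 hm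
    rw [polar_smul_right', CfsgLib.Geometry.map_smul'] at hc
    obtain ⟨f, hf, -, haf⟩ := h.exists_partner_in ha ha0 hQa
    have hn0 : a ∉ Submodule.span F {yl} := fun hm' => by
      obtain ⟨s, hs⟩ := Submodule.mem_span_singleton.1 hm'
      have hs0 : s ≠ 0 := fun e => ha0 (by rw [← hs, e, zero_smul])
      apply hQ
      have := hQa
      rw [← hs, CfsgLib.Geometry.map_smul'] at this
      exact (mul_eq_zero.1 this).resolve_left (mul_ne_zero hs0 hs0)
    have hcoef : (t * polar Q z yl + t * t * Q yl * polar Q z a) • a = (polar Q z a * t - c) • yl := by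
      linear_combination (norm := module) hc
    refine hn0 (Submodule.mem_span_singleton.2 ⟨(t * polar Q z yl + t * t * Q yl * polar Q z a)⁻¹ * (polar Q z a * t - c), ?_⟩)
    rw [mul_smul, ← hcoef, smul_smul, inv_mul_cancel₀ ?_, one_smul]
    intro e
    exact ht (by linear_combination e)
  · obtain ⟨c, hcP, hcS⟩ := SetLike.not_le_iff_exists.1 hPS
    have hyc : polar Q y c = 0 := mem_polarPerp.1 hcP.2 y (Submodule.subset_span (by simp))
    have hac : polar Q a c = 0 := mem_polarPerp.1 hcP.2 a (Submodule.subset_span (by simp))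
    have h0 := root_phi h hle hst hy hyz hR ha hcP.1 hQa hac hya hyc
    refine ⟨_, (D l).sub_mem ((D l).smul_mem _ hcP.1) ((D l).smul_mem _ ha), h0.1, h0.2, fun hm => ?_⟩
    obtain ⟨s, hs⟩ := Submodule.mem_span_singleton.1 hm
    refine hcS (Submodule.mem_span_pair.2 ⟨(polar Q z a)⁻¹ * (polar Q z c + Q c * polar Q z a), (polar Q z a)⁻¹ * s, ?_⟩)
    rw [mul_smul, mul_smul, hs, smul_sub, smul_smul (polar Q z a)⁻¹ (polar Q z a) c, inv_mul_cancel₀ hza, one_smul]
    module

include h hle hst hn hiso in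
theorem top_of_independent (hd : ∀ l, 4 ≤ Module.finrank F (D l)) {y z : V} (hy0 : y ≠ 0) (hy : Q y = 0)
    (hyz : polar Q y z = 0) (hR : RootIn Q M y z) {l : κ}
    (hex : 5 ≤ Module.finrank F (D l) ∨ ∀ α β : F, α ≠ 0 → ∃ t : F, t * β + t * t * α ≠ 0) (hyD : y ∉ D l)
    (hzl : prPart h l z ∉ Submodule.span F {prPart h l y}) : siegelGroup Q ≤ M := by
  have hd3 : ∀ l, 3 ≤ Module.finrank F (D l) := fun l => le_trans (by norm_num) (hd l)
  by_cases hyl : prPart h l y = 0
  · exact top_of_zero h hle hst hn hiso hd3 hy0 hy hyz hR hyl (fun e => hzl (by rw [e]; exact Submodule.zero_mem _))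
  by_cases hQl : Q (prPart h l y) = 0
  · exact top_of_singular_component h hle hst hn hiso hd3 hy hyz hR hyD hyl hQl hzl
  obtain ⟨u, hu, hyu, hRu, hui⟩ := exists_root_in_part h hle hst (hd l) hex hy hyz hR hQl hzl
  obtain ⟨j, hj, hQj⟩ := other_nonsingular h hy hQl
  obtain ⟨a, b, ha, hb, ha0, hQa, hay, hab, hby⟩ := kernel_point h (hd j) hQj
  refine top_of_kernel h hle hst hn hiso hd3 hy hyu hRu ha hb ha0 hQa hay (h.orth j l hj a ha u hu) hab ⟨l, hj.symm, ?_⟩
  rw [hby, h.orth j l hj b hb u hu, map_sub, map_smul, map_smul, h.pr_of_mem hu]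
  intro e
  exact hui (Submodule.mem_span_singleton.2 ⟨Q u, by linear_combination (norm := module) -e⟩)

include h in
theorem siegel_part_diff {y z : V} (hy : Q y = 0) (hyz : polar Q y z = 0) {i : κ} {v : V} (hv : v ∈ D i) {c : F}
    (hc : prPart h i z = c • prPart h i y) :
    siegel Q y z hy hyz v = v + polar Q v y • (z - (c + Q z) • y) := by
  have e : polar Q v z = c * polar Q v y := by
    rw [← h.polar_pr hv z, hc, polar_smul_right', h.polar_pr hv]
  rw [siegel_apply, e]; module

include h hle hst hn hiso in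
theorem top_of_proportional (hd : ∀ l, 4 ≤ Module.finrank F (D l)) {y z : V} (hy0 : y ≠ 0) (hy : Q y = 0)
    (hyz : polar Q y z = 0) (hR : RootIn Q M y z) (hprop : ∀ l, prPart h l z ∈ Submodule.span F {prPart h l y})
    (hmv : ∃ i, ∃ v ∈ D i, siegel Q y z hy hyz v ∉ D i) : siegelGroup Q ≤ M := by
  have hd3 : ∀ l, 3 ≤ Module.finrank F (D l) := fun l => le_trans (by norm_num) (hd l)
  choose c hc using fun l => Submodule.mem_span_singleton.1 (hprop l)
  obtain ⟨i, v, hv, hxv⟩ := hmv
  rw [siegel_part_diff h hy hyz hv (hc i).symm] at hxv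
  have hvy : polar Q v y ≠ 0 := fun e => hxv (by rw [e, zero_smul, add_zero]; exact hv)
  have hout : ∀ l, (∃ o, o ≠ l ∧ prPart h o (z - (c l + Q z) • y) ≠ 0) → Q (prPart h l y) ≠ 0 →
      siegelGroup Q ≤ M := by
    intro l hl hQl
    obtain ⟨a, b, ha, hb, ha0, hQa, hay, hab, hby⟩ := kernel_point h (hd l) hQl
    have haz : polar Q a z = 0 := by
      rw [← h.polar_pr ha z, ← hc l, polar_smul_right', h.polar_pr ha, hay, mul_zero]
    refine top_of_kernel h hle hst hn hiso hd3 hy hyz hR ha hb ha0 hQa hay haz hab ?_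
    rw [hby, show polar Q b z = c l by rw [← h.polar_pr hb z, ← hc l, polar_smul_right', h.polar_pr hb, hby, mul_one]]
    simpa using hl
  have hw : ∃ o, o ≠ i ∧ prPart h o (z - (c i + Q z) • y) ≠ 0 := other_component h fun hm =>
    hxv ((D i).add_mem hv ((D i).smul_mem _ hm))
  have hyi : prPart h i y ≠ 0 := fun e => hvy (by rw [← h.polar_pr hv, e, polar_zero_right])
  by_cases hQi : Q (prPart h i y) = 0
  swap
  · exact hout i hw hQi
  by_cases hall : ∀ l, Q (prPart h l y) = 0
  · -- the second vector is singular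
    have hQz : Q z = 0 := by
      rw [h.Q_eq z]
      refine Finset.sum_eq_zero fun l _ => ?_
      rw [← hc l, CfsgLib.Geometry.map_smul', hall l, mul_zero]
    rw [hQz, add_zero] at hw
    have hz' : Q (z - c i • y) = 0 := by
      rw [CfsgLib.Geometry.map_sub', CfsgLib.Geometry.map_smul', hQz, hy, polar_smul_right', QuadraticMap.polar_comm Q z y, hyz]; ring
    have hpol : polar Q y (z - c i • y) = 0 := by rw [polar_sub_right, polar_smul_right', hyz, polar_self', hy]; ring
    have hR' : RootIn Q M y (z - c i • y) := by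
      intro t
      rw [smul_sub, sub_eq_add_neg, smul_smul, ← neg_smul]
      refine (hR t).add (fun he hw' => ?_) hy (by rw [polar_smul_right', hyz, mul_zero])
        (by rw [polar_smul_right', polar_self', hy]; ring)
      rw [siegel_eq_one (-(t * c i)) he hw' rfl]; exact one_mem M
    obtain ⟨o, -, ho⟩ := hw
    refine top_of_zero h hle hst hn hiso hd3 (fun e => ho (by rw [e, map_zero])) hz'
      (by rw [QuadraticMap.polar_comm]; exact hpol) (hR'.swap hy hz' hpol) (l := i) ?_ hyi
    rw [map_sub, map_smul, ← hc i, sub_self]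
  push Not at hall
  obtain ⟨l, hl⟩ := hall
  obtain ⟨l', hll, hl'⟩ := other_nonsingular h hy hl
  by_cases h1 : ∃ o, o ≠ l ∧ prPart h o (z - (c l + Q z) • y) ≠ 0
  · exact hout l h1 hl
  by_cases h2 : ∃ o, o ≠ l' ∧ prPart h o (z - (c l' + Q z) • y) ≠ 0
  · exact hout l' h2 hl'
  push Not at h1 h2
  have heq : ∀ (m o : κ), prPart h o (z - (c m + Q z) • y) = 0 → prPart h o y ≠ 0 → c o = c m + Q z := by
    intro m o e h0
    rw [map_sub, map_smul, ← hc o, ← sub_smul] at e
    exact sub_eq_zero.1 ((smul_eq_zero.1 e).resolve_right h0)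
  have hl0 : prPart h l y ≠ 0 := fun e => hl (by rw [e, QuadraticMap.map_zero])
  have hil : i ≠ l := fun e => hl (by rw [← e]; exact hQi)
  have hil' : i ≠ l' := fun e => hl' (by rw [← e]; exact hQi)
  have e1 := heq l i (h1 i hil) hyi
  have e2 := heq l' i (h2 i hil') hyi
  have e3 := heq l' l (h2 l hll.symm) hl0
  have hQz : Q z = 0 := by linear_combination (e2 - e1) - e3
  exfalso
  obtain ⟨o, ho, hne⟩ := hw
  refine hne ?_
  have hci : c i = c l := by rw [e1, hQz, add_zero]
  by_cases hol : o = l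
  · subst hol; rw [map_sub, map_smul, ← hc o, hQz, hci, add_zero, sub_self]
  · have := h1 o hol
    rwa [hci]

include h hle in
/-- A root element outside the stabiliser. -/
theorem exists_moved_root (hst : ∀ g ∈ siegelGroup Q, KeepsParts D g → g ∈ M)
    (hd : ∀ l, 3 ≤ Module.finrank F (D l)) (hne : ∃ g ∈ M, ¬ KeepsParts D g) :
    ∃ y z, ∃ hy : Q y = 0, ∃ hyz : polar Q y z = 0, RootIn Q M y z ∧ y ≠ 0 ∧
      ∃ i, ∃ v ∈ D i, siegel Q y z hy hyz v ∉ D i := by
  obtain ⟨g, hg, hgn⟩ := hne
  have hgo := siegelGroup_le_orth (hle hg)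
  by_contra hc
  push Not at hc
  refine hgn fun i => ?_
  have hall : ∀ a ∈ D i, ∀ c ∈ D i, ∀ (hQa : Q a = 0) (hac : polar Q a c = 0) (l : κ), ∀ v ∈ D l,
      (g * siegel Q a c hQa hac * g⁻¹) v ∈ D l := by
    intro a ha c hc' hQa hac l v hv
    by_cases ha0 : a = 0
    · subst ha0
      rw [siegel_zero_left hQa hac, mul_one, mul_inv_cancel]; exact hv
    rw [siegel_conj hgo]
    refine hc (g a) (g c) _ _ (fun t => ?_) (fun e => ha0 (g.map_eq_zero_iff.1 e)) l v hv
    have := ((root_in_part h hst ha hc') t).conj hg hgo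
    rwa [map_smul] at this
  have hne' : (D i) ≠ ⊥ := fun e => by have := hd i; rw [e, finrank_bot] at this; omega
  obtain ⟨x₀, hx₀, hx₀0⟩ := Submodule.exists_mem_ne_zero_of_ne_bot hne'
  obtain ⟨l, hl⟩ : ∃ l, ∃ v ∈ D l, prPart h i (g.symm v) ≠ 0 := by
    by_contra hl
    push Not at hl
    refine hx₀0 ?_
    have e : prPart h i (g.symm (g x₀)) = 0 := by
      rw [← h.sum_pr (g x₀), map_sum, map_sum]
      exact Finset.sum_eq_zero fun l _ => hl l _ (h.pr_mem l _)
    rwa [g.symm_apply_apply, h.pr_of_mem hx₀] at e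
  obtain ⟨v, hv, hvi⟩ := hl
  refine ⟨l, fun x hx => ?_⟩
  have hW : D i ≤ (D l).map g.symm.toLinearMap := by
    refine sweep h (hd i) _ ?_ (v := g.symm v) ⟨v, hv, rfl⟩ hvi
    rintro a ha c hc' hQa hac _ ⟨w, hw, rfl⟩
    have h1 := hall a ha c hc' hQa hac l w hw
    refine ⟨(g * siegel Q a c hQa hac * g⁻¹) w - w, (D l).sub_mem h1 hw, ?_⟩
    show g.symm (g (siegel Q a c hQa hac (g.symm w)) - w) = _
    rw [map_sub, g.symm_apply_apply, siegel_diff hQa hac]
    rfl
  obtain ⟨w, hw, rfl⟩ := hW hx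
  simpa using hw

include h hle hst hn hiso in
/-- Stabilisers of orthogonal decompositions into parts of dimension at least four. -/
theorem decomp_stab_max (hd : ∀ l, 4 ≤ Module.finrank F (D l))
    (hex : ∀ l, 5 ≤ Module.finrank F (D l) ∨ ∀ α β : F, α ≠ 0 → ∃ t : F, t * β + t * t * α ≠ 0)
    (hne : ∃ g ∈ M, ¬ KeepsParts D g) : siegelGroup Q ≤ M := by
  have hd3 : ∀ l, 3 ≤ Module.finrank F (D l) := fun l => le_trans (by norm_num) (hd l)
  obtain ⟨y, z, hy, hyz, hR, hy0, i, v, hv, hxv⟩ := exists_moved_root h hle hst hd3 hne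
  by_cases hyD : ∃ l, y ∈ D l
  · obtain ⟨l, hl⟩ := hyD
    refine top_of_part h hle hst hn hiso hd3 hl hy0 hy hyz hR (other_component h fun hz => hxv ?_)
    rw [siegel_apply]
    by_cases hil : i = l
    · subst hil
      exact (D i).sub_mem ((D i).sub_mem ((D i).add_mem hv ((D i).smul_mem _ hz)) ((D i).smul_mem _ hl))
        ((D i).smul_mem _ hl)
    · rw [h.orth i l hil v hv y hl, h.orth i l hil v hv z hz]
      simpa using hv
  push Not at hyD
  by_cases hind : ∀ l, prPart h l z ∈ Submodule.span F {prPart h l y}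
  · exact top_of_proportional h hle hst hn hiso hd hy0 hy hyz hR hind ⟨i, v, hv, hxv⟩
  push Not at hind
  obtain ⟨l, hl⟩ := hind
  exact top_of_independent h hle hst hn hiso hd hy0 hy hyz hR (hex l) (hyD l) hl

end CfsgLib.OrthMax
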