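import Cfsg.Agent.Lib.OrthMax.DecompMax

/-! Orthogonal decompositions into three-dimensional parts. -/

set_option autoImplicit false
set_option linter.unusedSectionVars false
set_option linter.unusedVariables false
set_option linter.unusedSimpArgs false
set_option linter.style.haveILetI false

namespace CfsgLib.OrthMax

open QuadraticMap CfsgLib.Geometry

variable {F V κ : Type*} [Field F] [Finite F] [AddCommGroup V] [Module F V] [FiniteDimensional F V]
variable [Fintype κ] [DecidableEq κ]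
variable {Q : QuadraticForm F V} {M : Subgroup (V ≃ₗ[F] V)} {D : κ → Submodule F V}
variable (h : OrthParts Q D) (hle : M ≤ siegelGroup Q)
  (hst : ∀ g ∈ siegelGroup Q, KeepsParts D g → g ∈ M)
  (hn : 5 ≤ Module.finrank F V) (hiso : ∀ i j, ∃ e : D i ≃ₗ[F] D j, ∀ v : D i, Q (e v : V) = Q (v : V))
  (hd : ∀ l, 3 ≤ Module.finrank F (D l)) (h2 : (2 : F) ≠ 0) (hw : ∃ w : F, w ≠ 0 ∧ w * w ≠ 1)

include h hst hn h2 in
/-- Products of two reflections of equal value in a part. -/
theorem refl_pair_mem {l : κ} {a b : V} (ha : a ∈ D l) (hb : b ∈ D l) (hQa : Q a ≠ 0) (hab : Q b = Q a) :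
    refl Q a hQa * refl Q b (hab ▸ hQa) ∈ M := by
  have hR : reflGroup Q = Geometry.orth Q := reflGroup_eq_orth h.gram (Or.inl (by omega))
  let g : Geometry.orth Q := oRefl Q a hQa * oRefl Q b (hab ▸ hQa)
  have hg : (g : V ≃ₗ[F] V) ∈ siegelGroup Q := by
    refine (mem_commutator_iff_siegelGroup h.gram hn g).1 ((mem_commutator_orth_iff h.gram hR g).2 ?_)
    show orthInvariant h.gram hR (oRefl Q a hQa * oRefl Q b _) = 1
    rw [map_mul, orthInvariant_oRefl, orthInvariant_oRefl, Prod.mk_mul_mk]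
    refine Prod.ext ?_ (show Multiplicative.ofAdd (1 : ZMod 2) * Multiplicative.ofAdd 1 = 1 by decide)
    show sqMk _ * sqMk _ = 1
    simp only [hab]
    rw [← sqMk_mul, sqMk_eq_one_iff]
    exact ⟨_, rfl⟩
  refine hst _ hg (h.keeps_of_local (l := l) (siegelGroup_le_orth hg) fun v hv => ?_)
  show refl Q a hQa (refl Q b _ v) = v
  rw [refl_eq_self Q b (hab ▸ hQa) (by rw [QuadraticMap.polar_comm]; exact mem_polarPerp.1 hv b hb),
    refl_eq_self Q a hQa (by rw [QuadraticMap.polar_comm]; exact mem_polarPerp.1 hv a ha)]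

include h h2 in
theorem inf_line_nondeg {l : κ} {x : V} (hQ : Q (prPart h l x) ≠ 0) :
    (D l ⊓ polarPerp Q (Submodule.span F {x})) ⊓ polarPerp Q (D l ⊓ polarPerp Q (Submodule.span F {x})) = ⊥ := by
  rw [eq_bot_iff]
  rintro p ⟨⟨hp, hpx⟩, hp'⟩
  have hyp : polar Q x p = 0 := mem_polarPerp.1 hpx x (Submodule.mem_span_singleton_self x)
  refine (h.nd l).le ⟨hp, mem_polarPerp.2 fun u hu => ?_⟩
  set yl := prPart h l x
  have hc : 2 * Q yl ≠ 0 := mul_ne_zero h2 hQ
  set u' := u - (polar Q x u * (2 * Q yl)⁻¹) • yl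
  have hu' : u' ∈ D l ⊓ polarPerp Q (Submodule.span F {x}) := by
    refine ⟨(D l).sub_mem hu ((D l).smul_mem _ (h.pr_mem l x)), mem_polarPerp.2 fun z hz => ?_⟩
    obtain ⟨s, rfl⟩ := Submodule.mem_span_singleton.1 hz
    have e : polar Q x yl = 2 * Q yl := by
      rw [← h.polar_pr' (h.pr_mem l x), polar_self']
    rw [polar_smul_left', polar_sub_right, polar_smul_right', e, inv_mul_cancel_right₀ hc, sub_self, mul_zero]
  have h1 := mem_polarPerp.1 hp' u' hu'
  rw [polar_sub_left, polar_smul_left'] at h1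
  have h2' : polar Q yl p = 0 := by rw [h.polar_pr' hp, hyp]
  rwa [h2', mul_zero, sub_zero] at h1

include h hd h2 in
/-- Every value is taken orthogonally to a non-singular vector of a part. -/
theorem exists_value_perp {l : κ} {x : V} (hQ : Q (prPart h l x) ≠ 0) (c : F) :
    ∃ p ∈ D l, polar Q x p = 0 ∧ Q p = c := by
  set P := D l ⊓ polarPerp Q (Submodule.span F {x})
  have hP : P ⊓ polarPerp Q P = ⊥ := inf_line_nondeg h h2 hQ
  have hPd : 2 ≤ Module.finrank F P := by
    have h1 := Submodule.finrank_sup_add_finrank_inf_eq (D l) (polarPerp Q (Submodule.span F {x}))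
    have h2 := finrank_polarPerp h.gram (Submodule.span F {x})
    have h3 := Submodule.finrank_le (D l ⊔ polarPerp Q (Submodule.span F {x}))
    have h4 : Module.finrank F (Submodule.span F {x}) ≤ 1 := (finrank_span_le_card _).trans (by simp)
    have h5 := hd l
    change _ + Module.finrank F ↥P = _ at h1
    omega
  have hp : ∀ x y : P, polar (Q.comp P.subtype) x y = polar Q (x : V) (y : V) := fun x y => by
    simp [QuadraticMap.polar]
  have hl : ∀ x : P, (∀ y : P, polar Q (x : V) (y : V) = 0) → x = 0 := fun x hx => by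
    have hm : (x : V) ∈ P ⊓ polarPerp Q P :=
      ⟨x.2, mem_polarPerp.2 fun y hy => by rw [QuadraticMap.polar_comm]; exact hx ⟨y, hy⟩⟩
    rw [hP, Submodule.mem_bot] at hm
    exact Subtype.ext hm
  have hQP : (polarBilin (Q.comp P.subtype)).Nondegenerate :=
    ⟨fun x hx => hl x fun y => (hp x y).symm.trans (hx y), fun y hy => hl y fun x =>
      by rw [QuadraticMap.polar_comm]; exact (hp x y).symm.trans (hy x)⟩
  by_cases hc : c = 0
  · exact ⟨0, (D l).zero_mem, polar_zero_right _ _, by rw [QuadraticMap.map_zero, hc]⟩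
  obtain ⟨a, ha⟩ := exists_represents hQP hPd c
  exact ⟨a, a.2.1, mem_polarPerp.1 a.2.2 x (Submodule.mem_span_singleton_self x), ha⟩

include h hle hst hn hd h2 hw in
theorem exists_root_in_three {l : κ} {y z : V} (hy : Q y = 0) (hyz : polar Q y z = 0) (hR : RootIn Q M y z)
    (hQ : Q (prPart h l y) ≠ 0) (hzl : prPart h l z ∉ Submodule.span F {prPart h l y}) :
    ∃ u ∈ D l, polar Q y u = 0 ∧ RootIn Q M y u ∧ u ≠ 0 := by
  obtain ⟨w, hw0, hw1⟩ := hw
  set yl := prPart h l y
  set P := D l ⊓ polarPerp Q (Submodule.span F {y})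
  have hP : P ⊓ polarPerp Q P = ⊥ := inf_line_nondeg h h2 hQ
  obtain ⟨p, hpD, hyp', hpz⟩ := h.exists_perp_polar (h.pr_mem l y) hzl 1
  have hyp : polar Q y p = 0 := by rw [← h.polar_pr' hpD]; exact hyp'
  have hpP : p ∈ P := ⟨hpD, mem_polarPerp.2 fun x hx => by
    obtain ⟨s, rfl⟩ := Submodule.mem_span_singleton.1 hx
    rw [polar_smul_left', hyp, mul_zero]⟩
  have hp0 : p ≠ 0 := fun e => by rw [e, polar_zero_left] at hpz; exact zero_ne_one hpz
  obtain ⟨b, hbP, hQb, hbz⟩ : ∃ b ∈ P, Q b ≠ 0 ∧ polar Q z b ≠ 0 := by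
    by_cases hQp : Q p = 0
    swap
    · exact ⟨p, hpP, hQp, by rw [QuadraticMap.polar_comm, hpz]; exact one_ne_zero⟩
    obtain ⟨f₀, hf₀, hpf₀⟩ : ∃ f₀ ∈ P, polar Q p f₀ ≠ 0 := by
      by_contra hc
      push Not at hc
      exact hp0 (hP.le ⟨hpP, mem_polarPerp.2 fun u hu => by rw [QuadraticMap.polar_comm]; exact hc u hu⟩)
    set f := f₀ - (Q f₀ * (polar Q p f₀)⁻¹) • p
    have hfP : f ∈ P := P.sub_mem hf₀ (P.smul_mem _ hpP)
    have hQf : Q f = 0 := by
      rw [CfsgLib.Geometry.map_sub', CfsgLib.Geometry.map_smul', hQp, polar_smul_right', QuadraticMap.polar_comm Q f₀ p]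
      field_simp
      ring
    have hpf : polar Q p f ≠ 0 := by
      rw [polar_sub_right, polar_smul_right', polar_self', hQp, mul_zero, mul_zero, sub_zero]; exact hpf₀
    have hzp : polar Q z p = 1 := by rw [QuadraticMap.polar_comm, hpz]
    by_cases h1 : polar Q z (p + f) = 0
    · refine ⟨p - f, P.sub_mem hpP hfP, ?_, ?_⟩
      · rw [CfsgLib.Geometry.map_sub', hQp, hQf, add_zero, zero_sub]; exact neg_ne_zero.2 hpf
      · intro e
        rw [polar_add_right, hzp] at h1
        rw [polar_sub_right, hzp] at e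
        exact h2 (by linear_combination h1 + e)
    · exact ⟨p + f, P.add_mem hpP hfP, by rw [CfsgLib.Geometry.map_add', hQp, hQf]; simpa using hpf, h1⟩
  obtain ⟨e₀, he₀, he₀b⟩ : ∃ e₀ ∈ P, e₀ ∉ Submodule.span F {b} := by
    refine SetLike.not_le_iff_exists.1 fun hle' => ?_
    have h1 := Submodule.finrank_mono hle'
    have h3 : Module.finrank F (Submodule.span F {b}) ≤ 1 := (finrank_span_le_card _).trans (by simp)
    have h4 := Submodule.finrank_sup_add_finrank_inf_eq (D l) (polarPerp Q (Submodule.span F {y}))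
    have h5 := finrank_polarPerp h.gram (Submodule.span F {y})
    have h6 := Submodule.finrank_le (D l ⊔ polarPerp Q (Submodule.span F {y}))
    have h7 : Module.finrank F (Submodule.span F {y}) ≤ 1 := (finrank_span_le_card _).trans (by simp)
    have h8 := hd l
    change _ + Module.finrank F ↥P = _ at h4
    omega
  set e := e₀ - (polar Q e₀ b * (2 * Q b)⁻¹) • b
  have heP : e ∈ P := P.sub_mem he₀ (P.smul_mem _ hbP)
  have heb : polar Q e b = 0 := by
    rw [polar_sub_left, polar_smul_left', polar_self', inv_mul_cancel_right₀ (mul_ne_zero h2 hQb), sub_self]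
  have hei : e ∉ Submodule.span F {b} := fun hm => he₀b (by
    have := add_mem hm (Submodule.smul_mem _ (polar Q e₀ b * (2 * Q b)⁻¹) (Submodule.mem_span_singleton_self b))
    simpa [e] using this)
  obtain ⟨s, hs, hsQ⟩ : ∃ s : F, s ≠ 0 ∧ Q (b + s • e) ≠ 0 := by
    by_cases h1 : Q (b + (1 : F) • e) = 0
    · refine ⟨w, hw0, fun h3 => hw1 ?_⟩
      simp only [CfsgLib.Geometry.map_add', CfsgLib.Geometry.map_smul', polar_smul_right',
        QuadraticMap.polar_comm Q b e, heb] at h1 h3
      have : (w * w - 1) * Q b = 0 := by linear_combination w * w * h1 - h3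
      exact sub_eq_zero.1 ((mul_eq_zero.1 this).resolve_right hQb)
    · exact ⟨1, one_ne_zero, h1⟩
  set d := b + s • e
  have hdP : d ∈ P := P.add_mem hbP (P.smul_mem _ heP)
  set b' := refl Q d hsQ b
  have hb' : b' = b - ((Q d)⁻¹ * polar Q b d) • d := refl_apply Q d hsQ b
  have hb'P : b' ∈ P := hb' ▸ P.sub_mem hbP (P.smul_mem _ hdP)
  have hQb' : Q b' = Q b := mem_orth.1 (refl_mem_orth Q d hsQ) b
  have hperp : ∀ x ∈ P, polar Q y x = 0 := fun x hx => mem_polarPerp.1 hx.2 y (Submodule.mem_span_singleton_self y)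
  have hm := refl_pair_mem h hst hn h2 hbP.1 hb'P.1 hQb hQb'
  have hgo := siegelGroup_le_orth (hle hm)
  set g := refl Q b hQb * refl Q b' (hQb' ▸ hQb)
  have hgy : g y = y := by
    show refl Q b hQb (refl Q b' _ y) = y
    rw [refl_eq_self Q b' (hQb' ▸ hQb) (hperp b' hb'P), refl_eq_self Q b hQb (hperp b hbP)]
  set u := g z - z
  have hgz : g z = z + u := by simp [u]
  have hcomp : u = (-((Q b')⁻¹ * polar Q z b')) • b' +
      (-((Q b)⁻¹ * polar Q (refl Q b' (hQb' ▸ hQb) z) b)) • b := by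
    show refl Q b hQb (refl Q b' _ z) - z = _
    rw [refl_apply Q b hQb, refl_apply Q b']
    module
  refine ⟨u, hcomp ▸ (D l).add_mem ((D l).smul_mem _ hb'P.1) ((D l).smul_mem _ hbP.1), ?_,
    hR.diff hm hgo hy hyz hgy hgz, fun hu => ?_⟩
  · rw [hcomp, polar_add_right, polar_smul_right', polar_smul_right', hperp b' hb'P, hperp b hbP]; ring
  rw [hu] at hcomp
  have hbd : polar Q b d = 2 * Q b := by
    rw [polar_add_right, polar_smul_right', polar_self', QuadraticMap.polar_comm Q b e, heb]; ring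
  by_cases h0 : (Q b')⁻¹ * polar Q z b' = 0
  · rw [h0, neg_zero, zero_smul, zero_add, refl_apply, h0, zero_smul, sub_zero] at hcomp
    have hb0 : b ≠ 0 := fun e' => hQb (by rw [e', QuadraticMap.map_zero])
    have := (smul_eq_zero.1 hcomp.symm).resolve_right hb0
    rw [neg_eq_zero, mul_eq_zero] at this
    exact hbz (this.resolve_left (inv_ne_zero hQb))
  · have hm' : b' ∈ Submodule.span F {b} := Submodule.mem_span_singleton.2
      ⟨-((Q b')⁻¹ * polar Q z b')⁻¹ * ((Q b)⁻¹ * polar Q (refl Q b' (hQb' ▸ hQb) z) b), by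
        rw [mul_smul]
        have : ((Q b)⁻¹ * polar Q (refl Q b' (hQb' ▸ hQb) z) b) • b = -(((Q b')⁻¹ * polar Q z b') • b') := by
          linear_combination (norm := module) hcomp
        rw [this, smul_neg, neg_smul, neg_neg, smul_smul, inv_mul_cancel₀ h0, one_smul]⟩
    obtain ⟨c, hc⟩ := Submodule.mem_span_singleton.1 hm'
    have hk : (Q d)⁻¹ * polar Q b d ≠ 0 := mul_ne_zero (inv_ne_zero hsQ) (by rw [hbd]; exact mul_ne_zero h2 hQb)
    refine hei (Submodule.mem_span_singleton.2 ⟨((Q d)⁻¹ * polar Q b d * s)⁻¹ * (1 - c - (Q d)⁻¹ * polar Q b d), ?_⟩)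
    have h1 : ((Q d)⁻¹ * polar Q b d * s) • e = (1 - c - (Q d)⁻¹ * polar Q b d) • b := by
      rw [hb'] at hc
      simp only [d] at hc ⊢
      linear_combination (norm := module) hc
    rw [mul_smul, ← h1, smul_smul, inv_mul_cancel₀ (mul_ne_zero hk hs), one_smul]

include h hle hst hn hiso hd h2 in
/-- A translate of `y` gives a root group with smaller support. -/
theorem top_of_translate {l : κ} {y u : V} (hy : Q y = 0) (hu : u ∈ D l) (hyu : polar Q y u = 0)
    (hR : RootIn Q M y u) (hQu : Q u ≠ 0) (hyl : prPart h l y ≠ 0) {g : V ≃ₗ[F] V} (hg : g ∈ M)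
    (hgu : g u = u) (hgr : prPart h l (g y) = prPart h l y) (hperp : polar Q y (g y) = 0) (hne : g y ≠ y) :
    siegelGroup Q ≤ M := by
  have hgo := siegelGroup_le_orth (hle hg)
  have hgy : Q (g y) = 0 := by rw [mem_orth.1 hgo, hy]
  have hgyu : polar Q (g y) u = 0 := by
    conv_lhs => rw [← hgu]
    rw [orth_polar hgo, hyu]
  have hR1 : RootIn Q M (g y) u := fun t => by
    have := (hR t).conj hg hgo
    rwa [map_smul, hgu] at this
  have hxM : siegel Q y u hy hyu ∈ M := hR.one hy hyu
  have h1 := hR1.diff (d := (-(2 * Q u)) • y) hxM (siegel_mem_orth Q y u hy hyu) hgy hgyu ?_ ?_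
  · have h2' := h1.smul (-(2 * Q u))⁻¹
    rw [smul_smul, inv_mul_cancel₀ (neg_ne_zero.2 (mul_ne_zero h2 hQu)), one_smul] at h2'
    have hgyy : polar Q (g y) y = 0 := by rw [QuadraticMap.polar_comm]; exact hperp
    have h3 := h2'.swap hgy hy hgyy
    have hyy : polar Q y y = 0 := by rw [polar_self', hy, mul_zero]
    have h4 : RootIn Q M y ((-1 : F) • y) := fun t he hw' => by
      rw [siegel_eq_one (t * -1) he hw' (smul_smul t (-1) y)]; exact one_mem M
    have h5 := h3.add h4 hy hperp (by rw [polar_smul_right', hyy, mul_zero])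
    set r := g y + (-1 : F) • y
    have hr0 : r ≠ 0 := fun e => hne (by
      rw [← sub_eq_zero, ← e]; module)
    have hr : Q r = 0 := by
      rw [CfsgLib.Geometry.map_add', CfsgLib.Geometry.map_smul', hgy, hy, polar_smul_right', hgyy]; ring
    have hyr : polar Q y r = 0 := by rw [polar_add_right, polar_smul_right', hperp, hyy]; ring
    refine top_of_zero h hle hst hn hiso hd hr0 hr (by rw [QuadraticMap.polar_comm]; exact hyr)
      (h5.swap hy hr hyr) (l := l) ?_ hyl
    rw [map_add, map_smul, hgr]; module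
  · rw [siegel_apply, QuadraticMap.polar_comm Q (g y) y, hperp, hgyu]; module
  · rw [siegel_apply, QuadraticMap.polar_comm Q u y, hyu, polar_self']; module

include h hle hst hn hiso hd h2 hw in
theorem three_rich {l : κ} {y u : V} (hy : Q y = 0) (hu : u ∈ D l) (hyu : polar Q y u = 0)
    (hR : RootIn Q M y u) (hQu : Q u ≠ 0) (hyl : prPart h l y ≠ 0) {j : κ} (hjl : j ≠ l)
    (hcase : (prPart h j y ≠ 0 ∧ Q (prPart h j y) = 0) ∨
      (Q (prPart h j y) ≠ 0 ∧ ∃ o, o ≠ l ∧ o ≠ j ∧ Q (prPart h o y) ≠ 0)) : siegelGroup Q ≤ M := by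
  classical
  obtain ⟨w, hw0, hw1⟩ := hw
  have hfix : ∀ {g : V ≃ₗ[F] V} {o : κ}, o ≠ l → (∀ v ∈ polarPerp Q (D o), g v = v) → ∀ v ∈ D l, g v = v :=
    fun ho hg v hv => hg v (mem_polarPerp.2 fun x hx => h.orth _ l ho x hx v hv)
  rcases hcase with ⟨he0, he⟩ | ⟨hQj, o, hol, hoj, hQo⟩
  · -- a torus element
    have hR' : reflGroup Q = Geometry.orth Q := reflGroup_eq_orth h.gram (Or.inl (by omega))
    set e := prPart h j y
    have heD : e ∈ D j := h.pr_mem j y
    obtain ⟨f, hf, hQf, hef⟩ := h.exists_partner_in heD he0 he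
    obtain ⟨g, hg, hgx⟩ := exists_pair_scale h.gram hR' he hQf hef (mul_ne_zero hw0 hw0)
    have hgS : (g : V ≃ₗ[F] V) ∈ siegelGroup Q := by
      refine (mem_commutator_iff_siegelGroup h.gram hn g).1 ((mem_commutator_orth_iff h.gram hR' g).2 ?_)
      rw [hg, (sqMk_eq_one_iff (mul_ne_zero hw0 hw0)).2 ⟨w, rfl⟩]
      rfl
    have hgf : ∀ v ∈ polarPerp Q (D j), (g : V ≃ₗ[F] V) v = v := fun v hv => by
      rw [hgx, QuadraticMap.polar_comm Q v f, QuadraticMap.polar_comm Q v e, mem_polarPerp.1 hv f hf,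
        mem_polarPerp.1 hv e heD]
      module
    have hye : polar Q y e = 0 := by rw [← h.polar_pr' heD]; show polar Q e e = 0; rw [polar_self', he, mul_zero]
    have hyf : polar Q y f = 1 := by rw [← h.polar_pr' hf]; exact hef
    have hgy : (g : V ≃ₗ[F] V) y = y + (w * w - 1) • e := by rw [hgx, hye, hyf]; module
    refine top_of_translate h hle hst hn hiso hd h2 hy hu hyu hR hQu hyl (hst _ hgS (h.keeps_of_local g.2 hgf))
      (hfix hjl hgf u hu) ?_ ?_ ?_
    · rw [hgy, map_add, map_smul, h.pr_other hjl heD, smul_zero, add_zero]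
    · rw [hgy, polar_add_right, polar_smul_right', hye, polar_self', hy]; ring
    · rw [hgy]; intro e'
      rw [add_eq_left, smul_eq_zero] at e'
      exact e'.elim (fun h0 => hw1 (sub_eq_zero.1 h0)) he0
  · -- two reflection pairs
    have hstep : ∀ (o : κ), Q (prPart h o y) ≠ 0 → ∀ c : F, c ≠ 0 → c ≠ 4 * Q (prPart h o y) →
        ∃ g ∈ M, (∀ v ∈ polarPerp Q (D o), g v = v) ∧ g y - y ∈ D o ∧ polar Q y (g y - y) = -c ∧ g y ≠ y := by
      intro o hQ c hc0 hc4
      set yo := prPart h o y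
      have h2Q : 2 * Q yo ≠ 0 := mul_ne_zero h2 hQ
      obtain ⟨p, hp, hyp, hQp⟩ := exists_value_perp h hd h2 hQ (c - c * c * (4 * Q yo)⁻¹)
      obtain ⟨b, hb, hyb, hQb⟩ := exists_value_perp h hd h2 hQ c
      set r := (-c * (2 * Q yo)⁻¹) • yo + p
      have hrD : r ∈ D o := (D o).add_mem ((D o).smul_mem _ (h.pr_mem o y)) hp
      have h4 : (4 : F) * Q yo ≠ 0 := by rw [show (4 : F) = 2 * 2 by norm_num]; exact mul_ne_zero (mul_ne_zero h2 h2) hQ
      have hQr : Q r = c := by
        rw [CfsgLib.Geometry.map_add', CfsgLib.Geometry.map_smul', hQp, polar_smul_left',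
          show polar Q yo p = 0 by rw [h.polar_pr' hp]; exact hyp,
          show (4 * Q yo)⁻¹ = (2 * Q yo)⁻¹ * (2 * Q yo)⁻¹ * Q yo from inv_eq_of_mul_eq_one_right (by
            linear_combination ((2 * Q yo)⁻¹ * (2 * Q yo) + 1) * inv_mul_cancel₀ h2Q)]
        ring
      have hyr : polar Q y r = -c := by
        rw [polar_add_right, polar_smul_right', hyp, ← h.polar_pr' (h.pr_mem o y)]
        show _ * polar Q yo yo + 0 = -c
        rw [polar_self', inv_mul_cancel_right₀ h2Q, add_zero]
      have hQr0 : Q r ≠ 0 := by rw [hQr]; exact hc0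
      have hm := refl_pair_mem h hst hn h2 hrD hb hQr0 (hQb.trans hQr.symm)
      have hgy : (refl Q r hQr0 * refl Q b (by rw [hQb]; exact hc0)) y = y + r := by
        show refl Q r hQr0 (refl Q b _ y) = _
        rw [refl_eq_self Q b _ hyb, refl_apply, hyr, hQr]
        match_scalars <;> field_simp
      refine ⟨_, hm, fun v hv => ?_, ?_, ?_, ?_⟩
      · have hQb0 : Q b ≠ 0 := by rw [hQb]; exact hc0
        show refl Q r hQr0 (refl Q b hQb0 v) = v
        rw [refl_eq_self Q b hQb0 (by rw [QuadraticMap.polar_comm]; exact mem_polarPerp.1 hv b hb),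
          refl_eq_self Q r hQr0 (by rw [QuadraticMap.polar_comm]; exact mem_polarPerp.1 hv r hrD)]
      · rw [hgy, add_sub_cancel_left]; exact hrD
      · rw [hgy, add_sub_cancel_left]; exact hyr
      · rw [hgy]; intro e; exact hQr0 (by rw [add_eq_left.1 e, QuadraticMap.map_zero])
    obtain ⟨c, hc0, hc1, hc2⟩ : ∃ c : F, c ≠ 0 ∧ c ≠ 4 * Q (prPart h j y) ∧ c ≠ -(4 * Q (prPart h o y)) := by
      by_contra hc
      push Not at hc
      have h1w : w ≠ 1 := fun e => hw1 (by rw [e, one_mul])
      have h1w' : w ≠ -1 := fun e => hw1 (by rw [e]; ring)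
      have hm1 : (-1 : F) ≠ 1 := fun e => h2 (by linear_combination -e)
      have a1 := hc 1 one_ne_zero
      have a2 := hc w hw0
      have a3 := hc (-1) (neg_ne_zero.2 one_ne_zero)
      by_cases b1 : (1 : F) = 4 * Q (prPart h j y)
      · have c2 := a2 (fun e => h1w (e.trans b1.symm))
        exact h1w' (c2.trans (a3 (fun e => hm1 (e.trans b1.symm))).symm)
      · have c1 := a1 b1
        by_cases b2 : w = 4 * Q (prPart h j y)
        · exact hm1 ((a3 (fun e => h1w' (b2.trans e.symm))).trans c1.symm)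
        · exact h1w ((a2 b2).trans c1.symm)
    obtain ⟨g, hgM, hgf, hgD, hgp, hgne⟩ := hstep j hQj c hc0 hc1
    obtain ⟨g', hgM', hgf', hgD', hgp', -⟩ := hstep o hQo (-c) (neg_ne_zero.2 hc0) (fun e => hc2 (by rw [← e, neg_neg]))
    set r := g y - y
    set r' := g' y - y
    have hgg : (g * g') y = y + r + r' := by
      show g (g' y) = _
      rw [show g' y = y + r' by simp [r'], map_add, hgf r' (mem_polarPerp.2 fun x hx => h.orth j o hoj.symm x hx r' hgD')]
      simp [r]
    refine top_of_translate h hle hst hn hiso hd h2 hy hu hyu hR hQu hyl (mul_mem hgM hgM') ?_ ?_ ?_ ?_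
    · show g (g' u) = u
      rw [hfix hol hgf' u hu, hfix hjl hgf u hu]
    · rw [hgg, map_add, map_add, h.pr_other hjl hgD, h.pr_other hol hgD', add_zero, add_zero]
    · rw [hgg, polar_add_right, polar_add_right, polar_self', hy, hgp, hgp']; ring
    · intro e
      rw [hgg, add_assoc, add_eq_left] at e
      have := congrArg (prPart h j) e
      rw [map_add, map_zero, h.pr_of_mem hgD, h.pr_other hoj hgD', add_zero] at this
      exact hgne (sub_eq_zero.1 this)

include h hle hst hn hiso hd h2 hw in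
theorem three_independent (hκ : 3 ≤ Fintype.card κ) {y z : V} (hy0 : y ≠ 0) (hy : Q y = 0)
    (hyz : polar Q y z = 0) (hR : RootIn Q M y z) {l : κ} (hyD : y ∉ D l)
    (hzl : prPart h l z ∉ Submodule.span F {prPart h l y}) : siegelGroup Q ≤ M := by
  classical
  -- the case of a rich support
  have rich : ∀ y z : V, y ≠ 0 → Q y = 0 → polar Q y z = 0 → RootIn Q M y z → ∀ l, y ∉ D l →
      prPart h l z ∉ Submodule.span F {prPart h l y} →
      (∀ j, j ≠ l → Q (prPart h j y) ≠ 0 → (∀ o, o ≠ l → o ≠ j → prPart h o y = 0) →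
        Q (prPart h l y) ≠ 0 → ∀ u ∈ D l, polar Q y u = 0 → RootIn Q M y u → Q u ≠ 0 → siegelGroup Q ≤ M) →
      siegelGroup Q ≤ M := by
    intro y z hy0 hy hyz hR l hyD hzl hpoor
    by_cases hyl : prPart h l y = 0
    · exact top_of_zero h hle hst hn hiso hd hy0 hy hyz hR hyl (fun e => hzl (by rw [e]; exact Submodule.zero_mem _))
    by_cases hQl : Q (prPart h l y) = 0
    · exact top_of_singular_component h hle hst hn hiso hd hy hyz hR hyD hyl hQl hzl
    obtain ⟨u, hu, hyu, hRu, hu0⟩ := exists_root_in_three h hle hst hn hd h2 hw hy hyz hR hQl hzl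
    by_cases hQu : Q u = 0
    · exact top_of_part h hle hst hn hiso hd hu hu0 hQu (by rw [QuadraticMap.polar_comm]; exact hyu)
        (hRu.swap hy hQu hyu) (other_component h hyD)
    obtain ⟨j, hjl, hQj⟩ := other_nonsingular h hy hQl
    by_cases hs : ∃ o, o ≠ l ∧ o ≠ j ∧ prPart h o y ≠ 0
    · obtain ⟨o, hol, hoj, ho⟩ := hs
      by_cases hQo : Q (prPart h o y) = 0
      · exact three_rich h hle hst hn hiso hd h2 hw hy hu hyu hRu hQu hyl hol (Or.inl ⟨ho, hQo⟩)
      · exact three_rich h hle hst hn hiso hd h2 hw hy hu hyu hRu hQu hyl hjl (Or.inr ⟨hQj, o, hol, hoj, hQo⟩)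
    · push Not at hs
      exact hpoor j hjl hQj hs hQl u hu hyu hRu hQu
  refine rich y z hy0 hy hyz hR l hyD hzl fun j hjl hQj hsupp hQl u hu hyu hRu hQu => ?_
  -- exactly two parts: use a third one
  obtain ⟨o, hol, hoj⟩ : ∃ o, o ≠ l ∧ o ≠ j := by
    by_contra hc
    push Not at hc
    have : (Finset.univ : Finset κ) ⊆ {l, j} := fun o _ => by
      by_cases ho : o = l
      · simp [ho]
      · simp [hc o ho]
    have h1 := Finset.card_le_card this
    rw [Finset.card_univ] at h1
    have h3 : ({l, j} : Finset κ).card ≤ 2 := (Finset.card_insert_le _ _).trans (by simp)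
    omega
  obtain ⟨τ, hτ, hτk, hτj, hτo, hτf⟩ :=
    exists_part_swap h hn hiso (fun l => le_trans (by norm_num) (hd l)) (i := j) (j := o) hoj.symm
  have hτM := hst τ hτ hτk
  have hτor := siegelGroup_le_orth hτ
  set yl := prPart h l y
  set yj := prPart h j y
  have hysum : y = yl + yj := h.ext_pr fun a => by
    rw [map_add]
    by_cases hal : a = l
    · subst hal; rw [h.pr_of_mem (h.pr_mem _ y), h.pr_other hjl (h.pr_mem j y), add_zero]
    by_cases haj : a = j
    · subst haj; rw [h.pr_of_mem (h.pr_mem _ y), h.pr_other hjl.symm (h.pr_mem l y), zero_add]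
    rw [hsupp a hal haj, h.pr_other (Ne.symm hal) (h.pr_mem l y), h.pr_other (Ne.symm haj) (h.pr_mem j y), add_zero]
  set v := τ yj
  have hvo : v ∈ D o := hτj yj (h.pr_mem j y)
  have hτy : τ y = yl + v := by
    rw [hysum, map_add, hτf l hjl.symm hol.symm yl (h.pr_mem l y)]
  have hτu : τ u = u := hτf l hjl.symm hol.symm u hu
  obtain ⟨w, hw0, hw1⟩ := id hw
  obtain ⟨β, hβ⟩ : ∃ β, β = 2 * Q yl := ⟨_, rfl⟩
  obtain ⟨s, hs0, hs⟩ : ∃ s : F, s ≠ 0 ∧ 1 + s * s * β * Q u ≠ 0 := by
    by_cases h1 : 1 + (1 : F) * 1 * β * Q u = 0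
    · refine ⟨w, hw0, fun h3 => hw1 ?_⟩
      linear_combination (w * w) * h1 - h3
    · exact ⟨1, one_ne_zero, h1⟩
  have hτy0 : Q (τ y) = 0 := by rw [mem_orth.1 hτor, hy]
  have hτyu : polar Q (τ y) u = 0 := by
    conv_lhs => rw [← hτu]
    rw [orth_polar hτor, hyu]
  have hτR : RootIn Q M (τ y) u := fun t => by
    have := (hRu t).conj hτM hτor
    rwa [map_smul, hτu] at this
  have hsu : polar Q (τ y) (s • u) = 0 := by rw [polar_smul_right', hτyu, mul_zero]
  have hgM : siegel Q (τ y) (s • u) hτy0 hsu ∈ M := hτR s hτy0 hsu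
  set g := siegel Q (τ y) (s • u) hτy0 hsu
  have hgo := siegel_mem_orth Q (τ y) (s • u) hτy0 hsu
  have hyτ : polar Q y (τ y) = β := by
    rw [hτy, polar_add_right, ← h.polar_pr' (h.pr_mem l y), ← h.polar_pr' hvo, hsupp o hol hoj, polar_zero_left,
      add_zero, hβ]
    exact polar_self' Q yl
  have hgy : g y = y + (β * s) • u - (s * s * Q u * β) • τ y := by
    rw [siegel_apply, hyτ, polar_smul_right', hyu, CfsgLib.Geometry.map_smul']; module
  have hgu : g u = u - (2 * s * Q u) • τ y := by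
    rw [siegel_apply, QuadraticMap.polar_comm Q u (τ y), hτyu, polar_smul_right', polar_self']; module
  have hR' : RootIn Q M (g y) (g u) := fun t => by
    have := (hRu t).conj hgM hgo
    rwa [map_smul] at this
  have hcl : prPart h l (g y) = (1 - s * s * Q u * β) • yl + (β * s) • u := by
    rw [hgy, hτy, map_sub, map_add, map_smul, map_smul, map_add, h.pr_of_mem hu, h.pr_of_mem (h.pr_mem l y),
      h.pr_other hol hvo]
    module
  have hcu : prPart h l (g u) = u - (2 * s * Q u) • yl := by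
    rw [hgu, hτy, map_sub, map_smul, map_add, h.pr_of_mem hu, h.pr_of_mem (h.pr_mem l y), h.pr_other hol hvo]
    module
  have hcj : prPart h j (g y) = yj := by
    rw [hgy, hτy, map_sub, map_add, map_smul, map_smul, map_add, h.pr_other hjl.symm hu,
      h.pr_other hjl.symm (h.pr_mem l y), h.pr_other hoj hvo]
    module
  have hco : prPart h o (g y) = (-(s * s * Q u * β)) • v := by
    rw [hgy, hτy, map_sub, map_add, map_smul, map_smul, map_add, h.pr_other hol.symm hu,
      h.pr_other hol.symm (h.pr_mem l y), h.pr_of_mem hvo, hsupp o hol hoj]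
    module
  have hyl0 : yl ≠ 0 := fun e => hQl (by rw [e, QuadraticMap.map_zero])
  have hβ0 : β ≠ 0 := hβ ▸ mul_ne_zero h2 hQl
  have hlu : polar Q yl u = 0 := by rw [h.polar_pr' hu]; exact hyu
  have hind : prPart h l (g u) ∉ Submodule.span F {prPart h l (g y)} := by
    intro hm
    obtain ⟨a, ha⟩ := Submodule.mem_span_singleton.1 hm
    rw [hcl, hcu] at ha
    have e1 := congrArg (polar Q yl) ha
    have e2 := congrArg (fun x => polar Q x u) ha
    simp only [smul_add, smul_smul, polar_add_right, polar_sub_right, polar_smul_right', polar_add_left,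
      polar_sub_left, polar_smul_left', polar_self', hlu] at e1 e2
    have p1 : a * (1 - s * s * Q u * β) = -(2 * s * Q u) :=
      mul_right_cancel₀ (mul_ne_zero h2 hQl) (by linear_combination e1)
    have p2 : a * (β * s) = 1 := mul_right_cancel₀ (mul_ne_zero h2 hQu) (by linear_combination e2)
    exact hs (by linear_combination (-(1 - s * s * Q u * β)) * p2 + (β * s) * p1)
  have hQgy : Q (g y) = 0 := by rw [mem_orth.1 hgo, hy]
  have hQo' : Q (prPart h o (g y)) ≠ 0 := by
    rw [hco, CfsgLib.Geometry.map_smul', mem_orth.1 hτor]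
    exact mul_ne_zero (mul_self_ne_zero.2 (neg_ne_zero.2 (mul_ne_zero (mul_ne_zero (mul_ne_zero hs0 hs0) hQu) hβ0))) hQj
  refine rich (g y) (g u) (fun e => hy0 (g.map_eq_zero_iff.1 e)) hQgy (by rw [orth_polar hgo, hyu]) hR' l
    (fun hm => hQo' (by rw [h.pr_other hol.symm hm, QuadraticMap.map_zero])) hind ?_
  intro j' hj'l hQj' hsupp' _ u' hu' hyu' hRu' hQu'
  exfalso
  by_cases hjo : j' = o
  · have := hsupp' j hjl (fun e => hoj (hjo.symm.trans e.symm))
    exact hQj (by rw [← hcj, this, QuadraticMap.map_zero])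
  · exact hQo' (by rw [hsupp' o hol (Ne.symm hjo), QuadraticMap.map_zero])

include h hle hst hn hiso hd h2 hw in
theorem three_proportional (hκ : 3 ≤ Fintype.card κ) {y z : V} (hy0 : y ≠ 0) (hy : Q y = 0)
    (hyz : polar Q y z = 0) (hR : RootIn Q M y z) (hprop : ∀ l, prPart h l z ∈ Submodule.span F {prPart h l y})
    (hmv : ∃ i, ∃ v ∈ D i, siegel Q y z hy hyz v ∉ D i) : siegelGroup Q ≤ M := by
  obtain ⟨w, hw0, hw1⟩ := id hw
  choose c hc using fun l => Submodule.mem_span_singleton.1 (hprop l)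
  obtain ⟨i, v, hv, hxv⟩ := hmv
  rw [siegel_part_diff h hy hyz hv (hc i).symm] at hxv
  have hvy : polar Q v y ≠ 0 := fun e => hxv (by rw [e, zero_smul, add_zero]; exact hv)
  have hyi : prPart h i y ≠ 0 := fun e => hvy (by rw [← h.polar_pr hv, e, polar_zero_right])
  have hout : z - (c i + Q z) • y ∉ D i := fun hm => hxv ((D i).add_mem hv ((D i).smul_mem _ hm))
  obtain ⟨z', hz'⟩ : ∃ z', z' = z - c i • y := ⟨_, rfl⟩
  have hpol : polar Q y z' = 0 := by rw [hz', polar_sub_right, polar_smul_right', hyz, polar_self', hy]; ring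
  have hQz' : Q z' = Q z := by
    rw [hz', CfsgLib.Geometry.map_sub', CfsgLib.Geometry.map_smul', hy, polar_smul_right', QuadraticMap.polar_comm Q z y, hyz]; ring
  have hzi : prPart h i z' = 0 := by rw [hz', map_sub, map_smul, ← hc i, sub_self]
  have hR' : RootIn Q M y z' := by
    intro t
    rw [hz', smul_sub, sub_eq_add_neg, smul_smul, ← neg_smul]
    refine (hR t).add (fun he hw' => ?_) hy (by rw [polar_smul_right', hyz, mul_zero])
      (by rw [polar_smul_right', polar_self', hy]; ring)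
    rw [siegel_eq_one (-(t * c i)) he hw' rfl]; exact one_mem M
  by_cases hQ0 : Q z' = 0
  · have hz0 : z' ≠ 0 := fun e => hout (by
      rw [← hQz', hQ0, add_zero, ← hz', e]; exact Submodule.zero_mem _)
    exact top_of_zero h hle hst hn hiso hd hz0 hQ0 (by rw [QuadraticMap.polar_comm]; exact hpol)
      (hR'.swap hy hQ0 hpol) hzi hyi
  -- a local element moving the component
  obtain ⟨a, ha, hQa, hya⟩ : ∃ a ∈ D i, Q a = 0 ∧ polar Q y a ≠ 0 := by
    obtain ⟨a₀, ha₀, ha₀0, hQa₀⟩ := exists_singular_in (Q := Q) (D i) (hd i)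
    by_cases h0 : polar Q y a₀ = 0
    swap
    · exact ⟨a₀, ha₀, hQa₀, h0⟩
    obtain ⟨f, hf, hQf, haf⟩ := h.exists_partner_in ha₀ ha₀0 hQa₀
    obtain ⟨p, hp, hpy⟩ := h.exists_polar_in hyi 1
    obtain ⟨q, hq, hqy, hqa⟩ : ∃ q ∈ D i, polar Q y q ≠ 0 ∧ polar Q q a₀ ≠ 0 := by
      by_cases h1 : polar Q p a₀ = 0
      · by_cases h3 : polar Q y f = 0
        · refine ⟨p + f, (D i).add_mem hp hf, ?_, ?_⟩
          · rw [polar_add_right, h3, add_zero, QuadraticMap.polar_comm, hpy]; exact one_ne_zero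
          · rw [polar_add_left, h1, zero_add, QuadraticMap.polar_comm, haf]; exact one_ne_zero
        · exact ⟨f, hf, h3, by rw [QuadraticMap.polar_comm, haf]; exact one_ne_zero⟩
      · exact ⟨p, hp, by rw [QuadraticMap.polar_comm, hpy]; exact one_ne_zero, h1⟩
    refine ⟨q + (-(Q q) * (polar Q q a₀)⁻¹) • a₀, (D i).add_mem hq ((D i).smul_mem _ ha₀), ?_, ?_⟩
    · rw [CfsgLib.Geometry.map_add', CfsgLib.Geometry.map_smul', hQa₀, polar_smul_right']; field_simp; ring
    · rw [polar_add_right, polar_smul_right', h0, mul_zero, add_zero]; exact hqy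
  have ha0 : a ≠ 0 := fun e => hya (by rw [e, polar_zero_right])
  obtain ⟨b, b', hb, hb', hab, hab', hbb⟩ := exists_perp_pair_in h (hd i) ha ha0 hQa
  obtain ⟨d, hdD, had, hdi⟩ : ∃ d ∈ D i, polar Q a d = 0 ∧ d ∉ Submodule.span F ({a, prPart h i y} : Set V) := by
    by_contra hcon
    push Not at hcon
    have hspan : ∀ x ∈ D i, polar Q a x = 0 → x ∈ Submodule.span F {a} := by
      intro x hx hax
      obtain ⟨s, t, hst'⟩ := Submodule.mem_span_pair.1 (hcon x hx hax)
      have h1 := congrArg (polar Q a) hst'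
      rw [polar_add_right, polar_smul_right', polar_smul_right', polar_self', hQa, hax,
        h.polar_pr ha, QuadraticMap.polar_comm Q a y] at h1
      have ht : t = 0 := (mul_eq_zero.1 (show t * polar Q y a = 0 by linear_combination h1)).resolve_right hya
      exact Submodule.mem_span_singleton.2 ⟨s, by rw [← hst', ht, zero_smul, add_zero]⟩
    obtain ⟨s, hs⟩ := Submodule.mem_span_singleton.1 (hspan b hb hab)
    rw [← hs, polar_smul_left', hab', mul_zero] at hbb
    exact zero_ne_one hbb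
  have hm := local_siegel_mem h hst ha hdD hQa had
  have hho := siegelGroup_le_orth (hle hm)
  set η := siegel Q a d hQa had
  have hηz : η z' = z' := by
    rw [siegel_apply, ← h.polar_pr' ha, ← h.polar_pr' hdD, hzi, polar_zero_left, polar_zero_left]; module
  set y' := η y
  set δ := polar Q y a • d - (polar Q y d + Q d * polar Q y a) • a
  have hy' : y' = y + δ := by rw [← sub_eq_iff_eq_add']; exact siegel_diff hQa had y
  have hδ : δ ∈ D i := (D i).sub_mem ((D i).smul_mem _ hdD) ((D i).smul_mem _ ha)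
  have hQy' : Q y' = 0 := by rw [mem_orth.1 hho, hy]
  have hy'z : polar Q y' z' = 0 := by
    conv_lhs => rw [← hηz]
    rw [orth_polar hho, hpol]
  have hRy' : RootIn Q M y' z' := fun t => by
    have := (hR' t).conj hm hho
    rwa [map_smul, hηz] at this
  -- choose the scalar
  obtain ⟨j, hji, hyj⟩ : ∃ j, j ≠ i ∧ prPart h j y ≠ 0 := other_component h fun hmem => hout (h.mem_iff.2 fun j hj => by
    rw [map_sub, map_smul, ← hc j, h.mem_iff.1 hmem j hj, smul_zero, smul_zero, sub_zero])
  obtain ⟨ε, hε⟩ : ∃ ε, ε = polar Q y y' := ⟨_, rfl⟩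
  obtain ⟨t, ht0, ht⟩ : ∃ t : F, t ≠ 0 ∧ 1 + ε * t * (c j - c i) - t * t * Q z' * ε ≠ 0 := by
    by_cases h1 : 1 + ε * 1 * (c j - c i) - (1 : F) * 1 * Q z' * ε = 0
    · by_cases h3 : 1 + ε * (-1) * (c j - c i) - (-1 : F) * (-1) * Q z' * ε = 0
      · refine ⟨w, hw0, fun h4 => hw1 ?_⟩
        have e2 : Q z' * ε = 1 := mul_left_cancel₀ h2 (by linear_combination -(h1 + h3))
        have e3 : ε * (c j - c i) = 0 := mul_left_cancel₀ h2 (by linear_combination h1 - h3)
        linear_combination (-1 : F) * h4 + w * e3 - (w * w) * e2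
      · exact ⟨-1, neg_ne_zero.2 one_ne_zero, h3⟩
    · exact ⟨1, one_ne_zero, h1⟩
  have hty : polar Q y' (t • z') = 0 := by rw [polar_smul_right', hy'z, mul_zero]
  have hgM : siegel Q y' (t • z') hQy' hty ∈ M := hRy' t hQy' hty
  set g := siegel Q y' (t • z') hQy' hty
  have hgo := siegel_mem_orth Q y' (t • z') hQy' hty
  have hgy : g y = y + (ε * t) • z' - (t * t * Q z' * ε) • y' := by
    rw [siegel_apply, ← hε, polar_smul_right', hpol, CfsgLib.Geometry.map_smul']; module
  have hgz : g z' = z' - (2 * t * Q z') • y' := by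
    rw [siegel_apply, QuadraticMap.polar_comm Q z' y', hy'z, polar_smul_right', polar_self']; module
  have hR'' : RootIn Q M (g y) (g z') := fun t' => by
    have := (hR' t').conj hgM hgo
    rwa [map_smul] at this
  set yi := prPart h i y
  have hy'i : prPart h i y' = yi + δ := by rw [hy', map_add, h.pr_of_mem hδ]
  have hind : prPart h i (g z') ∉ Submodule.span F {prPart h i (g y)} := by
    intro hmem
    obtain ⟨s, hs⟩ := Submodule.mem_span_singleton.1 hmem
    rw [hgy, hgz, map_sub, map_sub, map_add, map_smul, map_smul, map_smul, hzi, hy'i, smul_zero, add_zero] at hs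
    by_cases hs0 : s * (1 - t * t * Q z' * ε) + 2 * t * Q z' = 0
    · have h3 : (s * (t * t * Q z' * ε) - 2 * t * Q z') • δ = 0 := by
        have h4 : (s * (1 - t * t * Q z' * ε) + 2 * t * Q z') • yi = 0 := by rw [hs0, zero_smul]
        linear_combination (norm := module) h4 - hs
      rcases smul_eq_zero.1 h3 with h5 | h5
      · have hs' : s = 0 := by linear_combination hs0 + h5
        rw [hs'] at hs0
        exact mul_ne_zero (mul_ne_zero h2 ht0) hQ0 (by linear_combination hs0)
      · refine hdi (Submodule.mem_span_pair.2 ⟨(polar Q y a)⁻¹ * (polar Q y d + Q d * polar Q y a), 0, ?_⟩)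
        have : polar Q y a • d = (polar Q y d + Q d * polar Q y a) • a := sub_eq_zero.1 h5
        rw [mul_smul, ← this, smul_smul, inv_mul_cancel₀ hya, one_smul, zero_smul, add_zero]
    · set A := s * (1 - t * t * Q z' * ε) + 2 * t * Q z'
      set B := s * (t * t * Q z' * ε) - 2 * t * Q z'
      have h3 : A • yi = B • δ := by linear_combination (norm := module) hs
      by_cases hB : B = 0
      · rw [hB, zero_smul] at h3
        exact hyi ((smul_eq_zero.1 h3).resolve_left hs0)
      refine hdi (Submodule.mem_span_pair.2 ⟨(polar Q y a)⁻¹ * (polar Q y d + Q d * polar Q y a),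
        (polar Q y a)⁻¹ * (B⁻¹ * A), ?_⟩)
      have h4 : (B⁻¹ * A) • yi = δ := by rw [mul_smul, h3, smul_smul, inv_mul_cancel₀ hB, one_smul]
      rw [mul_smul, mul_smul, h4]
      simp only [δ]
      rw [smul_sub, smul_smul, smul_smul, inv_mul_cancel₀ hya, one_smul]
      module
  refine three_independent h hle hst hn hiso hd h2 hw hκ (fun e => hy0 (g.map_eq_zero_iff.1 e))
    (by rw [mem_orth.1 hgo, hy]) (by rw [orth_polar hgo, hpol]) hR'' (fun hmem => ht ?_) hind
  have hj := h.mem_iff.1 hmem j hji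
  rw [hgy, map_sub, map_add, map_smul, map_smul, hy', map_add, h.pr_other hji.symm hδ, add_zero, hz', map_sub,
    map_smul, ← hc j] at hj
  refine (smul_eq_zero.1 ?_).resolve_right hyj
  rw [hz'] at *
  linear_combination (norm := module) hj

include h hle hst hn hiso hd h2 hw in
/-- Stabilisers of orthogonal decompositions into parts of dimension three. -/
theorem decomp_three_stab_max (hκ : 3 ≤ Fintype.card κ) (hne : ∃ g ∈ M, ¬ KeepsParts D g) : siegelGroup Q ≤ M := by
  obtain ⟨y, z, hy, hyz, hR, hy0, i, v, hv, hxv⟩ := exists_moved_root h hle hst hd hne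
  by_cases hyD : ∃ l, y ∈ D l
  · obtain ⟨l, hl⟩ := hyD
    refine top_of_part h hle hst hn hiso hd hl hy0 hy hyz hR (other_component h fun hz => hxv ?_)
    rw [siegel_apply]
    by_cases hil : i = l
    · subst hil
      exact (D i).sub_mem ((D i).sub_mem ((D i).add_mem hv ((D i).smul_mem _ hz)) ((D i).smul_mem _ hl))
        ((D i).smul_mem _ hl)
    · rw [h.orth i l hil v hv y hl, h.orth i l hil v hv z hz]
      simpa using hv
  push Not at hyD
  by_cases hind : ∀ l, prPart h l z ∈ Submodule.span F {prPart h l y}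
  · exact three_proportional h hle hst hn hiso hd h2 hw hκ hy0 hy hyz hR hind ⟨i, v, hv, hxv⟩
  push Not at hind
  obtain ⟨l, hl⟩ := hind
  exact three_independent h hle hst hn hiso hd h2 hw hκ hy0 hy hyz hR (hyD l) hl

end CfsgLib.OrthMax
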