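import Cfsg.Agent.Lib.ThreeTransp.SL2
import Cfsg.Agent.Lib.PSL2.DicksonGen

/-! A generation lemma for `SL₂` in characteristic two. -/

set_option autoImplicit false
set_option linter.unusedSectionVars false
set_option linter.style.haveILetI false

namespace CfsgLib.OrthMax

open Matrix CfsgLib.ThreeTransp CfsgLib.PSL2 CfsgLib.PSL2.Gen

variable {F : Type*} [Field F] [Fintype F]

local notation "SL2" => Matrix.SpecialLinearGroup (Fin 2) F

/-- Two independent transvections over a maximal subfield and an opposite one generate. -/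
theorem sl2_top_char_two [CharP F 2] {F₀ : Subfield F}
    (hmax : ∀ S : Subfield F, F₀ ≤ S → ∀ x ∈ S, x ∉ F₀ → S = ⊤) {G : Subgroup SL2} {δ s : F}
    (hδ : δ ≠ 0) (hs : s ∉ F₀) (hU : ∀ c ∈ F₀, sl2U F c ∈ G) (hUs : sl2U F s ∈ G)
    (hL : ∀ c ∈ F₀, sl2L F (c * δ) ∈ G) : G = ⊤ := by
  classical
  haveI : Fact (Nat.Prime 2) := ⟨Nat.prime_two⟩
  have h2 : (2 : F) = 0 := CharP.cast_eq_zero F 2
  set π : SL2 →* Matrix.ProjectiveSpecialLinearGroup (Fin 2) F :=
    QuotientGroup.mk' (Subgroup.center SL2) with hπ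
  have hπi : Function.Injective π := by
    refine (injective_iff_map_eq_one π).2 fun x hx => Subtype.ext ?_
    rcases psl_mk_eq_one_iff.1 hx with h | h
    · exact h
    · rw [h]
      ext i j
      fin_cases i <;> fin_cases j <;> simp [CharTwo.neg_eq]
  set H := G.map π with hH
  let eH : G ≃* H := G.equivMapOfInjective π hπi
  have hcard : Nat.card H = Nat.card G := (Nat.card_congr eH.toEquiv).symm
  have hs0 : s ≠ 0 := fun h => hs (h ▸ F₀.zero_mem)
  have hs1 : s ≠ 1 := fun h => hs (h ▸ F₀.one_mem)
  -- four commuting transvections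
  have h4 : 4 ∣ Nat.card G := by
    let A : AddSubgroup F :=
      { carrier := {r | sl2U F r ∈ G}
        zero_mem' := hU 0 F₀.zero_mem
        add_mem' := fun {a b} ha hb => by
          show sl2U F (a + b) ∈ G
          rw [← sl2U_mul]; exact mul_mem ha hb
        neg_mem' := fun {a} ha => by simpa [CharTwo.neg_eq] using ha }
    let φ : Multiplicative A →* G :=
      { toFun := fun r => ⟨sl2U F (Multiplicative.toAdd r).1, (Multiplicative.toAdd r).2⟩
        map_one' := Subtype.ext (sl2U_zero F)
        map_mul' := fun r r' => Subtype.ext (sl2U_mul F _ _).symm }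
    have hφ : Function.Injective φ := fun r r' h => by
      have := congrArg (fun m : G => (m.1 : Matrix (Fin 2) (Fin 2) F) 0 1) h
      exact Multiplicative.toAdd.injective (Subtype.ext (by simpa [φ, sl2U_val] using this))
    have hA : Nat.card A ∣ Nat.card G := by
      have := Subgroup.card_dvd_of_injective φ hφ
      rwa [show Nat.card (Multiplicative A) = Nat.card A from Nat.card_congr Multiplicative.toAdd] at this
    obtain ⟨n, -, hn⟩ := FiniteField.card F 2
    have hAF : Nat.card A ∣ 2 ^ (n : ℕ) := by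
      rw [← hn, ← Nat.card_eq_fintype_card]; exact A.card_addSubgroup_dvd_card
    obtain ⟨m, -, hm⟩ := (Nat.dvd_prime_pow Nat.prime_two).1 hAF
    have h3 : 3 ≤ Nat.card A := by
      let f : Fin 3 → A := ![⟨0, A.zero_mem⟩, ⟨1, hU 1 F₀.one_mem⟩, ⟨s, hUs⟩]
      have hf : Function.Injective f := by
        intro i j h
        fin_cases i <;> fin_cases j <;>
          simp_all [f, hs0.symm, hs1.symm, Subtype.ext_iff]
      simpa using Nat.card_le_card_of_injective f hf
    refine dvd_trans ?_ hA
    rw [hm] at h3 ⊢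
    rw [show 4 = 2 ^ 2 by norm_num]
    refine pow_dvd_pow 2 ?_
    by_contra hlt
    interval_cases m <;> simp at h3
  have hdvd : 2 ∣ Nat.card H := hcard ▸ dvd_trans (by norm_num) h4
  have htr : ∀ c : F, sl2U F c ∈ G →
      ∃ g ∈ G, (g : Matrix (Fin 2) (Fin 2) F).trace = c * δ := by
    intro c hc
    refine ⟨sl2U F c * sl2L F δ, mul_mem hc (by simpa using hL 1 F₀.one_mem), ?_⟩
    simp [Matrix.SpecialLinearGroup.coe_mul, Matrix.trace_fin_two, Matrix.mul_apply, Fin.sum_univ_two,
      sl2U_val, sl2L_val]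
    linear_combination h2
  haveI : Finite (Matrix.ProjectiveSpecialLinearGroup (Fin 2) F) := Quotient.finite _
  cases dickson_psl (p := 2) H with
  | cyclic _ hp => exact absurd hdvd hp
  | dihedral r _ k _ _ hp hc _ =>
    rw [← hcard, hc, show 4 = 2 * 2 by norm_num] at h4
    exact absurd (Nat.dvd_of_mul_dvd_mul_left (by norm_num) h4) hp
  | tetra hp _ => exact absurd hdvd hp
  | octa hp _ => exact absurd hdvd hp
  | icosa hp _ =>
    rcases hp with hp | hp
    · exact absurd hdvd hp
    · exact absurd hp (by norm_num)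
  | borel P _ hle =>
    exfalso
    have hPmem : ∀ x ∈ Subgroup.normalizer ((P : Subgroup (Matrix.ProjectiveSpecialLinearGroup (Fin 2) F)) :
        Set (Matrix.ProjectiveSpecialLinearGroup (Fin 2) F)), x ^ 2 = 1 →
        x ∈ (P : Subgroup (Matrix.ProjectiveSpecialLinearGroup (Fin 2) F)) := by
      intro x hxN hxp
      have hz : IsPGroup 2 (Subgroup.zpowers x) := by
        rintro ⟨y, n, rfl⟩
        refine ⟨1, Subtype.ext ?_⟩
        simp only [pow_one, SubmonoidClass.coe_pow, OneMemClass.coe_one]
        rw [← zpow_natCast, zpow_comm, zpow_natCast, hxp, _root_.one_zpow]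
      exact (le_sup_left.trans_eq (P.3 (hz.to_sup_of_normal_right' P.2 (Subgroup.zpowers_le.2 hxN)) le_sup_right))
        (Subgroup.mem_zpowers x)
    have hsqU : ∀ c : F, sl2U F c * sl2U F c = 1 := fun c => by
      rw [sl2U_mul, CharTwo.add_self_eq_zero, sl2U_zero]
    have hsqL : ∀ c : F, sl2L F c * sl2L F c = 1 := fun c => by
      rw [sl2L_mul, CharTwo.add_self_eq_zero]
      exact Subtype.ext (by simp [sl2L_val, Matrix.one_fin_two])
    have hin : ∀ g ∈ G, g * g = 1 → π g ∈ (P : Subgroup (Matrix.ProjectiveSpecialLinearGroup (Fin 2) F)) :=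
      fun g hg hsq => hPmem _ (hle ⟨g, hg, rfl⟩) (by rw [pow_two, ← map_mul, hsq, map_one])
    obtain ⟨m, hm⟩ := P.2 ⟨π (sl2U F 1 * sl2L F δ), by
      rw [map_mul]
      exact mul_mem (hin _ (hU 1 F₀.one_mem) (hsqU 1)) (hin _ (by simpa using hL 1 F₀.one_mem) (hsqL δ))⟩
    have hm' : π ((sl2U F 1 * sl2L F δ) ^ 2 ^ m) = π 1 := by
      rw [map_pow, map_one]; exact congrArg Subtype.val hm
    have := trace_of_pow_char_pow (p := 2) (m := m) (Or.inl (congrArg Subtype.val (hπi hm')))
    simp [Matrix.SpecialLinearGroup.coe_mul, Matrix.trace_fin_two, Matrix.mul_apply, Fin.sum_univ_two,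
      sl2U_val, sl2L_val, h2] at this
    exact hδ (by linear_combination this - h2)
  | subfield K iso =>
    set r := Nat.card K with hr
    haveI : CharP K 2 := (RingHom.charP_iff_charP K.subtype 2).2 inferInstance
    haveI : Fintype K := Fintype.ofFinite K
    obtain ⟨m, -, hm⟩ := FiniteField.card K 2
    rw [← Nat.card_eq_fintype_card, ← hr] at hm
    obtain ⟨e⟩ : Nonempty (H ≃* Matrix.ProjGenLinGroup (Fin 2) K) := by
      rcases iso with h | ⟨hodd, -⟩
      · exact h
      · exact absurd hodd (by rw [hm, Nat.not_odd_iff_even, Nat.even_pow]; exact ⟨even_two, m.ne_zero⟩)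
    have hfix : ∀ g ∈ G, (g : Matrix (Fin 2) (Fin 2) F).trace ^ r = (g : Matrix (Fin 2) (Fin 2) F).trace := by
      intro g hg
      let x : H := ⟨π g, g, hg, rfl⟩
      have back : ∀ n : ℕ, e x ^ n = 1 → (g ^ n).1 = 1 := fun n hn => by
        rw [← map_pow] at hn
        have h1 : x ^ n = 1 := e.injective (hn.trans (map_one e).symm)
        have h1' : π g ^ n = 1 := congrArg Subtype.val h1
        rw [← map_pow] at h1'
        exact congrArg Subtype.val (hπi (h1'.trans (map_one π).symm))
      have hor : (g : Matrix (Fin 2) (Fin 2) F).trace ^ r = (g : Matrix (Fin 2) (Fin 2) F).trace ∨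
          (g : Matrix (Fin 2) (Fin 2) F).trace ^ r = -(g : Matrix (Fin 2) (Fin 2) F).trace := by
        refine fix_of_two hm ?_
        rcases pow_eq_one_of_pgl (p := 2) (e x) with h | h | h
        · exact Or.inl (back _ h)
        · exact Or.inr (Or.inr (Or.inl (back _ h)))
        · exact Or.inr (Or.inr (Or.inr (Or.inr (Or.inl (back _ h)))))
      rcases hor with h | h
      · exact h
      · rw [h, CharTwo.neg_eq]
    let S : Subfield F := RingHom.eqLocusField (iterateFrobenius F 2 m) (RingHom.id F)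
    have hS : ∀ x, x ∈ S ↔ x ^ r = x := fun x => by rw [hm]; rfl
    have hprod : ∀ c, sl2U F c ∈ G → c * δ ∈ S := fun c hc => by
      obtain ⟨g, hg, hgt⟩ := htr c hc
      exact (hS _).2 (hgt ▸ hfix g hg)
    have hδS : δ ∈ S := by simpa using hprod 1 (hU 1 F₀.one_mem)
    have hdiv : ∀ c, sl2U F c ∈ G → c ∈ S := fun c hc => by
      have := S.div_mem (hprod c hc) hδS
      rwa [mul_div_cancel_right₀ _ hδ] at this
    have hSt : S = ⊤ := hmax S (fun c hc => hdiv c (hU c hc)) s (hdiv s hUs) hs
    have hle : Fintype.card F ≤ r := by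
      by_contra hlt
      push Not at hlt
      have h1 : 1 < r := by rw [hm]; exact Nat.one_lt_pow m.ne_zero (by norm_num)
      refine FiniteField.X_pow_card_sub_X_ne_zero F h1
        (Polynomial.eq_zero_of_natDegree_lt_card_of_eval_eq_zero _ Function.injective_id
          (fun x => by simp [(hS x).1 (hSt ▸ Subfield.mem_top x)]) ?_)
      rw [FiniteField.X_pow_card_sub_X_natDegree_eq F h1]
      exact hlt
    have hKF : r = Nat.card F := by
      refine le_antisymm (Nat.card_le_card_of_injective _ K.subtype.injective) ?_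
      rwa [Nat.card_eq_fintype_card]
    refine Subgroup.eq_top_of_card_eq G ?_
    rw [← hcard, Nat.card_congr e.toEquiv, CfsgLib.Classical.card_PGL_eq_card_SL, CfsgLib.Classical.card_SL_two,
      CfsgLib.Classical.card_SL_two, ← hr, hKF]

end CfsgLib.OrthMax
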