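import Cfsg.Agent.Lib.OrthMax.SubfieldOdd
import Cfsg.Agent.Lib.OrthMax.SL2Even

/-! Overgroups of subfield groups in orthogonal groups of characteristic two. -/

set_option autoImplicit false
set_option linter.unusedSectionVars false
set_option linter.unusedSimpArgs false
set_option linter.style.haveILetI false

namespace CfsgLib.OrthMax

open QuadraticMap CfsgLib.Geometry CfsgLib.Maximal
open CfsgLib.ThreeTransp (sl2U sl2L sl2U_val sl2L_val)

variable {F : Type*} [Field F] [Fintype F] {ι : Type} [Fintype ι] [DecidableEq ι]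
variable {Q : QuadraticForm F (ι → F)} {F₀ : Subfield F} {M : Subgroup ((ι → F) ≃ₗ[F] (ι → F))} {r : ℕ}

/-- A finite subfield in characteristic two contains its square roots. -/
theorem mem_of_sq_mem [CharP F 2] (F₀ : Subfield F) {x : F} (hx : x * x ∈ F₀) : x ∈ F₀ := by
  haveI : Finite F₀ := inferInstance
  have hinj : Function.Injective fun y : F₀ => y * y := fun y z h => by
    have h' : ((y : F) - z) * ((y : F) - z) = 0 := by
      have e : (y : F) * y = (z : F) * z := congrArg Subtype.val h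
      linear_combination e - ((z : F) * (y - z)) * (CharTwo.two_eq_zero (R := F))
    exact Subtype.ext (sub_eq_zero.1 (mul_self_eq_zero.1 h'))
  obtain ⟨y, hy⟩ := Finite.surjective_of_injective hinj ⟨x * x, hx⟩
  have e : (y : F) * y = x * x := congrArg Subtype.val hy
  have h' : (x - y) * (x - y) = 0 := by
    linear_combination -e - ((y : F) * (x - y)) * (CharTwo.two_eq_zero (R := F))
  rw [sub_eq_zero.1 (mul_self_eq_zero.1 h')]
  exact y.2

/-- The matrices by which elements of `M` act on the plane of two given vectors. -/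
def planeGroup (M : Subgroup ((ι → F) ≃ₗ[F] (ι → F))) (a b : ι → F) :
    Subgroup (Matrix.SpecialLinearGroup (Fin 2) F) where
  carrier := {A | ∃ g ∈ M, g a = (A : Matrix (Fin 2) (Fin 2) F) 0 0 • a + (A : Matrix (Fin 2) (Fin 2) F) 1 0 • b ∧
    g b = (A : Matrix (Fin 2) (Fin 2) F) 0 1 • a + (A : Matrix (Fin 2) (Fin 2) F) 1 1 • b}
  one_mem' := ⟨1, one_mem M, by simp, by simp⟩
  mul_mem' := fun {A B} ⟨g, hg, hga, hgb⟩ ⟨k, hk, hka, hkb⟩ => ⟨g * k, mul_mem hg hk, by
      show g (k a) = _
      rw [hka, map_add, map_smul, map_smul, hga, hgb]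
      simp only [Matrix.SpecialLinearGroup.coe_mul, Matrix.mul_apply, Fin.sum_univ_two]
      module, by
      show g (k b) = _
      rw [hkb, map_add, map_smul, map_smul, hga, hgb]
      simp only [Matrix.SpecialLinearGroup.coe_mul, Matrix.mul_apply, Fin.sum_univ_two]
      module⟩
  inv_mem' := fun {A} ⟨g, hg, hga, hgb⟩ => by
    have hd := A.2
    rw [Matrix.det_fin_two] at hd
    refine ⟨g⁻¹, inv_mem hg, ?_, ?_⟩
    · show g.symm a = _
      rw [LinearEquiv.symm_apply_eq, map_add, map_smul, map_smul, hga, hgb, Matrix.SpecialLinearGroup.coe_inv,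
        Matrix.adjugate_fin_two]
      simp only [Matrix.of_apply, Matrix.cons_val', Matrix.cons_val_zero, Matrix.cons_val_one,
        Matrix.cons_val_fin_one]
      match_scalars
      · linear_combination -hd
      · ring
    · show g.symm b = _
      rw [LinearEquiv.symm_apply_eq, map_add, map_smul, map_smul, hga, hgb, Matrix.SpecialLinearGroup.coe_inv,
        Matrix.adjugate_fin_two]
      simp only [Matrix.of_apply, Matrix.cons_val', Matrix.cons_val_zero, Matrix.cons_val_one,
        Matrix.cons_val_fin_one]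
      match_scalars
      · linear_combination -hd
      · ring

/-- The duals of two vectors in a singular plane. -/
theorem exists_dual_pair {a b u w : ι → F} (hQa : Q a = 0) (hQb : Q b = 0) (hab : polar Q a b = 0)
    (hQu : Q u = 0) (hQw : Q w = 0) (huw : polar Q u w = 0) (hδ : rootDet Q a b u w ≠ 0) :
    ∃ a' b', Quad Q a b a' b' ∧
      (∀ v z, rootDet Q v z u w = rootDet Q a b u w * (polar Q v a' * polar Q z b' - polar Q v b' * polar Q z a')) ∧
      ∀ t : F, SiegIn Q M u (t • w) → SiegIn Q M a' ((t * rootDet Q a b u w) • b') := by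
  obtain ⟨δ, hδdef⟩ : ∃ δ, δ = rootDet Q a b u w := ⟨_, rfl⟩
  rw [← hδdef] at hδ ⊢
  obtain ⟨a', ha'⟩ : ∃ a', a' = δ⁻¹ • (polar Q b w • u - polar Q b u • w) := ⟨_, rfl⟩
  obtain ⟨b', hb'⟩ : ∃ b', b' = δ⁻¹ • (-(polar Q a w) • u + polar Q a u • w) := ⟨_, rfl⟩
  have hδ' : δ = polar Q a u * polar Q b w - polar Q a w * polar Q b u := hδdef
  have hq : Quad Q a b a' b' := by
    refine ⟨hQa, hQb, ?_, ?_, hab, ?_, ?_, ?_, ?_, ?_⟩ <;>
      simp only [ha', hb', CfsgLib.Geometry.map_smul', CfsgLib.Geometry.map_sub', CfsgLib.Geometry.map_add',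
        polar_smul_left', polar_smul_right', polar_add_left, polar_add_right, polar_sub_left, polar_sub_right,
        polar_self', hQu, hQw, huw, QuadraticMap.polar_comm Q w u]
    · ring
    · ring
    · linear_combination inv_mul_cancel₀ hδ - δ⁻¹ * hδ'
    · ring
    · ring
    · linear_combination inv_mul_cancel₀ hδ - δ⁻¹ * hδ'
    · ring
  refine ⟨a', b', hq, fun v z => ?_, fun t ht he hw' => ?_⟩
  · rw [ha', hb', rootDet]
    simp only [polar_smul_right', polar_add_right, polar_sub_right]
    field_simp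
    rw [hδ']
    ring
  · have e : siegel Q a' ((t * δ) • b') he hw' =
        siegel Q u (t • w) hQu (by rw [polar_smul_right', huw, mul_zero]) := by
      refine LinearEquiv.ext fun x => ?_
      rw [siegel_apply, siegel_apply, CfsgLib.Geometry.map_smul', hq.qb', CfsgLib.Geometry.map_smul', hQw,
        polar_smul_right', polar_smul_right', ha', hb']
      simp only [polar_smul_right', polar_add_right, polar_sub_right]
      match_scalars
      all_goals (try field_simp)
      all_goals (try rw [hδ'])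
      all_goals ring
    rw [e]; exact ht _ _

variable (h : RatQ Q F₀) (hst : ∀ u w, RatV F₀ u → RatV F₀ w → SiegIn Q M u w)
  (hmax : ∀ S : Subfield F, F₀ ≤ S → ∀ x ∈ S, x ∉ F₀ → S = ⊤) (hn : 8 ≤ Fintype.card ι)

include h hst hmax hn in
/-- An irrational root element on a rational line gives everything. -/
theorem top_of_big [CharP F 2] {a p : ι → F} (ha : RatV F₀ a) (hp : RatV F₀ p) (hQa : Q a = 0) (hQp : Q p = 0)
    (hap : polar Q a p = 0) (ha0 : a ≠ 0) (hpi : p ∉ Submodule.span F {a}) {x : F} (hx : x ∉ F₀)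
    (hxp : SiegIn Q M a (x • p)) : siegelGroup Q ≤ M := by
  refine h.top_of_root (by omega) hst ha hp hQa hQp hap hpi ha0 fun t he hw' => ?_
  obtain ⟨p₁, hp₁, hQp₁, hpp₁, hp₁a⟩ := h.exists_partner hp hQp ![a] (fun j => by simpa using ha)
    (fun j => by simp [QuadraticMap.polar_comm Q p a, hap]) (by simpa [Matrix.range_cons, Matrix.range_empty] using hpi)
  have hap₁ : polar Q a p₁ = 0 := by have := hp₁a 0; rw [QuadraticMap.polar_comm] at this; simpa using this
  obtain ⟨a₁, ha₁, hQa₁, haa₁, ha₁s⟩ := h.exists_partner ha hQa ![p, p₁]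
    (fun j => by fin_cases j <;> simp [hp, hp₁]) (fun j => by fin_cases j <;> simp [hap, hap₁]) (fun hm => by
      rw [show Set.range ![p, p₁] = ({p, p₁} : Set (ι → F)) from Matrix.range_cons_cons_empty p p₁ ![]] at hm
      obtain ⟨u, v, huv⟩ := Submodule.mem_span_pair.1 hm
      have e1 : polar Q (u • p + v • p₁) p = 0 := by rw [huv]; exact hap
      have e2 : polar Q (u • p + v • p₁) p₁ = 0 := by rw [huv]; exact hap₁
      simp only [polar_add_left, polar_smul_left', polar_self', hQp, hQp₁, QuadraticMap.polar_comm Q p₁ p, hpp₁] at e1 e2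
      have hv0 : v = 0 := by linear_combination e1
      have hu0 : u = 0 := by linear_combination e2
      exact ha0 (by rw [← huv, hv0, hu0]; simp))
  have hq : Quad Q a p a₁ p₁ := ⟨hQa, hQp, hQa₁, hQp₁, hap, haa₁, hap₁,
    (by have := ha₁s 0; rw [QuadraticMap.polar_comm] at this; simpa using this), hpp₁,
    (by simpa using ha₁s 1)⟩
  have hperp : polar Q a (x • p) = 0 := by rw [polar_smul_right', hap, mul_zero]
  have hUx : sl2U F x ∈ actGroup hq M := by
    refine ⟨siegel Q a ((-x) • p) hQa (by rw [polar_smul_right', hap, mul_zero]), ?_, fun y => (pairAct_U hq x y).symm⟩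
    have h5 : SiegIn Q M a ((-x) • p) := by rw [neg_smul]; exact hxp.neg hQa hperp
    exact h5 _ _
  have htop : actGroup hq M = ⊤ := sl2_top_char_two hmax one_ne_zero hx
    (fun c hc => ⟨_, hst a ((-c) • p) ha (hp.smul (F₀.neg_mem hc)) _ _, fun y => (pairAct_U hq c y).symm⟩) hUx
    (fun c hc => ⟨_, hst a₁ ((c * 1) • p₁) ha₁ (hp₁.smul (F₀.mul_mem hc F₀.one_mem)) _ _,
      fun y => (pairAct_L hq _ y).symm⟩)
  obtain ⟨g, hg, hgx⟩ : sl2U F (-t) ∈ actGroup hq M := htop ▸ Subgroup.mem_top _
  have e : g = siegel Q a (t • p) he hw' := LinearEquiv.ext fun y => by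
    rw [hgx, pairAct_U hq]; congr 1; simp
  rwa [← e]

include h hst hmax hn in
/-- An element multiplying a rational singular vector by an irrational scalar gives everything. -/
theorem top_of_scaled [CharP F 2] {a : ι → F} (ha : RatV F₀ a) (hQa : Q a = 0) (ha0 : a ≠ 0)
    {g : (ι → F) ≃ₗ[F] (ι → F)} (hg : g ∈ M) (hgo : g ∈ Geometry.orth Q) {lam : F} (hlam : lam ∉ F₀)
    (hga : g a = lam • a) : siegelGroup Q ≤ M := by
  obtain ⟨a₁, ha₁, hQa₁, haa₁, -⟩ := h.exists_partner (k := 0) ha hQa ![] (fun j => j.elim0) (fun j => j.elim0)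
    (by simpa [Matrix.range_empty] using ha0)
  obtain ⟨e, f, he, hf, hQe, hQf, hef, hperp⟩ := h.exists_pair ![a] (fun j => by fin_cases j; simp [ha]) (by omega)
  have hae := hperp 0
  simp only [Matrix.cons_val_zero] at hae
  obtain ⟨v, hv⟩ : ∃ v, v = lam • g (e + f) := ⟨_, rfl⟩
  have hef' : RatV F₀ (e + f) := fun i => F₀.add_mem (he i) (hf i)
  have hav : polar Q a v = 0 := by
    rw [hv, polar_smul_right']
    rw [← polar_smul_left', ← hga, orth_polar hgo, polar_add_right, hae.1, hae.2, add_zero]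
  have hQv : Q v ∉ F₀ := by
    rw [hv, CfsgLib.Geometry.map_smul', mem_orth.1 hgo, CfsgLib.Geometry.map_add', hQe, hQf, hef]
    intro hm
    exact hlam (mem_of_sq_mem F₀ (by simpa using hm))
  have hvM : SiegIn Q M a v := by
    have h1 := (hst a (e + f) ha hef').conj hg hgo
    rw [hga] at h1
    intro he' hw'
    have hw2 : polar Q (lam • a) (g (e + f)) = 0 := by
      rw [polar_smul_left', ← polar_smul_right', ← hv]; exact hav
    have := h1 (by rw [CfsgLib.Geometry.map_smul', hQa, mul_zero]) hw2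
    rw [siegel_smul_left a (g (e + f)) lam he' _ hw2 (by rw [← hv]; exact hw')] at this
    subst hv
    exact this
  -- a rational point detecting the irrationality
  obtain ⟨p, hp, hQp, hap, hvp⟩ : ∃ p, RatV F₀ p ∧ Q p = 0 ∧ polar Q a p = 0 ∧ polar Q v p ∉ F₀ := by
    by_contra hc
    push Not at hc
    have hall : ∀ z, RatV F₀ z → polar Q a z = 0 → polar Q v z ∈ F₀ := by
      intro z hz haz
      obtain ⟨e', f', he', hf', hQe', hQf', hef'', hperp'⟩ := h.exists_pair ![a, z]
        (fun j => by fin_cases j <;> simp [ha, hz]) (by omega)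
      have hae' := hperp' 0
      have hze' := hperp' 1
      simp only [Matrix.cons_val_zero, Matrix.cons_val_one, Matrix.head_cons] at hae' hze'
      have k1 := hc (z + e' + (-(Q z)) • f') (fun i => F₀.add_mem (F₀.add_mem (hz i) (he' i))
        (F₀.mul_mem (F₀.neg_mem (h.rat z hz)) (hf' i)))
        (by rw [CfsgLib.Geometry.map_add', CfsgLib.Geometry.map_add', CfsgLib.Geometry.map_smul', polar_smul_right',
          polar_add_left, hQe', hQf', hze'.1, hze'.2, hef'']; ring)
        (by rw [polar_add_right, polar_add_right, polar_smul_right', haz, hae'.1, hae'.2]; ring)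
      have k2 := hc e' he' hQe' hae'.1
      have k3 := hc f' hf' hQf' hae'.2
      rw [polar_add_right, polar_add_right, polar_smul_right'] at k1
      rw [show polar Q v z = (polar Q v z + polar Q v e' + -(Q z) * polar Q v f') - polar Q v e' + Q z * polar Q v f' by ring]
      exact F₀.add_mem (F₀.sub_mem k1 k2) (F₀.mul_mem (h.rat z hz) k3)
    obtain ⟨d, hd⟩ : ∃ d, d = v - polar Q v a₁ • a := ⟨_, rfl⟩
    have hdr : RatV F₀ d := h.mem_of_dual fun z hz => by
      have k := hall (z - polar Q a z • a₁) (hz.sub (ha₁.smul (h.polar_mem ha hz)))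
        (by rw [polar_sub_right, polar_smul_right', haa₁, mul_one, sub_self])
      rw [polar_sub_right, polar_smul_right'] at k
      rw [hd, polar_sub_left, polar_smul_left']
      rwa [mul_comm (polar Q v a₁)]
    refine hQv ?_
    have : Q v = Q d := by
      rw [hd, CfsgLib.Geometry.map_sub', CfsgLib.Geometry.map_smul', polar_smul_right', hQa,
        QuadraticMap.polar_comm Q v a, hav]
      ring
    rw [this]
    exact h.rat d hdr
  have hp0 : p ≠ 0 := fun e0 => hvp (by rw [e0, polar_zero_right]; exact F₀.zero_mem)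
  have hpi : p ∉ Submodule.span F {a} := fun hm => by
    obtain ⟨s, hs⟩ := Submodule.mem_span_singleton.1 hm
    exact hvp (by rw [← hs, polar_smul_right', QuadraticMap.polar_comm, hav, mul_zero]; exact F₀.zero_mem)
  have hpw : ∀ w, RatV F₀ w → polar Q p w = 0 → polar Q a w = 0 →
      SiegIn Q M a (polar Q v p • w - (polar Q v w + Q w * polar Q v p) • p) := by
    intro w hw hpw haw
    have hgM := hst p w hp hw hQp hpw
    have h1 := hvM.conj hgM (siegel_mem_orth Q p w hQp hpw)
    have e1 : siegel Q p w hQp hpw a = a := by rw [siegel_apply, hap, haw]; simp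
    have e2 : siegel Q p w hQp hpw v = v + (polar Q v p • w - (polar Q v w + Q w * polar Q v p) • p) := by
      rw [siegel_apply]; module
    rw [e1, e2] at h1
    have hd : polar Q a (polar Q v p • w - (polar Q v w + Q w * polar Q v p) • p) = 0 := by
      rw [polar_sub_right, polar_smul_right', polar_smul_right', haw, hap]; ring
    have h4 := h1.add (hvM.neg hQa hav) hQa (by rw [polar_add_right, hav, hd, add_zero])
      (by rw [polar_neg_right, hav, neg_zero])
    rwa [show v + (polar Q v p • w - (polar Q v w + Q w * polar Q v p) • p) + -v =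
      polar Q v p • w - (polar Q v w + Q w * polar Q v p) • p by abel] at h4
  obtain ⟨w₁, w₂, hw₁, hw₂, hQw₁, hQw₂, hw12, hperpw⟩ := h.exists_pair ![a, p]
    (fun j => by fin_cases j <;> simp [ha, hp]) (by omega)
  have haw := hperpw 0
  have hpw' := hperpw 1
  simp only [Matrix.cons_val_zero, Matrix.cons_val_one, Matrix.head_cons] at haw hpw'
  have haw3 : polar Q a (w₁ + w₂) = 0 := by rw [polar_add_right, haw.1, haw.2, add_zero]
  have k1 := hpw w₁ hw₁ hpw'.1 haw.1
  have k2 := hpw w₂ hw₂ hpw'.2 haw.2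
  have k3 := hpw (w₁ + w₂) (fun i => F₀.add_mem (hw₁ i) (hw₂ i))
    (by rw [polar_add_right, hpw'.1, hpw'.2, add_zero]) haw3
  rw [CfsgLib.Geometry.map_add', hQw₁, hQw₂, hw12] at k3
  rw [hQw₁] at k1
  rw [hQw₂] at k2
  have hperp' : ∀ (x y : F) z, polar Q a z = 0 → polar Q a (x • z - y • p) = 0 := fun x y z hz => by
    rw [polar_sub_right, polar_smul_right', polar_smul_right', hz, hap]; ring
  have k4 := (k1.add k2 hQa (hperp' _ _ _ haw.1) (hperp' _ _ _ haw.2)).add (k3.neg hQa (hperp' _ _ _ haw3)) hQa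
    (by rw [polar_add_right, hperp' _ _ _ haw.1, hperp' _ _ _ haw.2, add_zero])
    (by rw [polar_neg_right, hperp' _ _ _ haw3, neg_zero])
  have hxp : SiegIn Q M a (polar Q v p • p) := by
    convert k4 using 1
    rw [polar_add_right]
    module
  exact top_of_big h hst hmax hn ha hp hQa hQp hap ha0 hpi hvp hxp

include h hst hmax hn in
/-- Two rational vectors with irrationally related pairings give everything. -/
theorem top_of_ratio [CharP F 2] (hle : M ≤ siegelGroup Q) {a b c u w : ι → F} (ha : RatV F₀ a) (hb : RatV F₀ b)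
    (hc : RatV F₀ c) (hQa : Q a = 0) (hQb : Q b = 0) (hab : polar Q a b = 0) (hac : polar Q a c = 0)
    (hQu : Q u = 0) (hQw : Q w = 0) (huw : polar Q u w = 0) (hy : ∀ t ∈ F₀, SiegIn Q M u (t • w))
    (hδ : rootDet Q a b u w ∉ F₀) (hs : rootDet Q a c u w / rootDet Q a b u w ∉ F₀) : siegelGroup Q ≤ M := by
  obtain ⟨δ, hδdef⟩ : ∃ δ, δ = rootDet Q a b u w := ⟨_, rfl⟩
  rw [← hδdef] at hδ hs
  have hδ0 : δ ≠ 0 := fun e => hδ (e ▸ F₀.zero_mem)
  obtain ⟨a', b', hq, hdet, hy'⟩ := exists_dual_pair (M := M) hQa hQb hab hQu hQw huw (hδdef ▸ hδ0)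
  rw [← hδdef] at hdet hy'
  have hsc : rootDet Q a c u w / δ = polar Q b' c := by
    rw [hdet, hq.aa', hq.ab', QuadraticMap.polar_comm Q b' c]; field_simp; ring
  rw [hsc] at hs
  have hUk : ∀ k ∈ F₀, sl2U F k ∈ planeGroup M a b' := fun k hk => by
    refine ⟨_, hst a ((-k) • b) ha (hb.smul (F₀.neg_mem hk)) hQa (by rw [polar_smul_right', hab, mul_zero]), ?_, ?_⟩
    · rw [siegel_apply, polar_smul_right', polar_self', hQa, hab, sl2U_val]; simp
    · rw [siegel_apply, CfsgLib.Geometry.map_smul', polar_smul_right', hQb, QuadraticMap.polar_comm Q b' a, hq.ab',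
        QuadraticMap.polar_comm Q b' b, hq.bb', sl2U_val]
      simp [add_comm]
  have hUs : sl2U F (polar Q b' c) ∈ planeGroup M a b' := by
    refine ⟨_, hst a (-c) ha (fun i => F₀.neg_mem (hc i)) hQa (by rw [polar_neg_right, hac, neg_zero]), ?_, ?_⟩
    · rw [siegel_apply, polar_neg_right, polar_self', hQa, hac, sl2U_val]; simp
    · rw [siegel_apply, polar_neg_right, QuadraticMap.polar_comm Q b' a, hq.ab', sl2U_val]
      simp [add_comm]
  have hL : ∀ k ∈ F₀, sl2L F (k * δ) ∈ planeGroup M a b' := fun k hk => by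
    refine ⟨_, hy' k (hy k hk) hq.qa' (by rw [polar_smul_right', hq.a'b', mul_zero]), ?_, ?_⟩
    · rw [siegel_apply, CfsgLib.Geometry.map_smul', polar_smul_right', hq.aa', hq.qb', hq.ab', sl2L_val]
      simp
    · rw [siegel_apply, polar_smul_right', polar_self', QuadraticMap.polar_comm Q b' a', hq.a'b', hq.qb', sl2L_val]
      simp
  have htop := sl2_top_char_two hmax hδ0 hs hUk hUs hL
  obtain ⟨A, hA⟩ : ∃ A : Matrix.SpecialLinearGroup (Fin 2) F, (A : Matrix (Fin 2) (Fin 2) F) = !![δ, 0; 0, δ⁻¹] :=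
    ⟨⟨!![δ, 0; 0, δ⁻¹], by simp [Matrix.det_fin_two, hδ0]⟩, rfl⟩
  obtain ⟨g, hg, hga, -⟩ : A ∈ planeGroup M a b' := htop ▸ Subgroup.mem_top _
  have ha0 : a ≠ 0 := fun e => by
    have := hq.aa'; rw [e, polar_zero_left] at this; exact zero_ne_one this
  exact top_of_scaled h hst hmax hn ha hQa ha0 hg (siegelGroup_le_orth (hle hg)) hδ (by rw [hga, hA]; simp)

include h hst hmax hn in
/-- An irrational pairing gives everything in characteristic two. -/
theorem top_of_det_two [CharP F 2] (hle : M ≤ siegelGroup Q) {a b u w : ι → F} (ha : RatV F₀ a) (hb : RatV F₀ b)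
    (hQa : Q a = 0) (hQb : Q b = 0) (hab : polar Q a b = 0) (hQu : Q u = 0) (hQw : Q w = 0) (huw : polar Q u w = 0)
    (hy : ∀ t ∈ F₀, SiegIn Q M u (t • w)) (hδm : rootDet Q a b u w ∉ F₀) : siegelGroup Q ≤ M := by
  obtain ⟨δ, hδdef⟩ : ∃ δ, δ = rootDet Q a b u w := ⟨_, rfl⟩
  rw [← hδdef] at hδm
  have hδ0 : δ ≠ 0 := fun e => hδm (e ▸ F₀.zero_mem)
  obtain ⟨a', b', hq, hdet, hy'⟩ := exists_dual_pair (M := M) hQa hQb hab hQu hQw huw (hδdef ▸ hδ0)
  rw [← hδdef] at hdet hy'
  by_cases hA : ∃ c, RatV F₀ c ∧ polar Q a c = 0 ∧ polar Q b' c ∉ F₀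
  · obtain ⟨c, hc, hac, hs⟩ := hA
    refine top_of_ratio h hst hmax hn hle ha hb hc hQa hQb hab hac hQu hQw huw hy (hδdef ▸ hδm) ?_
    rwa [← hδdef, hdet, hq.aa', hq.ab', QuadraticMap.polar_comm Q c b', one_mul, zero_mul, sub_zero,
      mul_div_cancel_left₀ _ hδ0]
  by_cases hB : ∃ c, RatV F₀ c ∧ polar Q b c = 0 ∧ polar Q a' c ∉ F₀
  · obtain ⟨c, hc, hbc, hs⟩ := hB
    have hba : rootDet Q b a u w = -δ := by rw [hdet, hq.ba', hq.bb', hq.aa', hq.ab']; ring
    refine top_of_ratio h hst hmax hn hle hb ha hc hQb hQa (by rw [QuadraticMap.polar_comm]; exact hab) hbc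
      hQu hQw huw hy (by rw [hba]; exact fun e => hδm (by simpa using F₀.neg_mem e)) ?_
    rw [hba, hdet, hq.ba', hq.bb', QuadraticMap.polar_comm Q c a']
    rwa [show δ * (0 * polar Q c b' - 1 * polar Q a' c) / -δ = polar Q a' c by field_simp; ring]
  push Not at hA hB
  have ha0 : a ≠ 0 := fun e => by
    have := hq.aa'; rw [e, polar_zero_left] at this; exact zero_ne_one this
  have haib : a ∉ Submodule.span F (Set.range ![b]) := fun hm => by
    obtain ⟨s, hs⟩ : ∃ s, s • b = a := by
      simpa [Matrix.range_cons, Matrix.range_empty, Submodule.mem_span_singleton] using hm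
    have := hq.aa'
    rw [← hs, polar_smul_left', hq.ba', mul_zero] at this
    exact zero_ne_one this
  obtain ⟨a₁, ha₁, hQa₁, haa₁, ha₁b⟩ := h.exists_partner ha hQa ![b] (fun j => by simpa using hb)
    (fun j => by simp [hab]) haib
  have hba₁ : polar Q b a₁ = 0 := by have := ha₁b 0; rw [QuadraticMap.polar_comm] at this; simpa using this
  by_cases hμ : polar Q b' a₁ ∈ F₀
  · -- both duals are rational
    have hbr : RatV F₀ b' := h.mem_of_dual fun z hz => by
      have k := hA (z - polar Q a z • a₁) (hz.sub (ha₁.smul (h.polar_mem ha hz)))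
        (by rw [polar_sub_right, polar_smul_right', haa₁, mul_one, sub_self])
      rw [polar_sub_right, polar_smul_right'] at k
      rw [show polar Q b' z = (polar Q b' z - polar Q a z * polar Q b' a₁) + polar Q a z * polar Q b' a₁ by ring]
      exact F₀.add_mem k (F₀.mul_mem (h.polar_mem ha hz) hμ)
    have har : RatV F₀ a' := h.mem_of_dual fun z hz => by
      have k := hB (z - polar Q b z • b') (hz.sub (hbr.smul (h.polar_mem hb hz)))
        (by rw [polar_sub_right, polar_smul_right', hq.bb', mul_one, sub_self])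
      rwa [polar_sub_right, polar_smul_right', hq.a'b', mul_zero, sub_zero] at k
    have ha'0 : a' ≠ 0 := fun e => by
      have := hq.aa'; rw [e, polar_zero_right] at this; exact zero_ne_one this
    refine top_of_big h hst hmax hn har hbr hq.qa' hq.qb' hq.a'b' ha'0 (fun hm => ?_) hδm ?_
    · obtain ⟨s, hs⟩ := Submodule.mem_span_singleton.1 hm
      have := hq.bb'
      rw [← hs, polar_smul_right', hq.ba', mul_zero] at this
      exact zero_ne_one this
    · have := hy' 1 (hy 1 F₀.one_mem)
      rwa [one_mul] at this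
  obtain ⟨e, f, he, hf, hQe, hQf, hef, hne, hae, haf, hbe, hbf, ha₁e, ha₁f⟩ : ∃ e f, RatV F₀ e ∧ RatV F₀ f ∧
      Q e = 0 ∧ Q f = 0 ∧ polar Q e f = 1 ∧ 1 + polar Q e a' ≠ 0 ∧ polar Q a e = 0 ∧ polar Q a f = 0 ∧
      polar Q b e = 0 ∧ polar Q b f = 0 ∧ polar Q a₁ e = 0 ∧ polar Q a₁ f = 0 := by
    have hb0 : b ≠ 0 := fun e0 => by
      have := hq.bb'; rw [e0, polar_zero_left] at this; exact zero_ne_one this
    obtain ⟨b₁, hb₁, hQb₁, hbb₁, hb₁s⟩ := h.exists_partner hb hQb ![a, a₁]
      (fun j => by fin_cases j <;> simp [ha, ha₁])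
      (fun j => by fin_cases j <;> simp [QuadraticMap.polar_comm Q b a, hab, hba₁]) (fun hm => hb0 (by
        obtain ⟨c, hc⟩ := (Submodule.mem_span_range_iff_exists_fun F).1 hm
        simp only [Fin.sum_univ_two, Matrix.cons_val_zero, Matrix.cons_val_one] at hc
        have e1 := congrArg (fun z => polar Q z a₁) hc
        have e2 := congrArg (fun z => polar Q z a) hc
        simp only [polar_add_left, polar_smul_left', polar_self', hQa, hQa₁, haa₁, hab, hba₁,
          QuadraticMap.polar_comm Q b a, QuadraticMap.polar_comm Q a₁ a] at e1 e2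
        simp only [mul_zero, mul_one, add_zero, zero_add] at e1 e2
        rw [← hc, e1, e2]; simp))
    have hb₁a : polar Q b₁ a = 0 := by simpa using hb₁s 0
    have hb₁a₁ : polar Q b₁ a₁ = 0 := by simpa using hb₁s 1
    obtain ⟨e, f, he, hf, hQe, hQf, hef, hperp⟩ := h.exists_pair_nd ![a, b, a₁, b₁]
      (fun j => by fin_cases j <;> simp [ha, hb, ha₁, hb₁]) (by omega) (fun c hc => by
        have k0 := hc 0
        have k1 := hc 1
        have k2 := hc 2
        have k3 := hc 3
        simp [Fin.sum_univ_four, polar_add_left, polar_smul_left', polar_self', hQa, hQb, hQa₁, hQb₁, haa₁,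
          hbb₁, hab, hba₁, hb₁a, hb₁a₁,
          QuadraticMap.polar_comm Q b a, QuadraticMap.polar_comm Q a₁ a, QuadraticMap.polar_comm Q a₁ b,
          QuadraticMap.polar_comm Q b₁ b, QuadraticMap.polar_comm Q a b₁,
          QuadraticMap.polar_comm Q a₁ b₁] at k0 k1 k2 k3
        funext j; fin_cases j <;> (try simp only [Pi.zero_apply]) <;> first | exact k0 | exact k1 | exact k2 | exact k3)
    have h0 := hperp 0
    have h1 := hperp 1
    have h2 := hperp 2
    have h3 := hperp 3
    simp only [Matrix.cons_val] at h0 h1 h2 h3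
    by_cases hk : 1 + polar Q e a' = 0
    swap
    · exact ⟨e, f, he, hf, hQe, hQf, hef, hk, h0.1, h0.2, h1.1, h1.2, h2.1, h2.2⟩
    by_cases hk' : 1 + polar Q f a' = 0
    swap
    · exact ⟨f, e, hf, he, hQf, hQe, by rw [QuadraticMap.polar_comm]; exact hef, hk', h0.2, h0.1, h1.2, h1.1, h2.2, h2.1⟩
    have hfa' : polar Q f a' = 1 := by
      have := eq_neg_of_add_eq_zero_right hk'
      rwa [CharTwo.neg_eq] at this
    have hea' : polar Q e a' = 1 := by
      have := eq_neg_of_add_eq_zero_right hk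
      rwa [CharTwo.neg_eq] at this
    -- a rational vector of the remaining plane killed by the functional
    obtain ⟨z₁, hz₁, hz₁0, hz₁s⟩ := h.exists_perp_vec ![a, b, a₁, b₁, e, f]
      (fun j => by fin_cases j <;> simp [ha, hb, ha₁, hb₁, he, hf]) (by omega)
    obtain ⟨r, hr, hrz⟩ : ∃ r, RatV F₀ r ∧ polar Q z₁ r ≠ 0 := by
      by_contra hcon
      push Not at hcon
      have hz' : (fun i => (⟨z₁ i, hz₁ i⟩ : F₀)) = 0 := h.res_nd.1 _ fun y => Subtype.ext (hcon (fun i => (y i : F)) fun i => (y i).2)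
      exact hz₁0 (funext fun i => congrArg Subtype.val (congrFun hz' i))
    obtain ⟨z₂, hz₂, hz₂0, hz₂s⟩ := h.exists_perp_vec ![a, b, a₁, b₁, e, f, r]
      (fun j => by fin_cases j <;> simp [ha, hb, ha₁, hb₁, he, hf, hr]) (by omega)
    obtain ⟨z, hz, hzr0, hzs, hza'⟩ : ∃ z, RatV F₀ z ∧ z ≠ 0 ∧
        (∀ j, polar Q (![a, b, a₁, b₁, e, f] j) z = 0) ∧ polar Q z a' = 0 := by
      have hz₂s' : ∀ j, polar Q (![a, b, a₁, b₁, e, f] j) z₂ = 0 := fun j => by
        fin_cases j
        exacts [hz₂s 0, hz₂s 1, hz₂s 2, hz₂s 3, hz₂s 4, hz₂s 5]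
      by_cases h1z : polar Q z₁ a' = 0
      · exact ⟨z₁, hz₁, hz₁0, hz₁s, h1z⟩
      have hk1 : polar Q z₁ a' ∈ F₀ := by rw [QuadraticMap.polar_comm]; exact hB z₁ hz₁ (by simpa using hz₁s 1)
      have hk2 : polar Q z₂ a' ∈ F₀ := by rw [QuadraticMap.polar_comm]; exact hB z₂ hz₂ (by simpa using hz₂s 1)
      refine ⟨polar Q z₂ a' • z₁ - polar Q z₁ a' • z₂, (hz₁.smul hk2).sub (hz₂.smul hk1), fun e0 => ?_, fun j => ?_, ?_⟩
      · have e1 := congrArg (fun y => polar Q y r) e0
        have hr2 : polar Q z₂ r = 0 := by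
          rw [QuadraticMap.polar_comm]; simpa using hz₂s 6
        simp only [polar_sub_left, polar_smul_left', hr2, mul_zero, sub_zero, polar_zero_left] at e1
        rw [(mul_eq_zero.1 e1).resolve_right hrz, zero_smul, zero_sub, neg_eq_zero, smul_eq_zero] at e0
        exact h1z (e0.resolve_right hz₂0)
      · rw [polar_sub_right, polar_smul_right', polar_smul_right', hz₁s j, hz₂s' j]; ring
      · rw [polar_sub_left, polar_smul_left', polar_smul_left']; ring
    have z0 := hzs 0
    have z1 := hzs 1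
    have z2 := hzs 2
    have z3 := hzs 3
    have z4 := hzs 4
    have z5 := hzs 5
    simp only [Matrix.cons_val] at z0 z1 z2 z3 z4 z5
    by_cases hQz : Q z = 0
    · obtain ⟨z', hz', hQz', hzz', hz's⟩ := h.exists_partner hz hQz ![a, b, a₁, b₁]
        (fun j => by fin_cases j <;> simp [ha, hb, ha₁, hb₁])
        (fun j => by fin_cases j <;> simp [QuadraticMap.polar_comm Q z a, QuadraticMap.polar_comm Q z b,
          QuadraticMap.polar_comm Q z a₁, QuadraticMap.polar_comm Q z b₁, z0, z1, z2, z3]) (fun hm => hzr0 (by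
          obtain ⟨c, hc⟩ := (Submodule.mem_span_range_iff_exists_fun F).1 hm
          simp only [Fin.sum_univ_four, Matrix.cons_val] at hc
          have e1 := congrArg (fun y => polar Q y a) hc
          have e2 := congrArg (fun y => polar Q y b) hc
          have e3 := congrArg (fun y => polar Q y a₁) hc
          have e4 := congrArg (fun y => polar Q y b₁) hc
          simp only [polar_add_left, polar_smul_left', polar_self', hQa, hQb, hQa₁, hQb₁, haa₁, hbb₁, hab, hba₁,
            hb₁a, hb₁a₁, QuadraticMap.polar_comm Q b a, QuadraticMap.polar_comm Q a₁ a, QuadraticMap.polar_comm Q a₁ b,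
            QuadraticMap.polar_comm Q b₁ b, QuadraticMap.polar_comm Q a b₁, QuadraticMap.polar_comm Q a₁ b₁,
            QuadraticMap.polar_comm Q z a, QuadraticMap.polar_comm Q z b, QuadraticMap.polar_comm Q z a₁,
            QuadraticMap.polar_comm Q z b₁, z0, z1, z2, z3, mul_zero, mul_one, add_zero, zero_add] at e1 e2 e3 e4
          rw [← hc, e1, e2, e3, e4]; simp))
      refine ⟨z, z', hz, hz', hQz, hQz', hzz', by rw [hza', add_zero]; exact one_ne_zero, z0, ?_, z1, ?_, z2, ?_⟩
      · rw [QuadraticMap.polar_comm]; simpa using hz's 0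
      · rw [QuadraticMap.polar_comm]; simpa using hz's 1
      · rw [QuadraticMap.polar_comm]; simpa using hz's 2
    refine ⟨e + z + Q z • f, f, fun i => F₀.add_mem (F₀.add_mem (he i) (hz i)) (F₀.mul_mem (h.rat z hz) (hf i)), hf,
      ?_, hQf, ?_, ?_, ?_, h0.2, ?_, h1.2, ?_, h2.2⟩
    · rw [CfsgLib.Geometry.map_add', CfsgLib.Geometry.map_add', CfsgLib.Geometry.map_smul', polar_smul_right',
        polar_add_left, hQe, hQf, z4, hef, QuadraticMap.polar_comm Q z f, z5]
      simp [CharTwo.add_self_eq_zero]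
    · rw [polar_add_left, polar_add_left, polar_smul_left', hef, polar_self', hQf, QuadraticMap.polar_comm Q z f, z5]
      ring
    · rw [polar_add_left, polar_add_left, polar_smul_left', hea', hfa', hza', add_zero, mul_one, ← add_assoc,
        CharTwo.add_self_eq_zero, zero_add]
      exact hQz
    · rw [polar_add_right, polar_add_right, polar_smul_right', h0.1, h0.2, z0]; ring
    · rw [polar_add_right, polar_add_right, polar_smul_right', h1.1, h1.2, z1]; ring
    · rw [polar_add_right, polar_add_right, polar_smul_right', h2.1, h2.2, z2]; ring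
  have hk1 : polar Q e a' ∈ F₀ := by rw [QuadraticMap.polar_comm]; exact hB e he hbe
  have hk2 : polar Q e b' ∈ F₀ := by rw [QuadraticMap.polar_comm]; exact hA e he hae
  obtain ⟨c, hc⟩ : ∃ c, c = a₁ - f := ⟨_, rfl⟩
  have hcr : RatV F₀ c := hc ▸ ha₁.sub hf
  have hk3 : polar Q c a' ∈ F₀ := by
    rw [QuadraticMap.polar_comm]; exact hB c hcr (by rw [hc, polar_sub_right, hba₁, hbf, sub_zero])
  obtain ⟨x, hx⟩ : ∃ x, x = a + e := ⟨_, rfl⟩
  have hxb : rootDet Q x b u w = δ * (1 + polar Q e a') := by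
    rw [hdet, hx, polar_add_left, polar_add_left, hq.aa', hq.ab', hq.ba', hq.bb']; ring
  have hδ' : δ * (1 + polar Q e a') ∉ F₀ := fun hm => hδm (by
    have := F₀.div_mem hm (F₀.add_mem F₀.one_mem hk1)
    rwa [mul_div_cancel_right₀ _ hne] at this)
  refine top_of_ratio h hst hmax hn hle (a := x) (b := b) (c := c) (hx ▸ fun i => F₀.add_mem (ha i) (he i)) hb hcr
    (by rw [hx, CfsgLib.Geometry.map_add', hQa, hQe, hae]; ring) hQb
    (by rw [hx, polar_add_left, hab, QuadraticMap.polar_comm Q e b, hbe, add_zero])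
    (by rw [hx, hc, polar_add_left, polar_sub_right, polar_sub_right, haa₁, haf, hef,
      QuadraticMap.polar_comm Q e a₁, ha₁e]; ring)
    hQu hQw huw hy (by rw [hxb]; exact hδ') ?_
  rw [hxb, hdet, hx, polar_add_left, polar_add_left, hq.aa', hq.ab']
  intro hm
  refine hμ ?_
  have hk4 : polar Q f b' ∈ F₀ := by rw [QuadraticMap.polar_comm]; exact hA f hf haf
  have hcb : polar Q c b' = polar Q b' a₁ - polar Q f b' := by
    rw [hc, polar_sub_left, QuadraticMap.polar_comm Q a₁ b']
  rw [hcb] at hm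
  have := F₀.add_mem (F₀.add_mem hm (F₀.div_mem (F₀.mul_mem hk2 hk3) (F₀.add_mem F₀.one_mem hk1))) hk4
  convert this using 1
  field_simp
  ring

include h hn in
/-- A decomposable bivector with rational values on orthogonal singular pairs is rational. -/
theorem form_rational_two [CharP F 2] (u w : ι → F)
    (hβ : ∀ a b, RatV F₀ a → RatV F₀ b → Q a = 0 → Q b = 0 → polar Q a b = 0 → rootDet Q a b u w ∈ F₀) :
    ∀ x z, RatV F₀ x → RatV F₀ z → rootDet Q x z u w ∈ F₀ := by
  refine form_rational_of h (by omega : 7 ≤ Fintype.card ι) (fun x z => rootDet Q x z u w)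
    (fun x x' z => by simp only [rootDet, polar_add_left]; ring)
    (fun t x z => by simp only [rootDet, polar_smul_left']; ring)
    (fun x z => by simp only [rootDet]; ring) (fun x => by simp only [rootDet]; ring) (fun s1 => ?_) hβ
  have key : ∀ a f c d, RatV F₀ a → RatV F₀ f → RatV F₀ c → RatV F₀ d → Q a = 0 → Q f = 0 → Q c = 0 → Q d = 0 →
      polar Q a f = 1 → polar Q c d = 1 → polar Q a c = 0 → polar Q a d = 0 → polar Q f c = 0 → polar Q f d = 0 →
      rootDet Q a f u w - rootDet Q c d u w ∈ F₀ ∧ rootDet Q a f u w * rootDet Q c d u w ∈ F₀ := by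
    intro a f c d ha hf hc hd hQa hQf hQc hQd haf hcd hac had hfc hfd
    have k1 := hβ a c ha hc hQa hQc hac
    have k2 := hβ a d ha hd hQa hQd had
    have k3 := hβ c f hc hf hQc hQf (by rw [QuadraticMap.polar_comm]; exact hfc)
    have k4 := hβ f d hf hd hQf hQd hfd
    refine ⟨?_, ?_⟩
    · have k := s1 (a + c) (f - d) (fun i => F₀.add_mem (ha i) (hc i)) (hf.sub hd)
        (by rw [CfsgLib.Geometry.map_add', hQa, hQc, hac]; ring)
        (by rw [polar_add_left, polar_sub_right, polar_sub_right, haf, had, QuadraticMap.polar_comm Q c f, hfc, hcd]; ring)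
      have := F₀.sub_mem (F₀.add_mem k k2) k3
      convert this using 1
      simp only [rootDet, polar_add_left, polar_sub_left]
      ring
    · have := F₀.add_mem (F₀.mul_mem k1 k4) (F₀.mul_mem k2 k3)
      convert this using 1
      simp only [rootDet]
      ring
  intro a f ha hf hQa hQf haf
  obtain ⟨c, d, hc, hd, hQc, hQd, hcd, hperp⟩ := h.exists_pair ![a, f] (fun j => by fin_cases j <;> simp [ha, hf])
    (by omega)
  have a0 := hperp 0
  have a1 := hperp 1
  obtain ⟨e, g, he, hg, hQe, hQg, heg, hperp₂⟩ := h.exists_pair_nd ![a, f, c, d]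
    (fun j => by fin_cases j <;> simp [ha, hf, hc, hd]) (by omega) (fun u hu => by
      simp only [Matrix.cons_val_zero, Matrix.cons_val_one] at a0 a1
      have k0 := hu 0
      have k1 := hu 1
      have k2 := hu 2
      have k3 := hu 3
      simp [Fin.sum_univ_four, polar_add_left, polar_smul_left', polar_self', hQa, hQf, hQc, hQd, haf, hcd, a0.1, a0.2,
        a1.1, a1.2, QuadraticMap.polar_comm Q f a, QuadraticMap.polar_comm Q c a, QuadraticMap.polar_comm Q d a,
        QuadraticMap.polar_comm Q c f, QuadraticMap.polar_comm Q d f, QuadraticMap.polar_comm Q d c] at k0 k1 k2 k3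
      funext j; fin_cases j <;> (try simp only [Pi.zero_apply]) <;> first | exact k0 | exact k1 | exact k2 | exact k3)
  have b0 := hperp₂ 0
  have b1 := hperp₂ 1
  have b2 := hperp₂ 2
  have b3 := hperp₂ 3
  simp only [Matrix.cons_val] at a0 a1 b0 b1 b2 b3
  obtain ⟨d1, p1⟩ := key a f c d ha hf hc hd hQa hQf hQc hQd haf hcd a0.1 a0.2 a1.1 a1.2
  obtain ⟨-, p2⟩ := key a f e g ha hf he hg hQa hQf hQe hQg haf heg b0.1 b0.2 b1.1 b1.2
  obtain ⟨d3, p3⟩ := key c d e g hc hd he hg hQc hQd hQe hQg hcd heg b2.1 b2.2 b3.1 b3.2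
  by_cases hne : rootDet Q c d u w = rootDet Q e g u w
  · rw [← hne] at p3
    have := F₀.add_mem d1 (mem_of_sq_mem F₀ p3)
    rwa [sub_add_cancel] at this
  · have := F₀.div_mem (F₀.sub_mem p1 p2) d3
    rwa [← mul_sub, mul_div_cancel_right₀ _ (sub_ne_zero.2 hne)] at this

include h hn in
/-- A proper overgroup of the rational root elements is rational up to scalars in characteristic two. -/
theorem rat_dichotomy_two [CharP F 2] (hst : ∀ u w, RatV F₀ u → RatV F₀ w → SiegIn Q M u w) (hr : r.Prime)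
    (hcard : Fintype.card F = Nat.card F₀ ^ r) (hle : M ≤ siegelGroup Q) :
    siegelGroup Q ≤ M ∨ ∀ g ∈ M, ∃ c : F, c ≠ 0 ∧ ∀ v, RatV F₀ v → RatV F₀ (c • g v) := by
  have hmax : ∀ S : Subfield F, F₀ ≤ S → ∀ x ∈ S, x ∉ F₀ → S = ⊤ := fun S hS x hx hxF => by
    let A : Subalgebra F₀ F := { S.toSubring.toSubsemiring with algebraMap_mem' := fun y => hS y.2 }
    have hA := (subfield_prime hr hcard).2 A x hx hxF
    exact eq_top_iff.2 fun y _ => show y ∈ A from hA ▸ Algebra.mem_top
  exact rat_dichotomy_of h (by omega : 7 ≤ Fintype.card ι) hst hle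
    (fun _ _ _ _ ha hb hQa hQb hab hQu hQw huw hy hδ =>
      top_of_det_two h hst hmax hn hle ha hb hQa hQb hab hQu hQw huw hy hδ)
    (fun u w hβ => form_rational_two h hn u w hβ)

end CfsgLib.OrthMax
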