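import Cfsg.Agent.Lib.OrthMax.Pair

/-! The stabiliser of a unitary structure is maximal in `Ω(Q)`. -/

set_option autoImplicit false
set_option linter.unusedSectionVars false
set_option linter.unusedVariables false
set_option linter.unusedSimpArgs false
set_option linter.style.haveILetI false

namespace CfsgLib.OrthMax

open QuadraticMap CfsgLib.Geometry

variable {F V : Type*} [Field F] [Finite F] [AddCommGroup V] [Module F V] [FiniteDimensional F V]
variable {Q : QuadraticForm F V} {M : Subgroup (V ≃ₗ[F] V)}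

/-- A singular vector orthogonal to `S` with prescribed product with `x`. -/
theorem exists_singular_polar (hQ : (polarBilin Q).Nondegenerate) (S : Submodule F V) {x : V} (hx : x ∉ S)
    (hd : 2 * (Module.finrank F S + 1) + 3 ≤ Module.finrank F V) (c : F) :
    ∃ u, Q u = 0 ∧ (∀ s ∈ S, polar Q u s = 0) ∧ polar Q u x = c ∧ u ∉ S := by
  have htop : (⊤ : Submodule F V) ⊓ polarPerp Q ⊤ = ⊥ := by
    rw [eq_bot_iff]
    rintro v ⟨-, hv⟩
    exact hQ.1 v fun y => by
      show polar Q v y = 0
      rw [QuadraticMap.polar_comm]; exact mem_polarPerp.1 hv y trivial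
  have hle : Module.finrank F ↥(S ⊔ Submodule.span F {x}) ≤ Module.finrank F S + 1 := by
    refine (Submodule.finrank_add_le_finrank_add_finrank _ _).trans ?_
    have : Module.finrank F (Submodule.span F {x}) ≤ 1 := (finrank_span_le_card _).trans (by simp)
    omega
  obtain ⟨e, f, -, -, he, hf, hef, hSe, hSf⟩ := exists_pair_perp hQ htop (S ⊔ Submodule.span F {x})
    (by rw [finrank_top]; omega)
  have hxT : x ∉ S ⊔ Submodule.span F ({e, f} : Set V) := by
    intro hm
    obtain ⟨s, hs, y, hy, hsy⟩ := Submodule.mem_sup.1 hm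
    obtain ⟨a, b, rfl⟩ := Submodule.mem_span_pair.1 hy
    have h1 := hSe x (Submodule.mem_sup_right (Submodule.mem_span_singleton_self x))
    have h2 := hSf x (Submodule.mem_sup_right (Submodule.mem_span_singleton_self x))
    rw [← hsy] at h1 h2
    simp only [polar_add_left, polar_smul_left', polar_self', he, hf, hef, QuadraticMap.polar_comm Q f e,
      hSe s (Submodule.mem_sup_left hs), hSf s (Submodule.mem_sup_left hs), mul_zero, mul_one, zero_add,
      add_zero] at h1 h2
    rw [h1, h2] at hsy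
    exact hx (by rw [← hsy]; simpa using hs)
  obtain ⟨w, hw, hwx⟩ := exists_polar hQ _ hxT c
  have hwe : polar Q w e = 0 := hw e (Submodule.mem_sup_right (Submodule.subset_span (by simp)))
  have hwf : polar Q w f = 0 := hw f (Submodule.mem_sup_right (Submodule.subset_span (by simp)))
  refine ⟨w + e + (-Q w) • f, ?_, fun s hs => ?_, ?_, fun hm => ?_⟩
  · simp only [CfsgLib.Geometry.map_add', CfsgLib.Geometry.map_smul', polar_add_left, polar_smul_right',
      he, hf, hef, hwe, hwf]
    ring
  · simp only [polar_add_left, polar_smul_left', hw s (Submodule.mem_sup_left hs),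
      QuadraticMap.polar_comm Q e s, QuadraticMap.polar_comm Q f s, hSe s (Submodule.mem_sup_left hs),
      hSf s (Submodule.mem_sup_left hs), mul_zero, add_zero]
  · simp only [polar_add_left, polar_smul_left', hwx, QuadraticMap.polar_comm Q e x, QuadraticMap.polar_comm Q f x,
      hSe x (Submodule.mem_sup_right (Submodule.mem_span_singleton_self x)),
      hSf x (Submodule.mem_sup_right (Submodule.mem_span_singleton_self x)), mul_zero, add_zero]
  · have h1 := hSf _ (Submodule.mem_sup_left hm)
    simp only [polar_add_left, polar_smul_left', hwf, hef, polar_self', hf, mul_zero, zero_add, add_zero] at h1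
    exact one_ne_zero h1

/-- A singular vector with prescribed non-zero product with a singular vector orthogonal to `S`. -/
theorem exists_singular_polar_of_sing (hQ : (polarBilin Q).Nondegenerate) (S : Submodule F V) {x : V} (hx : x ∉ S)
    (hQx : Q x = 0) (hxS : ∀ s ∈ S, polar Q x s = 0) {c : F} (hc : c ≠ 0) :
    ∃ u, Q u = 0 ∧ (∀ s ∈ S, polar Q u s = 0) ∧ polar Q u x = c ∧ u ∉ S := by
  obtain ⟨w, hw, hwx⟩ := exists_polar hQ S hx c
  have hp : polar Q (w + (-(Q w / c)) • x) x = c := by
    rw [polar_add_left, polar_smul_left', polar_self', hQx, hwx]; ring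
  refine ⟨w + (-(Q w / c)) • x, ?_, fun s hs => ?_, hp, fun hm => ?_⟩
  · simp only [CfsgLib.Geometry.map_add', CfsgLib.Geometry.map_smul', polar_smul_right', hQx, hwx]
    field_simp
    ring
  · rw [polar_add_left, polar_smul_left', hw s hs, hxS s hs, mul_zero, add_zero]
  · have := hxS _ hm
    rw [QuadraticMap.polar_comm, hp] at this
    exact hc this

/-- A non-degenerate subspace takes every value on the perpendicular of a small one. -/
theorem exists_value_perp_space (hQ : (polarBilin Q).Nondegenerate) {U : Submodule F V} (hU : U ⊓ polarPerp Q U = ⊥)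
    (S : Submodule F V) (h : 2 * Module.finrank F S + 2 ≤ Module.finrank F U) (c : F) :
    ∃ x ∈ U, Q x = c ∧ ∀ s ∈ S, polar Q s x = 0 := by
  set P := U ⊓ polarPerp Q S with hP
  set R := P ⊓ polarPerp Q P
  obtain ⟨C, hC⟩ := Submodule.exists_isCompl R
  set N := P ⊓ C
  have hsup : R ⊔ N = P := by
    refine le_antisymm (sup_le inf_le_left inf_le_left) fun p hp => ?_
    obtain ⟨r, hr, z, hz, hrz⟩ := Submodule.mem_sup.1 (hC.sup_eq_top ▸ trivial : p ∈ R ⊔ C)
    refine Submodule.mem_sup.2 ⟨r, hr, z, ⟨?_, hz⟩, hrz⟩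
    rw [show z = p - r by rw [← hrz]; abel]
    exact P.sub_mem hp hr.1
  have hN : N ⊓ polarPerp Q N = ⊥ := by
    rw [eq_bot_iff]
    rintro n ⟨hn, hn'⟩
    have hnR : n ∈ R := ⟨hn.1, mem_polarPerp.2 fun p hp => by
      rw [← hsup] at hp
      obtain ⟨r, hr, m, hm, rfl⟩ := Submodule.mem_sup.1 hp
      rw [polar_add_left, QuadraticMap.polar_comm Q r n, mem_polarPerp.1 hr.2 n hn.1, mem_polarPerp.1 hn' m hm, add_zero]⟩
    have : n ∈ R ⊓ C := ⟨hnR, hn.2⟩
    rwa [hC.inf_eq_bot] at this
  have hle : R ≤ polarPerp Q (polarPerp Q U ⊔ P) := by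
    rintro r ⟨hr, hr'⟩
    refine mem_polarPerp.2 fun x hx => ?_
    obtain ⟨a, ha, b, hb, rfl⟩ := Submodule.mem_sup.1 hx
    rw [polar_add_left, mem_polarPerp.1 hr' b hb, QuadraticMap.polar_comm, mem_polarPerp.1 ha r hr.1, add_zero]
  have hd : polarPerp Q U ⊓ P = ⊥ := by
    rw [eq_bot_iff]
    rintro x ⟨hx, hx'⟩
    exact hU.le ⟨hx'.1, hx⟩
  have h1 := Submodule.finrank_sup_add_finrank_inf_eq U (polarPerp Q S)
  rw [← hP] at h1
  have h2 := finrank_polarPerp hQ S
  have h3 := Submodule.finrank_le (U ⊔ polarPerp Q S)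
  have h5 := Submodule.finrank_mono hle
  have h6 := finrank_polarPerp hQ (polarPerp Q U ⊔ P)
  have h7 := Submodule.finrank_sup_add_finrank_inf_eq (polarPerp Q U) P
  have h8 := finrank_polarPerp hQ U
  rw [hd, finrank_bot] at h7
  have h9 := Submodule.finrank_sup_add_finrank_inf_eq R N
  rw [hsup] at h9
  have hdim : 2 ≤ Module.finrank F N := by omega
  have hp : ∀ x y : N, polar (Q.comp N.subtype) x y = polar Q (x : V) (y : V) := fun x y => by
    simp [QuadraticMap.polar]
  have hl : ∀ x : N, (∀ y : N, polar Q (x : V) (y : V) = 0) → x = 0 := fun x hx => by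
    have hm : (x : V) ∈ N ⊓ polarPerp Q N :=
      ⟨x.2, mem_polarPerp.2 fun y hy => by rw [QuadraticMap.polar_comm]; exact hx ⟨y, hy⟩⟩
    rw [hN, Submodule.mem_bot] at hm
    exact Subtype.ext hm
  have hQN : (polarBilin (Q.comp N.subtype)).Nondegenerate :=
    ⟨fun x hx => hl x fun y => (hp x y).symm.trans (hx y), fun y hy => hl y fun x =>
      by rw [QuadraticMap.polar_comm]; exact (hp x y).symm.trans (hy x)⟩
  obtain ⟨x, hx⟩ := exists_represents hQN hdim c
  exact ⟨x, x.2.1.1, hx, fun s hs => mem_polarPerp.1 x.2.1.2 s hs⟩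

/-- `M` contains the root group of `u` and `w`. -/
def RootIn (Q : QuadraticForm F V) (M : Subgroup (V ≃ₗ[F] V)) (u w : V) : Prop := ∀ t : F, SiegIn Q M u (t • w)

theorem RootIn.smul {u w : V} (h : RootIn Q M u w) (s : F) : RootIn Q M u (s • w) := fun t => by
  rw [smul_smul]; exact h _

theorem RootIn.one {u w : V} (h : RootIn Q M u w) : SiegIn Q M u w := by simpa using h 1

theorem RootIn.add {u w w' : V} (h : RootIn Q M u w) (h' : RootIn Q M u w') (hu : Q u = 0)
    (hw : polar Q u w = 0) (hw' : polar Q u w' = 0) : RootIn Q M u (w + w') := fun t => by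
  rw [smul_add]
  exact (h t).add (h' t) hu (by rw [polar_smul_right', hw, mul_zero]) (by rw [polar_smul_right', hw', mul_zero])

theorem RootIn.swap {u w : V} (h : RootIn Q M u w) (hu : Q u = 0) (hw : Q w = 0) (huw : polar Q u w = 0) :
    RootIn Q M w u := fun t he hew => by
  have htu : Q (t • u) = 0 := by rw [CfsgLib.Geometry.map_smul', hu, mul_zero]
  have htw : polar Q (t • u) w = 0 := by rw [polar_smul_left', huw, mul_zero]
  rw [siegel_swap htu hw htw hew (by rw [polar_neg_right, htw, neg_zero]),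
    siegel_smul_left u (-w) t hu htu (by rw [polar_neg_right, htw, neg_zero])
      (by rw [polar_smul_right', polar_neg_right, huw, neg_zero, mul_zero])]
  have := h (-t) hu (by rw [polar_smul_right', huw, mul_zero])
  simpa [smul_neg, neg_smul] using this

/-- Moving the second vector of a root group by an element fixing the first. -/
theorem RootIn.diff {u w d : V} (h : RootIn Q M u w) {g : V ≃ₗ[F] V} (hg : g ∈ M) (hgo : g ∈ orth Q)
    (hu : Q u = 0) (huw : polar Q u w = 0) (hgu : g u = u) (hgw : g w = w + d) : RootIn Q M u d := fun t => by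
  have h1 := (h t).conj hg hgo
  rw [hgu, map_smul, hgw] at h1
  have h2 : polar Q u d = 0 := by
    have := orth_polar hgo u w
    rwa [hgu, hgw, huw, polar_add_right, huw, zero_add] at this
  have h3 := h1.add ((h t).neg hu (by rw [polar_smul_right', huw, mul_zero])) hu
    (by rw [polar_smul_right', polar_add_right, huw, h2, add_zero, mul_zero])
    (by rw [polar_neg_right, polar_smul_right', huw, mul_zero, neg_zero])
  rwa [show t • (w + d) + -(t • w) = t • d by module] at h3

/-- An endomorphism generating a quadratic extension whose elements are similitudes. -/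
structure UnitaryStr (Q : QuadraticForm F V) (θ : V →ₗ[F] V) (τ ν : F) : Prop where
  sq : ∀ v, θ (θ v) = τ • θ v - ν • v
  aniso : ∀ a b : F, ∀ v, v ≠ 0 → a • v + b • θ v = 0 → a = 0 ∧ b = 0
  norm : ∀ v, Q (θ v) = ν * Q v
  trace : ∀ v, polar Q (θ v) v = τ * Q v

variable {θ : V →ₗ[F] V} {τ ν : F}

theorem UnitaryStr.adjoint (h : UnitaryStr Q θ τ ν) (u v : V) :
    polar Q (θ u) v = τ * polar Q u v - polar Q u (θ v) := by
  have h1 := h.trace (u + v)
  simp only [map_add, polar_add_left, polar_add_right, CfsgLib.Geometry.map_add', h.trace u, h.trace v] at h1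
  rw [QuadraticMap.polar_comm Q (θ v) u] at h1
  linear_combination h1

theorem UnitaryStr.polar_theta (h : UnitaryStr Q θ τ ν) (u v : V) :
    polar Q (θ u) (θ v) = ν * polar Q u v := by
  simp only [QuadraticMap.polar, ← map_add, h.norm]; ring

theorem UnitaryStr.self_perp (h : UnitaryStr Q θ τ ν) {u : V} (hu : Q u = 0) : polar Q u (θ u) = 0 := by
  rw [QuadraticMap.polar_comm, h.trace, hu, mul_zero]

theorem UnitaryStr.nu_ne_zero (h : UnitaryStr Q θ τ ν) [Nontrivial V] : ν ≠ 0 := fun h0 => by
  obtain ⟨v, hv⟩ := exists_ne (0 : V)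
  by_cases hθ : θ v = 0
  · exact one_ne_zero (h.aniso 0 1 v hv (by simp [hθ])).2
  · exact one_ne_zero (h.aniso (-τ) 1 (θ v) hθ (by rw [h.sq, h0]; module)).2

/-- The span of a vector and its image. -/
def cLine (θ : V →ₗ[F] V) (u : V) : Submodule F V := Submodule.span F ({u, θ u} : Set V)

theorem mem_cLine_left (u : V) : u ∈ cLine θ u := Submodule.subset_span (by simp)

theorem mem_cLine_right (u : V) : θ u ∈ cLine θ u := Submodule.subset_span (by simp)

theorem UnitaryStr.cLine_mapsTo (h : UnitaryStr Q θ τ ν) {u x : V} (hx : x ∈ cLine θ u) : θ x ∈ cLine θ u := by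
  obtain ⟨a, b, rfl⟩ := Submodule.mem_span_pair.1 hx
  exact Submodule.mem_span_pair.2 ⟨-(b * ν), a + b * τ, by rw [map_add, map_smul, map_smul, h.sq]; module⟩

theorem UnitaryStr.cLine_singular (h : UnitaryStr Q θ τ ν) {u x : V} (hu : Q u = 0) (hx : x ∈ cLine θ u) :
    Q x = 0 := by
  obtain ⟨a, b, rfl⟩ := Submodule.mem_span_pair.1 hx
  simp only [CfsgLib.Geometry.map_add', CfsgLib.Geometry.map_smul', polar_smul_left', polar_smul_right',
    h.norm, hu, h.self_perp hu]
  ring

theorem UnitaryStr.cLine_symm (h : UnitaryStr Q θ τ ν) {u x : V} (hx : x ∈ cLine θ u) (hx0 : x ≠ 0) :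
    u ∈ cLine θ x := by
  have hd : Module.finrank F (cLine θ u) ≤ 2 := finrank_pair_le (F := F) u (θ u)
  have hli : LinearIndependent F ![x, θ x] := LinearIndependent.pair_iff.2 fun a b hab => h.aniso a b x hx0 hab
  have he : cLine θ x = cLine θ u := by
    refine Submodule.eq_of_le_of_finrank_le (Submodule.span_le.2 ?_) ?_
    · rintro _ (rfl | rfl)
      exacts [hx, h.cLine_mapsTo hx]
    · have h1 := finrank_span_eq_card hli
      rw [Matrix.range_cons_cons_empty, Fintype.card_fin] at h1
      change Module.finrank F (cLine θ x) = 2 at h1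
      omega
  rw [he]; exact mem_cLine_left u

/-- The unitary transvection of a singular vector. -/
theorem UnitaryStr.tv_mem (h : UnitaryStr Q θ τ ν) (hst : ∀ g ∈ siegelGroup Q, (∀ v, g (θ v) = θ (g v)) → g ∈ M)
    {a : V} (ha : Q a = 0) (s : F) (hw : polar Q a (s • θ a) = 0) : siegel Q a (s • θ a) ha hw ∈ M := by
  refine hst _ (siegel_mem a _ ha hw) fun v => ?_
  have e1 : polar Q (θ v) a = τ * polar Q v a - polar Q v (θ a) := h.adjoint v a
  have e2 : polar Q (θ v) (θ a) = ν * polar Q v a := h.polar_theta v a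
  simp only [siegel_apply, map_add, map_sub, map_smul, CfsgLib.Geometry.map_smul', h.norm, ha,
    polar_smul_right', e1, e2, h.sq a]
  module

theorem UnitaryStr.tv_apply (h : UnitaryStr Q θ τ ν) {a : V} (ha : Q a = 0) (s : F)
    (hw : polar Q a (s • θ a) = 0) (v : V) :
    siegel Q a (s • θ a) ha hw v = v + s • (polar Q v a • θ a - polar Q v (θ a) • a) := by
  rw [siegel_apply, polar_smul_right', CfsgLib.Geometry.map_smul', h.norm, ha]
  module

/-- The operation on the root vectors of `u` induced by a transvection fixing `u`. -/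
theorem UnitaryStr.phi (h : UnitaryStr Q θ τ ν) (hle : M ≤ siegelGroup Q)
    (hst : ∀ g ∈ siegelGroup Q, (∀ v, g (θ v) = θ (g v)) → g ∈ M) {u a x : V} (hu : Q u = 0) (ha : Q a = 0)
    (hua : polar Q u a = 0) (hua' : polar Q u (θ a) = 0) (hux : polar Q u x = 0) (hR : RootIn Q M u x) :
    RootIn Q M u (polar Q x a • θ a - polar Q x (θ a) • a) := by
  have hw : polar Q a ((1 : F) • θ a) = 0 := by rw [polar_smul_right', h.self_perp ha, mul_zero]
  have hm := h.tv_mem hst ha 1 hw
  refine hR.diff hm (siegelGroup_le_orth (hle hm)) hu hux ?_ ?_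
  · rw [h.tv_apply, hua, hua']; module
  · rw [h.tv_apply, one_smul]

/-- The vectors orthogonal to the line of `u` all give root groups in `M`. -/
def Spread (Q : QuadraticForm F V) (θ : V →ₗ[F] V) (M : Subgroup (V ≃ₗ[F] V)) (u : V) : Prop :=
  ∀ x, polar Q u x = 0 → polar Q (θ u) x = 0 → RootIn Q M u x

variable (hQ : (polarBilin Q).Nondegenerate) (hd : 10 ≤ Module.finrank F V) (h : UnitaryStr Q θ τ ν)
  (hle : M ≤ siegelGroup Q) (hst : ∀ g ∈ siegelGroup Q, (∀ v, g (θ v) = θ (g v)) → g ∈ M)

include hQ hd h hle hst in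
theorem spread_of_root {u w : V} (hu0 : u ≠ 0) (hu : Q u = 0) (hw : Q w = 0) (huw : polar Q u w = 0)
    (huw' : polar Q (θ u) w = 0) (hwu : w ∉ cLine θ u) (hR : RootIn Q M u w) : Spread Q θ M u := by
  classical
  haveI : Nontrivial V := ⟨u, 0, hu0⟩
  have huθ : ∀ v, polar Q u (θ v) = τ * polar Q u v - polar Q (θ u) v := fun v => by
    linear_combination h.adjoint u v
  have hline : ∀ y ∈ cLine θ u, polar Q u y = 0 ∧ RootIn Q M u y := by
    intro y hy
    obtain ⟨α, β, rfl⟩ := Submodule.mem_span_pair.1 hy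
    have h1 : RootIn Q M u (α • u) := fun t he hw' => by
      rw [siegel_eq_one (t * α) he hw' (smul_smul t α u)]; exact one_mem M
    have h2 : RootIn Q M u (β • θ u) := fun t he hw' => by
      have := h.tv_mem hst hu (t * β) (by rw [polar_smul_right', h.self_perp hu, mul_zero])
      simp only [smul_smul]; exact this
    have p1 : polar Q u (α • u) = 0 := by rw [polar_smul_right', polar_self', hu, mul_zero, mul_zero]
    have p2 : polar Q u (β • θ u) = 0 := by rw [polar_smul_right', h.self_perp hu, mul_zero]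
    exact ⟨by rw [polar_add_right, p1, p2, add_zero], h1.add h2 hu p1 p2⟩
  -- a singular vector pairing with `w`
  set S := cLine θ u ⊔ Submodule.span F {θ w}
  have hS : Module.finrank F S ≤ 3 := by
    refine (Submodule.finrank_add_le_finrank_add_finrank _ _).trans ?_
    have h1 : Module.finrank F (cLine θ u) ≤ 2 := finrank_pair_le (F := F) u (θ u)
    have h2 : Module.finrank F (Submodule.span F {θ w}) ≤ 1 := (finrank_span_le_card _).trans (by simp)
    omega
  have hwS : w ∉ S := by
    intro hm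
    obtain ⟨l, hl, y, hy, he⟩ := Submodule.mem_sup.1 hm
    obtain ⟨s, rfl⟩ := Submodule.mem_span_singleton.1 hy
    have hz : (1 : F) • w + (-s) • θ w ∈ cLine θ u := by
      rw [show (1 : F) • w + (-s) • θ w = l by linear_combination (norm := module) -he]; exact hl
    by_cases hz0 : (1 : F) • w + (-s) • θ w = 0
    · refine one_ne_zero (h.aniso 1 (-s) w (fun e => hwu (by rw [e]; exact Submodule.zero_mem _)) hz0).1
    refine hwu ?_
    have hux : u ∈ cLine θ w := by
      have h1 : (1 : F) • w + (-s) • θ w ∈ cLine θ w := Submodule.mem_span_pair.2 ⟨1, -s, rfl⟩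
      have h2 := h.cLine_symm hz hz0
      obtain ⟨α, β, hu'⟩ := Submodule.mem_span_pair.1 h2
      rw [← hu']
      exact add_mem (Submodule.smul_mem _ _ h1) (Submodule.smul_mem _ _ (h.cLine_mapsTo h1))
    exact h.cLine_symm hux hu0
  obtain ⟨a, ha, haS, haw, -⟩ := exists_singular_polar_of_sing hQ S hwS hw (fun s hs => by
    obtain ⟨l, hl, y, hy, rfl⟩ := Submodule.mem_sup.1 hs
    obtain ⟨α, β, rfl⟩ := Submodule.mem_span_pair.1 hl
    obtain ⟨k, rfl⟩ := Submodule.mem_span_singleton.1 hy
    rw [polar_add_right, polar_add_right, polar_smul_right', polar_smul_right', polar_smul_right',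
      QuadraticMap.polar_comm Q w u, huw, QuadraticMap.polar_comm Q w (θ u), huw', h.self_perp hw]
    ring) (one_ne_zero (α := F))
  have hau : polar Q a u = 0 := haS u (Submodule.mem_sup_left (mem_cLine_left u))
  have hau' : polar Q a (θ u) = 0 := haS _ (Submodule.mem_sup_left (mem_cLine_right u))
  have haθw : polar Q a (θ w) = 0 := haS _ (Submodule.mem_sup_right (Submodule.mem_span_singleton_self _))
  have hua : polar Q u a = 0 := by rw [QuadraticMap.polar_comm]; exact hau
  have hθua : polar Q (θ u) a = 0 := by rw [QuadraticMap.polar_comm]; exact hau'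
  have hua' : polar Q u (θ a) = 0 := by rw [huθ, hua, hθua]; ring
  have hθaw : polar Q (θ a) w = τ := by rw [h.adjoint, haw, haθw]; ring
  have hwa : polar Q w a = 1 := by rw [QuadraticMap.polar_comm]; exact haw
  have hwθa : polar Q w (θ a) = τ := by rw [QuadraticMap.polar_comm]; exact hθaw
  have hp := h.phi hle hst hu ha hua hua' huw hR
  rw [hwa, hwθa] at hp
  -- a second vector
  set T := cLine θ w ⊔ cLine θ a
  have hT : T ⊓ polarPerp Q T = ⊥ := by
    rw [eq_bot_iff]
    rintro t ⟨ht, ht'⟩
    obtain ⟨t₁, ht₁, t₂, ht₂, rfl⟩ := Submodule.mem_sup.1 ht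
    obtain ⟨α, β, rfl⟩ := Submodule.mem_span_pair.1 ht₁
    obtain ⟨γ, δ, rfl⟩ := Submodule.mem_span_pair.1 ht₂
    have e1 := mem_polarPerp.1 ht' w (Submodule.mem_sup_left (mem_cLine_left w))
    have e2 := mem_polarPerp.1 ht' (θ w) (Submodule.mem_sup_left (mem_cLine_right w))
    have e3 := mem_polarPerp.1 ht' a (Submodule.mem_sup_right (mem_cLine_left a))
    have e4 := mem_polarPerp.1 ht' (θ a) (Submodule.mem_sup_right (mem_cLine_right a))
    simp only [polar_add_right, polar_smul_right', polar_self', h.norm, hw, ha, h.self_perp hw, h.self_perp ha,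
      h.trace, h.polar_theta, hwa, hwθa, haw, haθw, hθaw, QuadraticMap.polar_comm Q (θ w) a,
      mul_zero, mul_one, add_zero, zero_add] at e1 e2 e3 e4
    have hν := h.nu_ne_zero
    have hδ : δ = 0 := by
      have : δ * ν = 0 := by linear_combination e2
      exact (mul_eq_zero.1 this).resolve_right hν
    have hβ : β = 0 := by
      have : β * ν = 0 := by linear_combination e4 - τ * e3
      exact (mul_eq_zero.1 this).resolve_right hν
    subst hδ; subst hβ
    simp only [zero_mul, mul_zero, add_zero, zero_add] at e1 e3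
    subst e1; subst e3
    simp
  have hTd : Module.finrank F T ≤ 4 := by
    refine (Submodule.finrank_add_le_finrank_add_finrank _ _).trans ?_
    have h1 : Module.finrank F (cLine θ w) ≤ 2 := finrank_pair_le (F := F) w (θ w)
    have h2 : Module.finrank F (cLine θ a) ≤ 2 := finrank_pair_le (F := F) a (θ a)
    omega
  obtain ⟨x₀, hx₀T, hx₀, hx₀S⟩ := exists_value_perp_space hQ (inf_polarPerp_perp hQ hT) (cLine θ u) (by
    have h1 := finrank_polarPerp hQ T
    have h2 : Module.finrank F (cLine θ u) ≤ 2 := finrank_pair_le (F := F) u (θ u)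
    omega) (-1)
  set c := a + w + x₀
  have hperpT : ∀ x ∈ T, polar Q x x₀ = 0 := fun x hx => mem_polarPerp.1 hx₀T x hx
  have hperpu : ∀ x ∈ cLine θ u, polar Q x x₀ = 0 := hx₀S
  have hc : Q c = 0 := by
    simp only [c, CfsgLib.Geometry.map_add', polar_add_left, hx₀, hw, ha, haw,
      hperpT a (Submodule.mem_sup_right (mem_cLine_left a)),
      hperpT w (Submodule.mem_sup_left (mem_cLine_left w))]
    ring
  have huc : polar Q u c = 0 := by
    simp only [c, polar_add_right, hua, huw, hperpu u (mem_cLine_left u), add_zero]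
  have hθuc : polar Q (θ u) c = 0 := by
    simp only [c, polar_add_right, hθua, huw', hperpu _ (mem_cLine_right u), add_zero]
  have huc' : polar Q u (θ c) = 0 := by rw [huθ, huc, hθuc]; ring
  have hwc : polar Q w c = 1 := by
    simp only [c, polar_add_right, hwa, polar_self', hw, hperpT w (Submodule.mem_sup_left (mem_cLine_left w)),
      mul_zero, add_zero]
  have hwc' : polar Q w (θ c) = τ := by
    have h1 : polar Q (θ w) c = 0 := by
      simp only [c, polar_add_right, QuadraticMap.polar_comm Q (θ w) a, haθw, h.trace, hw,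
        hperpT _ (Submodule.mem_sup_left (mem_cLine_right w)), mul_zero, add_zero]
    linear_combination τ * hwc + h.adjoint w c - h1
  have hac : polar Q a c = 1 := by
    simp only [c, polar_add_right, haw, polar_self', ha, hperpT a (Submodule.mem_sup_right (mem_cLine_left a)),
      mul_zero, add_zero, zero_add]
  have hθac : polar Q (θ a) c = τ := by
    simp only [c, polar_add_right, hθaw, h.trace, ha,
      hperpT _ (Submodule.mem_sup_right (mem_cLine_right a)), mul_zero, add_zero, zero_add]
  have hrc1 := h.phi hle hst hu hc huc huc' huw hR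
  rw [hwc, hwc'] at hrc1
  have hupp : polar Q u ((1 : F) • θ a - τ • a) = 0 := by
    rw [polar_sub_right, polar_smul_right', polar_smul_right', hua, hua']; ring
  have hrc2 := h.phi hle hst hu hc huc huc' hupp hp
  rw [show polar Q ((1 : F) • θ a - τ • a) c = 0 by
      rw [polar_sub_left, polar_smul_left', polar_smul_left', hθac, hac]; ring,
    show polar Q ((1 : F) • θ a - τ • a) (θ c) = ν by
      have h1 : polar Q a (θ c) = 0 := by linear_combination h.adjoint a c + τ * hac - hθac
      rw [polar_sub_left, polar_smul_left', polar_smul_left', h.polar_theta, h1, hac]; ring] at hrc2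
  have hν := h.nu_ne_zero
  have hRc : RootIn Q M u c := by
    have := hrc2.smul (-ν⁻¹)
    rwa [zero_smul, zero_sub, smul_neg, neg_smul, neg_neg, smul_smul, inv_mul_cancel₀ hν, one_smul] at this
  have hRθc : RootIn Q M u (θ c) := by
    have := hrc1.add (hRc.smul τ) hu
      (by rw [polar_sub_right, polar_smul_right', polar_smul_right', huc, huc']; ring)
      (by rw [polar_smul_right', huc, mul_zero])
    rwa [one_smul, sub_add_cancel] at this
  -- propagation
  have prop : ∀ y z, polar Q u y = 0 → polar Q (θ u) y = 0 → RootIn Q M u y → RootIn Q M u (θ y) →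
      Q z = 0 → polar Q u z = 0 → polar Q (θ u) z = 0 → polar Q y z = 1 →
      RootIn Q M u z ∧ RootIn Q M u (θ z) := by
    intro y z huy hθuy hy hy' hz huz hθuz hyz
    have huy' : polar Q u (θ y) = 0 := by rw [huθ, huy, hθuy]; ring
    have huz' : polar Q u (θ z) = 0 := by rw [huθ, huz, hθuz]; ring
    have h1 := h.phi hle hst hu hz huz huz' huy hy
    have h2 := h.phi hle hst hu hz huz huz' huy' hy'
    rw [h.adjoint y z, h.polar_theta, hyz] at h2
    rw [hyz] at h1
    set β := polar Q y (θ z)
    have hne : β * β - τ * β + ν ≠ 0 := by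
      intro h0
      have hv : (-β) • z + (1 : F) • θ z ≠ 0 := by
        intro e0
        have hz0 : z ≠ 0 := fun e => by rw [e, polar_zero_right] at hyz; exact zero_ne_one hyz
        exact one_ne_zero (h.aniso _ _ z hz0 e0).2
      refine one_ne_zero (h.aniso (-(τ - β)) 1 _ hv ?_).2
      simp only [map_add, map_smul, h.sq]
      linear_combination (norm := module) (-h0) • z
    have p1 : polar Q u ((1 : F) • θ z - β • z) = 0 := by
      rw [polar_sub_right, polar_smul_right', polar_smul_right', huz, huz']; ring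
    have p2 : polar Q u ((τ * 1 - β) • θ z - (ν * 1) • z) = 0 := by
      rw [polar_sub_right, polar_smul_right', polar_smul_right', huz, huz']; ring
    have hz1 : RootIn Q M u z := by
      have := ((h1.smul (τ - β)).add (h2.smul (-1)) hu (by rw [polar_smul_right', p1, mul_zero])
        (by rw [polar_smul_right', p2, mul_zero])).smul (β * β - τ * β + ν)⁻¹
      have e : (τ - β) • ((1 : F) • θ z - β • z) + (-1 : F) • ((τ * 1 - β) • θ z - (ν * 1) • z) =
          (β * β - τ * β + ν) • z := by module
      rwa [e, smul_smul, inv_mul_cancel₀ hne, one_smul] at this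
    refine ⟨hz1, ?_⟩
    have := h1.add (hz1.smul β) hu p1 (by rw [polar_smul_right', huz, mul_zero])
    rwa [one_smul, sub_add_cancel] at this
  have hsing : ∀ b, Q b = 0 → polar Q u b = 0 → polar Q (θ u) b = 0 → RootIn Q M u b := by
    intro b hb hub hub'
    by_cases hbl : b ∈ cLine θ u
    · exact (hline b hbl).2
    set S₂ := cLine θ u ⊔ Submodule.span F {b - c}
    by_cases hcS : c ∈ S₂
    · obtain ⟨l, hl, y, hy, he'⟩ := Submodule.mem_sup.1 hcS
      obtain ⟨s, rfl⟩ := Submodule.mem_span_singleton.1 hy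
      have hs : s ≠ 0 := by
        intro hs
        rw [hs, zero_smul, add_zero] at he'
        have h1 : polar Q w l = 0 := by
          obtain ⟨α, β, rfl⟩ := Submodule.mem_span_pair.1 hl
          rw [polar_add_right, polar_smul_right', polar_smul_right', QuadraticMap.polar_comm Q w u,
            QuadraticMap.polar_comm Q w (θ u), huw, huw']
          ring
        rw [he', hwc] at h1
        exact one_ne_zero h1
      have hb' : b = (s⁻¹ * (1 + s)) • c + (-s⁻¹) • l := by
        have : s • b = (1 + s) • c - l := by linear_combination (norm := module) he'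
        rw [← inv_smul_smul₀ hs b, this]; module
      rw [hb']
      exact (hRc.smul _).add ((hline l hl).2.smul _) hu (by rw [polar_smul_right', huc, mul_zero])
        (by rw [polar_smul_right', (hline l hl).1, mul_zero])
    have hS₂ : Module.finrank F S₂ ≤ 3 := by
      refine (Submodule.finrank_add_le_finrank_add_finrank _ _).trans ?_
      have h1 : Module.finrank F (cLine θ u) ≤ 2 := finrank_pair_le (F := F) u (θ u)
      have h2 : Module.finrank F (Submodule.span F {b - c}) ≤ 1 := (finrank_span_le_card _).trans (by simp)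
      omega
    by_cases hcb : polar Q c b = 0
    swap
    · have h1 := (prop c ((polar Q c b)⁻¹ • b) huc hθuc hRc hRθc (by rw [CfsgLib.Geometry.map_smul', hb, mul_zero])
        (by rw [polar_smul_right', hub, mul_zero]) (by rw [polar_smul_right', hub', mul_zero])
        (by rw [polar_smul_right', inv_mul_cancel₀ hcb])).1.smul (polar Q c b)
      rwa [smul_smul, mul_inv_cancel₀ hcb, one_smul] at h1
    obtain ⟨z, hz, hzS, hzc, -⟩ := exists_singular_polar_of_sing hQ S₂ hcS hc (fun s hs => by
      obtain ⟨l, hl, y, hy, rfl⟩ := Submodule.mem_sup.1 hs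
      obtain ⟨α, β, rfl⟩ := Submodule.mem_span_pair.1 hl
      obtain ⟨k, rfl⟩ := Submodule.mem_span_singleton.1 hy
      rw [polar_add_right, polar_add_right, polar_smul_right', polar_smul_right', polar_smul_right', polar_sub_right,
        QuadraticMap.polar_comm Q c u, huc, QuadraticMap.polar_comm Q c (θ u), hθuc, polar_self', hc, hcb]
      ring) (one_ne_zero (α := F))
    have huz : polar Q u z = 0 := by
      rw [QuadraticMap.polar_comm]; exact hzS u (Submodule.mem_sup_left (mem_cLine_left u))
    have huz' : polar Q (θ u) z = 0 := by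
      rw [QuadraticMap.polar_comm]; exact hzS _ (Submodule.mem_sup_left (mem_cLine_right u))
    obtain ⟨hz1, hz2⟩ := prop c z huc hθuc hRc hRθc hz huz huz' (by rw [QuadraticMap.polar_comm]; exact hzc)
    have hzb : polar Q z b = 1 := by
      have := hzS (b - c) (Submodule.mem_sup_right (Submodule.mem_span_singleton_self _))
      rw [polar_sub_right, hzc, sub_eq_zero] at this
      exact this
    exact (prop z b huz huz' hz1 hz2 hb hub hub' hzb).1
  intro x hux hux'
  by_cases hxl : x ∈ cLine θ u
  · exact (hline x hxl).2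
  have hLd : Module.finrank F (cLine θ u) ≤ 2 := finrank_pair_le (F := F) u (θ u)
  obtain ⟨z, hz, hzu, hzx, -⟩ := exists_singular_polar hQ (cLine θ u) hxl (by omega) 1
  have huz : polar Q u z = 0 := by rw [QuadraticMap.polar_comm]; exact hzu u (mem_cLine_left u)
  have huz' : polar Q (θ u) z = 0 := by rw [QuadraticMap.polar_comm]; exact hzu _ (mem_cLine_right u)
  have hf' : Q (x + (-Q x) • z) = 0 := by
    simp only [CfsgLib.Geometry.map_add', CfsgLib.Geometry.map_smul', polar_smul_right', hz,
      QuadraticMap.polar_comm Q x z, hzx]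
    ring
  have hp1 : polar Q u (x + (-Q x) • z) = 0 := by rw [polar_add_right, polar_smul_right', hux, huz]; ring
  have hp2 : polar Q (θ u) (x + (-Q x) • z) = 0 := by rw [polar_add_right, polar_smul_right', hux', huz']; ring
  have := (hsing _ hf' hp1 hp2).add ((hsing z hz huz huz').smul (Q x)) hu hp1
    (by rw [polar_smul_right', huz, mul_zero])
  rwa [show x + (-Q x) • z + Q x • z = x by module] at this

include hQ hd h hle hst in
theorem spread_all {u₀ : V} (hu₀0 : u₀ ≠ 0) (hu₀ : Q u₀ = 0) (hG : Spread Q θ M u₀) :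
    ∀ v, v ≠ 0 → Q v = 0 → Spread Q θ M v := by
  -- spreading along orthogonal lines
  have step : ∀ a b, a ≠ 0 → b ≠ 0 → Q a = 0 → Q b = 0 → polar Q a b = 0 → polar Q (θ a) b = 0 →
      b ∉ cLine θ a → Spread Q θ M a → Spread Q θ M b := by
    intro a b ha0 hb0 ha hb hab hab' hba hA
    refine spread_of_root hQ hd h hle hst hb0 hb ha (by rw [QuadraticMap.polar_comm]; exact hab) ?_
      (fun hm => hba (h.cLine_symm hm ha0)) ((hA b hab hab').swap ha hb hab)
    linear_combination h.adjoint b a + τ * (QuadraticMap.polar_comm Q b a).trans hab -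
      (QuadraticMap.polar_comm Q b (θ a)).trans hab'
  intro v hv0 hv
  by_cases hperp : polar Q u₀ v = 0 ∧ polar Q (θ u₀) v = 0 ∧ v ∉ cLine θ u₀
  · exact step u₀ v hu₀0 hv0 hu₀ hv hperp.1 hperp.2.1 hperp.2.2 hG
  -- a common neighbour
  have hL₀ : Module.finrank F (cLine θ u₀) ≤ 2 := finrank_pair_le (F := F) u₀ (θ u₀)
  have htop : (⊤ : Submodule F V) ⊓ polarPerp Q ⊤ = ⊥ := by
    rw [eq_bot_iff]
    rintro w ⟨-, hw⟩
    exact hQ.1 w fun y => by
      show polar Q w y = 0
      rw [QuadraticMap.polar_comm]; exact mem_polarPerp.1 hw y trivial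
  obtain ⟨c, f, hc, hcf, hSc, hSf⟩ : ∃ c f, Q c = 0 ∧ polar Q c f = 1 ∧
      (∀ s ∈ cLine θ u₀ ⊔ cLine θ v, polar Q s c = 0) ∧ ∀ s ∈ cLine θ u₀ ⊔ cLine θ v, polar Q s f = 0 := by
    by_cases hvl : v ∈ cLine θ u₀
    · have hle : cLine θ u₀ ⊔ cLine θ v = cLine θ u₀ := sup_eq_left.2 (Submodule.span_le.2 (by
        rintro _ (rfl | rfl)
        exacts [hvl, h.cLine_mapsTo hvl]))
      obtain ⟨c, f, -, -, hc, -, hcf, hSc, hSf⟩ := exists_pair_perp hQ htop (cLine θ u₀) (by rw [finrank_top]; omega)
      rw [hle]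
      exact ⟨c, f, hc, hcf, hSc, hSf⟩
    -- two lines which are not orthogonal span a non-degenerate space
    have hno : ¬ (polar Q u₀ v = 0 ∧ polar Q (θ u₀) v = 0) := fun e => hperp ⟨e.1, e.2, hvl⟩
    have hvv : ∀ a b, Q a = 0 → a ≠ 0 → ∀ y ∈ cLine θ b, polar Q y a = 0 → polar Q y (θ a) = 0 → y ≠ 0 →
        polar Q a b = 0 ∧ polar Q (θ a) b = 0 := by
      intro a b _ _ y hy h1 h2 hy0
      obtain ⟨α, β, hb⟩ := Submodule.mem_span_pair.1 (h.cLine_symm hy hy0)
      have h1' : polar Q a y = 0 := by rw [QuadraticMap.polar_comm]; exact h1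
      have h2' : polar Q (θ a) y = 0 := by rw [QuadraticMap.polar_comm]; exact h2
      have h3 : polar Q a (θ y) = 0 := by
        linear_combination h.adjoint a y + τ * h1' - h2'
      have h4 : polar Q (θ a) (θ y) = 0 := by rw [h.polar_theta, h1', mul_zero]
      rw [← hb]
      constructor <;> simp [polar_add_right, polar_smul_right', h1', h2', h3, h4]
    have hnd : (cLine θ u₀ ⊔ cLine θ v) ⊓ polarPerp Q (cLine θ u₀ ⊔ cLine θ v) = ⊥ := by
      rw [eq_bot_iff]
      rintro r ⟨hr, hr'⟩
      obtain ⟨x, hx, y, hy, rfl⟩ := Submodule.mem_sup.1 hr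
      have e : ∀ s ∈ cLine θ u₀ ⊔ cLine θ v, polar Q (x + y) s = 0 := fun s hs => by
        rw [QuadraticMap.polar_comm]; exact mem_polarPerp.1 hr' s hs
      have e0 : ∀ a, Q a = 0 → ∀ s ∈ cLine θ a, ∀ t ∈ cLine θ a, polar Q s t = 0 := fun a ha s hs t ht => by
        have h1 := h.cLine_singular ha (add_mem hs ht)
        rw [CfsgLib.Geometry.map_add', h.cLine_singular ha hs, h.cLine_singular ha ht] at h1
        linear_combination h1
      have hy0 : y = 0 := by
        by_contra hy0
        refine hno (hvv u₀ v hu₀ hu₀0 y hy ?_ ?_ hy0)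
        · have := e u₀ (Submodule.mem_sup_left (mem_cLine_left u₀))
          rwa [polar_add_left, e0 u₀ hu₀ x hx u₀ (mem_cLine_left u₀), zero_add] at this
        · have := e (θ u₀) (Submodule.mem_sup_left (mem_cLine_right u₀))
          rwa [polar_add_left, e0 u₀ hu₀ x hx _ (mem_cLine_right u₀), zero_add] at this
      subst hy0
      rw [add_zero] at e ⊢
      by_contra hx0
      obtain ⟨h1, h2⟩ := hvv v u₀ hv hv0 x hx (e v (Submodule.mem_sup_right (mem_cLine_left v)))
        (e (θ v) (Submodule.mem_sup_right (mem_cLine_right v))) hx0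
      refine hno ⟨by rw [QuadraticMap.polar_comm]; exact h1, ?_⟩
      linear_combination h.adjoint u₀ v + τ * (QuadraticMap.polar_comm Q u₀ v).trans h1 -
        (QuadraticMap.polar_comm Q u₀ (θ v)).trans h2
    obtain ⟨c, f, hcU, hfU, hc, -, hcf, -, -⟩ := exists_pair_perp hQ (inf_polarPerp_perp hQ hnd) ⊥ (by
      have h1 := Submodule.finrank_add_le_finrank_add_finrank (cLine θ u₀) (cLine θ v)
      have h3 : Module.finrank F (cLine θ v) ≤ 2 := finrank_pair_le (F := F) v (θ v)
      have h4 := finrank_polarPerp hQ (cLine θ u₀ ⊔ cLine θ v)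
      rw [finrank_bot]; omega)
    exact ⟨c, f, hc, hcf, fun s hs => mem_polarPerp.1 hcU s hs, fun s hs => mem_polarPerp.1 hfU s hs⟩
  have hcS : ∀ y ∈ cLine θ u₀ ⊔ cLine θ v, polar Q c y = 0 := fun y hy => by
    rw [QuadraticMap.polar_comm]; exact hSc y hy
  have hcn : c ∉ cLine θ u₀ ⊔ cLine θ v := fun hm => zero_ne_one (α := F) (by rw [← hcf, hSf c hm])
  have hc0 : c ≠ 0 := fun e => hcn (e ▸ Submodule.zero_mem _)
  have hp : ∀ y ∈ cLine θ u₀ ⊔ cLine θ v, polar Q y c = 0 := fun y hy => by
    rw [QuadraticMap.polar_comm]; exact hcS y hy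
  have hC := step u₀ c hu₀0 hc0 hu₀ hc (hp _ (Submodule.mem_sup_left (mem_cLine_left u₀)))
    (hp _ (Submodule.mem_sup_left (mem_cLine_right u₀))) (fun hm => hcn (Submodule.mem_sup_left hm)) hG
  have hcv : polar Q c v = 0 := hcS v (Submodule.mem_sup_right (mem_cLine_left v))
  refine step c v hc0 hv0 hc hv hcv ?_ (fun hm => hcn (Submodule.mem_sup_right (h.cLine_symm hm hv0))) hC
  linear_combination h.adjoint c v + τ * hcv - hcS (θ v) (Submodule.mem_sup_right (mem_cLine_right v))

include hQ hd h hle hst in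
theorem full_of_spread (hall : ∀ v, v ≠ 0 → Q v = 0 → Spread Q θ M v) {u : V} (hu0 : u ≠ 0) (hu : Q u = 0) :
    Full Q M u := by
  intro w he huw
  have hθu : θ u ∉ Submodule.span F {u} := fun hm => by
    obtain ⟨s, hs⟩ := Submodule.mem_span_singleton.1 hm
    exact one_ne_zero (h.aniso (-s) 1 u hu0 (by rw [← hs]; module)).2
  set s := polar Q (θ u) w
  -- an isometry carrying a root vector out of the hyperplane of the line
  obtain ⟨x, hx⟩ : ∃ x, x ∉ cLine θ u := by
    refine SetLike.exists_not_mem_of_ne_top _ (fun e => ?_) rfl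
    have h1 : Module.finrank F (cLine θ u) ≤ 2 := finrank_pair_le (F := F) u (θ u)
    rw [e, finrank_top] at h1
    omega
  obtain ⟨a, ha, haS, -, han⟩ := exists_singular_polar hQ (cLine θ u) hx (by
    have h1 : Module.finrank F (cLine θ u) ≤ 2 := finrank_pair_le (F := F) u (θ u)
    omega) 1
  have ha0 : a ≠ 0 := fun e => han (e ▸ Submodule.zero_mem _)
  have hau : polar Q a u = 0 := haS u (mem_cLine_left u)
  have haθu : polar Q a (θ u) = 0 := haS _ (mem_cLine_right u)
  have hθau : polar Q (θ a) u = 0 := by rw [h.adjoint, hau, haθu]; ring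
  have hθuS : θ u ∉ cLine θ a ⊔ Submodule.span F {u} := by
    intro hm
    obtain ⟨l, hl, y, hy, he'⟩ := Submodule.mem_sup.1 hm
    obtain ⟨t, rfl⟩ := Submodule.mem_span_singleton.1 hy
    have hl' : l ∈ cLine θ u := by
      rw [eq_sub_of_add_eq he']; exact sub_mem (mem_cLine_right u) (Submodule.smul_mem _ _ (mem_cLine_left u))
    by_cases hl0 : l = 0
    · rw [hl0, zero_add] at he'
      exact hθu (Submodule.mem_span_singleton.2 ⟨t, he'⟩)
    have h1 := h.cLine_symm hl hl0
    obtain ⟨α, β, hab⟩ := Submodule.mem_span_pair.1 h1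
    exact han (by rw [← hab]; exact add_mem (Submodule.smul_mem _ _ hl') (Submodule.smul_mem _ _ (h.cLine_mapsTo hl')))
  obtain ⟨b, hb, hbθu⟩ := exists_polar hQ _ hθuS s
  have hba : polar Q b a = 0 := hb a (Submodule.mem_sup_left (mem_cLine_left a))
  have hbθa : polar Q b (θ a) = 0 := hb _ (Submodule.mem_sup_left (mem_cLine_right a))
  have hbu : polar Q b u = 0 := hb u (Submodule.mem_sup_right (Submodule.mem_span_singleton_self u))
  have haL : a ∉ cLine θ u := han
  obtain ⟨y, hy, hya⟩ := exists_polar hQ _ haL 1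
  have hyu : polar Q u y = 0 := by rw [QuadraticMap.polar_comm]; exact hy u (mem_cLine_left u)
  have hθuy : polar Q (θ u) y = 0 := by rw [QuadraticMap.polar_comm]; exact hy _ (mem_cLine_right u)
  have hab : polar Q a b = 0 := by rw [QuadraticMap.polar_comm]; exact hba
  have hsM : siegel Q a b ha hab ∈ M :=
    (hall a ha0 ha b hab (by rw [QuadraticMap.polar_comm]; exact hbθa)).one ha hab
  set d := polar Q y a • b - polar Q y b • a - (Q b * polar Q y a) • a
  have hd1 := (hall u hu0 hu y hyu hθuy).diff (d := d) hsM (siegelGroup_le_orth (hle hsM)) hu hyu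
    (by rw [siegel_apply, QuadraticMap.polar_comm Q u a, hau, QuadraticMap.polar_comm Q u b, hbu]; module)
    (by rw [siegel_apply]; simp only [d]; module)
  have hua : polar Q u a = 0 := by rw [QuadraticMap.polar_comm]; exact hau
  have hub : polar Q u b = 0 := by rw [QuadraticMap.polar_comm]; exact hbu
  have hud : polar Q u d = 0 := by
    simp only [d, polar_sub_right, polar_smul_right', hua, hub, mul_zero, sub_zero]
  have hrest : polar Q (θ u) (w - d) = 0 := by
    simp only [d, polar_sub_right, polar_smul_right', hya, one_mul, QuadraticMap.polar_comm Q (θ u) a, haθu,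
      QuadraticMap.polar_comm Q (θ u) b, hbθu, mul_zero, sub_zero, s, sub_self]
  have := hd1.add (hall u hu0 hu (w - d) (by rw [polar_sub_right, huw, hud, sub_zero]) hrest) hu hud
    (by rw [polar_sub_right, huw, hud, sub_zero])
  rw [add_sub_cancel] at this
  exact this.one he huw

include hQ hd h hle hst in
theorem root_of_moved {g : V ≃ₗ[F] V} (hg : g ∈ M) {u₀ : V} (hu₀0 : u₀ ≠ 0) (hu₀ : Q u₀ = 0)
    (hmv : θ (g u₀) ∉ Submodule.span F ({g u₀, g (θ u₀)} : Set V)) :
    ∃ u w, u ≠ 0 ∧ Q u = 0 ∧ Q w = 0 ∧ polar Q u w = 0 ∧ polar Q (θ u) w = 0 ∧ w ∉ cLine θ u ∧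
      RootIn Q M u w := by
  have hgo := siegelGroup_le_orth (hle hg)
  set m₁ := g u₀
  set m₂ := g (θ u₀)
  have hm₁ : Q m₁ = 0 := by rw [mem_orth.1 hgo, hu₀]
  have hm₁0 : m₁ ≠ 0 := fun e => hu₀0 (g.map_eq_zero_iff.1 e)
  have hm₂ : Q m₂ = 0 := by rw [mem_orth.1 hgo, h.norm, hu₀, mul_zero]
  have hm : polar Q m₁ m₂ = 0 := by rw [orth_polar hgo, h.self_perp hu₀]
  have hR : RootIn Q M m₁ m₂ := fun t => by
    have h1 : SiegIn Q M u₀ (t • θ u₀) := fun he hw => h.tv_mem hst he t hw
    have := h1.conj hg hgo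
    rwa [map_smul] at this
  have hm₂L : m₂ ∉ cLine θ m₁ := by
    intro hmem
    obtain ⟨α, β, hab⟩ := Submodule.mem_span_pair.1 hmem
    by_cases hβ : β = 0
    · rw [hβ, zero_smul, add_zero] at hab
      have : θ u₀ = α • u₀ := g.injective (by rw [map_smul]; exact hab.symm)
      exact one_ne_zero (h.aniso (-α) 1 u₀ hu₀0 (by rw [this]; module)).2
    refine hmv (Submodule.mem_span_pair.2 ⟨-(β⁻¹ * α), β⁻¹, ?_⟩)
    rw [← hab, smul_add, smul_smul, smul_smul, inv_mul_cancel₀ hβ, one_smul]; module
  have h1 : Module.finrank F (cLine θ m₁) ≤ 2 := finrank_pair_le (F := F) m₁ (θ m₁)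
  obtain ⟨u, hu, huS, hum, hun⟩ := exists_singular_polar hQ _ hm₂L (by omega) 1
  have hu0 : u ≠ 0 := fun e => hun (e ▸ Submodule.zero_mem _)
  have hum₁ : polar Q u m₁ = 0 := huS _ (mem_cLine_left _)
  have hm₁u : polar Q m₁ u = 0 := by rw [QuadraticMap.polar_comm]; exact hum₁
  have hm₁θu : polar Q m₁ (θ u) = 0 := by
    linear_combination h.adjoint m₁ u + τ * hm₁u - (QuadraticMap.polar_comm Q (θ m₁) u).trans (huS _ (mem_cLine_right _))
  have hp := h.phi hle hst hm₁ hu hm₁u hm₁θu hm hR
  rw [show polar Q m₂ u = 1 by rw [QuadraticMap.polar_comm]; exact hum, one_smul] at hp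
  set p := θ u - polar Q m₂ (θ u) • u
  have hpL : p ∈ cLine θ u := sub_mem (mem_cLine_right u) (Submodule.smul_mem _ _ (mem_cLine_left u))
  have hp0 : p ≠ 0 := fun e => one_ne_zero (h.aniso (-(polar Q m₂ (θ u))) 1 u hu0 (by
    rw [one_smul, neg_smul, ← sub_eq_neg_add]; exact e)).2
  have hm₁p : polar Q m₁ p = 0 := by
    rw [polar_sub_right, polar_smul_right', hm₁θu, hm₁u]; ring
  refine ⟨p, m₁, hp0, h.cLine_singular hu hpL, hm₁, by rw [QuadraticMap.polar_comm]; exact hm₁p, ?_,
    fun hmem => ?_, hp.swap hm₁ (h.cLine_singular hu hpL) hm₁p⟩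
  · obtain ⟨α, β, hab⟩ := Submodule.mem_span_pair.1 (h.cLine_mapsTo hpL)
    rw [QuadraticMap.polar_comm, ← hab, polar_add_right, polar_smul_right', polar_smul_right', hm₁u, hm₁θu]
    ring
  · have h2 := h.cLine_symm hmem hm₁0
    obtain ⟨α, β, hab⟩ := Submodule.mem_span_pair.1 (h.cLine_symm hpL hp0)
    exact hun (by rw [← hab]; exact add_mem (Submodule.smul_mem _ _ h2) (Submodule.smul_mem _ _ (h.cLine_mapsTo h2)))

include hQ h in
/-- A linear map preserving the lines of all singular vectors lies in the extension field. -/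
theorem scalar_of_cLine (hd10 : 10 ≤ Module.finrank F V) {T : V →ₗ[F] V} (hT : ∀ v, Q v = 0 → T v ∈ cLine θ v) :
    ∃ a b : F, ∀ v, T v = a • v + b • θ v := by
  classical
  have hL : ∀ v : V, Module.finrank F (cLine θ v) ≤ 2 := fun v => finrank_pair_le (F := F) v (θ v)
  haveI : Nontrivial V := Module.nontrivial_of_finrank_pos (R := F) (by omega)
  choose! α β hab using fun v hv => Submodule.mem_span_pair.1 (hT v hv)
  -- orthogonal independent lines
  have adj : ∀ v w, v ≠ 0 → w ≠ 0 → Q v = 0 → Q w = 0 → polar Q v w = 0 → w ∉ cLine θ v →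
      α v = α w ∧ β v = β w := by
    intro v w hv0 hw0 hv hw hvw hwv
    have hs : Q (v + w) = 0 := by rw [CfsgLib.Geometry.map_add', hv, hw, hvw]; ring
    have h1 := hab _ hs
    rw [map_add T, ← hab v hv, ← hab w hw, map_add θ] at h1
    have hx : (α (v + w) - α v) • v + (β (v + w) - β v) • θ v +
        ((α (v + w) - α w) • w + (β (v + w) - β w) • θ w) = 0 := by linear_combination (norm := module) h1
    have hz : (α (v + w) - α w) • w + (β (v + w) - β w) • θ w = 0 := by
      by_contra hz
      have hzv : (α (v + w) - α w) • w + (β (v + w) - β w) • θ w ∈ cLine θ v := by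
        rw [show (α (v + w) - α w) • w + (β (v + w) - β w) • θ w =
          (-(α (v + w) - α v)) • v + (-(β (v + w) - β v)) • θ v by linear_combination (norm := module) hx]
        exact Submodule.mem_span_pair.2 ⟨_, _, rfl⟩
      have hzw : (α (v + w) - α w) • w + (β (v + w) - β w) • θ w ∈ cLine θ w :=
        Submodule.mem_span_pair.2 ⟨_, _, rfl⟩
      obtain ⟨c, d, hcd⟩ := Submodule.mem_span_pair.1 (h.cLine_symm hzw hz)
      exact hwv (by rw [← hcd]; exact add_mem (Submodule.smul_mem _ _ hzv) (Submodule.smul_mem _ _ (h.cLine_mapsTo hzv)))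
    obtain ⟨e1, e2⟩ := h.aniso _ _ w hw0 hz
    rw [hz, add_zero] at hx
    obtain ⟨e3, e4⟩ := h.aniso _ _ v hv0 hx
    exact ⟨(sub_eq_zero.1 e3).symm.trans (sub_eq_zero.1 e1), (sub_eq_zero.1 e4).symm.trans (sub_eq_zero.1 e2)⟩
  obtain ⟨v₀, hv₀0, hv₀⟩ := exists_singular hQ (by omega)
  have uni : ∀ v, v ≠ 0 → Q v = 0 → α v = α v₀ ∧ β v = β v₀ := by
    intro v hv0 hv
    have hTd : Module.finrank F ↥(cLine θ v₀ ⊔ cLine θ v) ≤ 4 := by
      have := Submodule.finrank_add_le_finrank_add_finrank (cLine θ v₀) (cLine θ v)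
      have := hL v₀; have := hL v
      omega
    set S := Submodule.span F ({v₀, v} : Set V)
    have hSd : Module.finrank F S ≤ 2 := finrank_pair_le (F := F) v₀ v
    obtain ⟨x, hxT, hxS⟩ : ∃ x ∈ polarPerp Q (cLine θ v₀ ⊔ cLine θ v), x ∉ S := by
      by_contra hcon
      push Not at hcon
      have := Submodule.finrank_mono (fun x hx => hcon x hx : polarPerp Q (cLine θ v₀ ⊔ cLine θ v) ≤ S)
      have := finrank_polarPerp hQ (cLine θ v₀ ⊔ cLine θ v)
      omega
    obtain ⟨c, hc, hcS, hcx, hcn⟩ := exists_singular_polar hQ S hxS (by omega) 1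
    have hc0 : c ≠ 0 := fun e => hcn (e ▸ Submodule.zero_mem _)
    have hcT : c ∉ cLine θ v₀ ⊔ cLine θ v := fun hm => by
      rw [mem_polarPerp.1 hxT c hm] at hcx
      exact zero_ne_one hcx
    obtain ⟨a1, b1⟩ := adj v c hv0 hc0 hv hc (by
      rw [QuadraticMap.polar_comm]; exact hcS v (Submodule.subset_span (by simp)))
      (fun hm => hcT (Submodule.mem_sup_right hm))
    obtain ⟨a2, b2⟩ := adj v₀ c hv₀0 hc0 hv₀ hc (by
      rw [QuadraticMap.polar_comm]; exact hcS v₀ (Submodule.subset_span (by simp)))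
      (fun hm => hcT (Submodule.mem_sup_left hm))
    exact ⟨a1.trans a2.symm, b1.trans b2.symm⟩
  refine ⟨α v₀, β v₀, fun v => ?_⟩
  have hS : ∀ v, Q v = 0 → T v = α v₀ • v + β v₀ • θ v := fun v hv => by
    by_cases hv0 : v = 0
    · subst hv0; simp
    · obtain ⟨e1, e2⟩ := uni v hv0 hv
      rw [← e1, ← e2, hab v hv]
  by_cases hv0 : v = 0
  · subst hv0; simp
  obtain ⟨e, he, -, hev, -⟩ := exists_singular_polar hQ ⊥ (fun hm => hv0 ((Submodule.mem_bot F).1 hm))
    (by rw [finrank_bot]; omega) 1
  have hf : Q (v + (-Q v) • e) = 0 := by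
    simp only [CfsgLib.Geometry.map_add', CfsgLib.Geometry.map_smul', polar_smul_right', he,
      QuadraticMap.polar_comm Q v e, hev]
    ring
  have h1 := hS _ hf
  have h2 := hS e he
  simp only [map_add, map_smul, h2] at h1
  linear_combination (norm := module) h1

include hQ hd h hle hst in
theorem unitary_stab_max (hne : ∃ g ∈ M, ¬ ∃ a b : F, ∀ v, g (θ v) = a • g v + b • θ (g v)) :
    siegelGroup Q ≤ M := by
  obtain ⟨g, hg, hgn⟩ := hne
  have hgo := siegelGroup_le_orth (hle hg)
  haveI : Nontrivial V := Module.nontrivial_of_finrank_pos (R := F) (by omega)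
  obtain ⟨u₀, hu₀0, hu₀, hmv⟩ : ∃ u₀, u₀ ≠ 0 ∧ Q u₀ = 0 ∧
      θ (g u₀) ∉ Submodule.span F ({g u₀, g (θ u₀)} : Set V) := by
    by_contra hc
    push Not at hc
    obtain ⟨a, b, hab⟩ := scalar_of_cLine hQ h (by omega) (T := g.symm.toLinearMap ∘ₗ θ ∘ₗ g.toLinearMap) fun v hv => by
      by_cases hv0 : v = 0
      · subst hv0; simp
      obtain ⟨c, d, hcd⟩ := Submodule.mem_span_pair.1 (hc v hv0 hv)
      refine Submodule.mem_span_pair.2 ⟨c, d, g.injective ?_⟩
      simpa [map_add, map_smul] using hcd
    obtain ⟨u₁, hu₁0, hu₁⟩ := exists_singular hQ (by omega)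
    have hb : b ≠ 0 := by
      intro hb
      have h1 := hab u₁
      rw [hb, zero_smul, add_zero] at h1
      have h2 := congrArg g h1
      simp only [LinearMap.coe_comp, LinearEquiv.coe_coe, Function.comp_apply, LinearEquiv.apply_symm_apply,
        map_smul] at h2
      exact one_ne_zero (h.aniso (-a) 1 (g u₁) (fun e => hu₁0 (g.map_eq_zero_iff.1 e)) (by rw [h2]; module)).2
    refine hgn ⟨-(b⁻¹ * a), b⁻¹, fun v => ?_⟩
    have h2 := congrArg g (hab v)
    simp only [LinearMap.coe_comp, LinearEquiv.coe_coe, Function.comp_apply, LinearEquiv.apply_symm_apply,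
      map_add, map_smul] at h2
    rw [h2, smul_add, smul_smul, smul_smul, inv_mul_cancel₀ hb, one_smul]
    module
  obtain ⟨u, w, hu0, hu, hw, huw, huw', hwu, hR⟩ := root_of_moved hQ hd h hle hst hg hu₀0 hu₀ hmv
  have hall := spread_all hQ hd h hle hst hu0 hu (spread_of_root hQ hd h hle hst hu0 hu hw huw huw' hwu hR)
  obtain ⟨f, hf, hef⟩ := exists_pair hQ hu0 hu
  have hf0 : f ≠ 0 := fun e => by rw [e, polar_zero_right] at hef; exact zero_ne_one hef
  exact siegelGroup_le_of_full hQ hu hf hef (full_of_spread hQ hd h hle hst hall hu0 hu)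
    (full_of_spread hQ hd h hle hst hall hf0 hf)

end CfsgLib.OrthMax
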