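import Cfsg.Agent.Lib.OrthMax.Pair
import Cfsg.Agent.Lib.OrthMax.Apps
import Cfsg.Agent.Lib.AschbacherOrth.Proper
import Cfsg.Agent.Lib.OrthMax.Unitary
import Cfsg.Agent.Lib.AschbacherOrth.Field
import Cfsg.Agent.Lib.Maximal.SubfieldFinal
import Cfsg.Agent.Lib.Geometry.GeoOmega
import Cfsg.Agent.Lib.OrthMax.SubfieldEven
import Cfsg.Agent.Lib.OrthMax.Bridge
import Cfsg.Agent.Lib.OrthMax.TensorSp.Bridge

/-! Row forms of the maximality theorems for even-dimensional orthogonal groups, from dimension 12. -/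

set_option autoImplicit false
open Cfsg CfsgLib CfsgLib.AschbacherOrth

namespace CfsgLib.OrthMax

/-- Let F be a finite field with q elements, n ≥ 12 even, Q a non-degenerate quadratic form on F^n of plus type (some subspace of dimension n/2 is totally singular), and Ω the commutator subgroup of the isometry group of Q, viewed inside GL_n(F). Suppose n/2 is even and let D be a decomposition of F^n into two complementary subspaces of dimension n/2 on each of which Q vanishes. Then the elements of Ω preserving or interchanging the two subspaces form a maximal subgroup of Ω. -/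
theorem singular_pair_maximal {F : Type*} [Field F] [Fintype F] {n : ℕ} (hn : 12 ≤ n) (heven : Even n) (Q : (Fin n → F) → F) (hQ : Cfsg.Geo.IsNondegenerateQuadraticForm Q) (hplus : Cfsg.Geo.IsPlusTypeOn Q ⊤) (k : ℕ) (hk : 2 * k = n) (hke : Even k) (D : Fin 2 → Submodule F (Fin n → F)) (hD : Cfsg.Geo.IsMDecomposition k D) (hts : ∀ i, Cfsg.Geo.IsTotallySingularQuad Q (D i)) : Cfsg.Geo.IsMaximalIn (Cfsg.Geo.omegaGL Q) (Cfsg.Geo.decompositionStabilizer D ⊓ Cfsg.Geo.omegaGL Q) := by
  classical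
  obtain ⟨Q', rfl, hQ'⟩ := Geometry.exists_quadraticForm hQ
  have hk8 : 6 ≤ k := by obtain ⟨j, rfl⟩ := hke; omega
  have h5 : 5 ≤ Fintype.card (Fin n) := by simp; omega
  have hn5 : 5 ≤ Module.finrank F (Fin n → F) := by simp; omega
  have hsup : D 0 ⊔ D 1 = ⊤ := by
    rw [← hD.iSup_eq_top]
    refine le_antisymm (sup_le (le_iSup D 0) (le_iSup D 1)) (iSup_le fun i => ?_)
    match i with
    | 0 => exact le_sup_left
    | 1 => exact le_sup_right
  have hp : OrthMax.SingPair Q' (D 0) (D 1) :=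
    ⟨⟨hD.indep.pairwiseDisjoint (by decide), codisjoint_iff.2 hsup⟩, hts 0, hts 1,
      by rw [hD.finrank_eq, hD.finrank_eq]⟩
  have hmem : ∀ g : Geometry.orth Q', Geometry.orthToGL Q' g ∈ Geo.decompositionStabilizer D ↔
      OrthMax.KeepsPair (D 0) (D 1) (g : (Fin n → F) ≃ₗ[F] (Fin n → F)) := by
    intro g
    have hap : ∀ i, (D i).map (Matrix.toLin' ((Geometry.orthToGL Q' g : Matrix.GeneralLinearGroup (Fin n) F) :
        Matrix (Fin n) (Fin n) F)) = (D i).map (g : (Fin n → F) ≃ₗ[F] (Fin n → F)).toLinearMap := fun i => by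
      congr 1
      refine LinearMap.ext fun v => ?_
      rw [Matrix.toLin'_apply, Geometry.orthToGL_mulVec]
      rfl
    have hinto : ∀ i j, (∀ x ∈ D i, (g : (Fin n → F) ≃ₗ[F] (Fin n → F)) x ∈ D j) ↔
        (D i).map (g : (Fin n → F) ≃ₗ[F] (Fin n → F)).toLinearMap = D j := fun i j => by
      refine ⟨fun h => Submodule.eq_of_le_of_finrank_le (by rintro _ ⟨x, hx, rfl⟩; exact h x hx) (le_of_eq ?_),
        fun h x hx => h ▸ ⟨x, hx, rfl⟩⟩
      rw [LinearEquiv.finrank_map_eq, hD.finrank_eq, hD.finrank_eq]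
    constructor
    · rintro ⟨σ, hσ⟩
      have h0 := (hap 0).symm.trans (hσ 0)
      have h1 := (hap 1).symm.trans (hσ 1)
      have hne : σ 0 ≠ σ 1 := fun e => absurd (σ.injective e) (by decide)
      revert h0 h1 hne
      generalize σ 0 = i
      generalize σ 1 = j
      intro h0 h1 hne
      match i, j with
      | 0, 0 => exact absurd rfl hne
      | 0, 1 => exact Or.inl ⟨(hinto 0 0).2 h0, (hinto 1 1).2 h1⟩
      | 1, 0 => exact Or.inr ⟨(hinto 0 1).2 h0, (hinto 1 0).2 h1⟩
      | 1, 1 => exact absurd rfl hne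
    · rintro (⟨h0, h1⟩ | ⟨h0, h1⟩)
      · refine ⟨1, fun i => (hap i).trans ?_⟩
        match i with
        | 0 => exact (hinto 0 0).1 h0
        | 1 => exact (hinto 1 1).1 h1
      · refine ⟨Equiv.swap 0 1, fun i => (hap i).trans ?_⟩
        match i with
        | 0 => exact (hinto 0 1).1 h0
        | 1 => exact (hinto 1 0).1 h1
  have hC := fun g => OrthMax.mem_commutator_iff_siegelGroup hQ' hn5 (Q := Q') g
  refine ⟨lt_of_le_of_ne inf_le_right fun h => SiegelIn.not_decomp hQ' h5 hD (Or.inl (by omega))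
    (siegelIn_of_omega_le hQ' h5 (inf_eq_right.1 h)), fun M hHM hMK => ?_⟩
  set N := (M.comap (Geometry.orthToGL Q') ⊓ commutator (Geometry.orth Q')).map (Geometry.orth Q').subtype
  have hNle : N ≤ Geometry.siegelGroup Q' := by
    rintro _ ⟨g, hg, rfl⟩; exact (hC g).1 hg.2
  have hst : ∀ g ∈ Geometry.siegelGroup Q', OrthMax.KeepsPair (D 0) (D 1) g → g ∈ N := fun g hg hgk => by
    refine ⟨⟨g, Geometry.siegelGroup_le_orth hg⟩, ⟨hHM ⟨(hmem _).2 hgk, ?_⟩, (hC _).2 hg⟩, rfl⟩
    rw [Geometry.omegaGL_eq_map]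
    exact Subgroup.mem_map_of_mem _ ((hC _).2 hg)
  by_cases hmv : ∃ g ∈ N, ¬ OrthMax.KeepsPair (D 0) (D 1) g
  · refine Or.inr (le_antisymm hMK ?_)
    rw [Geometry.omegaGL_eq_map]
    rintro _ ⟨g, hg, rfl⟩
    obtain ⟨g', hg', he⟩ := OrthMax.pair_stab_max hQ' hp (by rw [hD.finrank_eq]; omega)
      (by rwa [hD.finrank_eq]) hNle hst hmv ((hC g).1 hg)
    rw [← Subtype.ext he]
    exact hg'.1
  · push Not at hmv
    refine Or.inl (le_antisymm (fun m hm => ?_) hHM)
    have hm' := hMK hm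
    rw [Geometry.omegaGL_eq_map] at hm'
    obtain ⟨g, hg, rfl⟩ := hm'
    exact ⟨(hmem g).2 (hmv _ ⟨g, ⟨hm, hg⟩, rfl⟩), by
      rw [Geometry.omegaGL_eq_map]; exact Subgroup.mem_map_of_mem _ hg⟩


/-- Let F be a finite field with q elements, n ≥ 10 even, Q a non-degenerate quadratic form on F^n (of either type), and Ω the commutator subgroup of the isometry group of Q, viewed inside GL_n(F). Let K be a subfield of the algebra of n × n matrices over F containing the scalars, of degree 2 over F, closed under adjoints for the polar form of Q but not consisting of self-adjoint elements, and such that every k in K rescales Q (Q(k v) = c Q(v) for a constant c depending on k). Then the elements of Ω normalising K form a maximal subgroup of Ω. -/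
theorem unitary_field_maximal {F : Type*} [Field F] [Fintype F] {n : ℕ} (hn : 10 ≤ n) (heven : Even n) (Q : (Fin n → F) → F) (hQ : Cfsg.Geo.IsNondegenerateQuadraticForm Q) (K : Subalgebra F (Matrix (Fin n) (Fin n) F)) (hK : Cfsg.Geo.IsFieldSubalgebra 2 K) (hac : Cfsg.Geo.IsAdjointClosedFor (QuadraticMap.polar Q) K) (hnsa : ¬ Cfsg.Geo.IsSelfAdjointFor (QuadraticMap.polar Q) K) (hsc : ∀ k ∈ K, ∃ c : F, ∀ v : (Fin n → F), Q (Matrix.mulVec k v) = c * Q v) : Cfsg.Geo.IsMaximalIn (Cfsg.Geo.omegaGL Q) (Cfsg.Geo.subalgebraNormalizer K ⊓ Cfsg.Geo.omegaGL Q) := by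
  classical
  obtain ⟨Q', rfl, hQ'⟩ := Geometry.exists_quadraticForm hQ
  haveI : Nonempty (Fin n) := ⟨⟨0, by omega⟩⟩
  have h5 : 5 ≤ Fintype.card (Fin n) := by simp; omega
  have hd13 : 10 ≤ Module.finrank F (Fin n → F) := by simpa using hn
  obtain ⟨x, hxK, hxs⟩ : ∃ x ∈ K, ∀ a : F, a • (1 : Matrix (Fin n) (Fin n) F) ≠ x := by
    by_contra hc
    push Not at hc
    have hle : Subalgebra.toSubmodule K ≤ Submodule.span F {(1 : Matrix (Fin n) (Fin n) F)} := fun k hk => by
      obtain ⟨a, ha⟩ := hc k hk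
      exact Submodule.mem_span_singleton.2 ⟨a, ha⟩
    have h1 := Submodule.finrank_mono hle
    have h2 : Module.finrank F (Submodule.span F {(1 : Matrix (Fin n) (Fin n) F)}) ≤ 1 :=
      (finrank_span_le_card _).trans (by simp)
    have h3 : Module.finrank F (Subalgebra.toSubmodule K) = 2 := hK.finrank_eq
    omega
  obtain ⟨θ, hθdef⟩ : ∃ θ : (Fin n → F) →ₗ[F] (Fin n → F), θ = Matrix.toLin' x := ⟨_, rfl⟩
  have hθ : ∀ v, θ v = x.mulVec v := fun v => by rw [hθdef, Matrix.toLin'_apply]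
  obtain ⟨ν, hν⟩ := hsc x hxK
  obtain ⟨c₁, hc₁⟩ := hsc (x + 1) (K.add_mem hxK K.one_mem)
  obtain ⟨τ, hτdef⟩ : ∃ τ, τ = c₁ - ν - 1 := ⟨_, rfl⟩
  have htr : ∀ v, QuadraticMap.polar ⇑Q' (θ v) v = τ * Q' v := fun v => by
    have h1 := hc₁ v
    rw [Matrix.add_mulVec, Matrix.one_mulVec, Geometry.map_add', hν] at h1
    rw [hθ, hτdef]
    linear_combination h1
  have hmul : ∀ v, θ (θ v) = τ • θ v - ν • v := by
    intro v
    have hadj : ∀ a b, QuadraticMap.polar ⇑Q' (θ a) b =
        τ * QuadraticMap.polar ⇑Q' a b - QuadraticMap.polar ⇑Q' a (θ b) := fun a b => by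
      have h1 := htr (a + b)
      simp only [map_add, Geometry.map_add', QuadraticMap.polar_add_left, QuadraticMap.polar_add_right, htr a, htr b] at h1
      rw [QuadraticMap.polar_comm (⇑Q') (θ b) a] at h1
      linear_combination h1
    refine sub_eq_zero.1 (hQ'.1 _ fun y => ?_)
    show QuadraticMap.polar ⇑Q' (θ (θ v) - (τ • θ v - ν • v)) y = 0
    have hn2 : QuadraticMap.polar ⇑Q' (θ v) (θ y) = ν * QuadraticMap.polar ⇑Q' v y := by
      simp only [QuadraticMap.polar, hθ, ← Matrix.mulVec_add, hν]; ring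
    rw [QuadraticMap.polar_sub_left, QuadraticMap.polar_sub_left, Geometry.polar_smul_left', Geometry.polar_smul_left',
      hadj (θ v) y, hn2]
    ring
  have hpair : ∀ a b : F, a • (1 : Matrix (Fin n) (Fin n) F) + b • x = 0 → a = 0 ∧ b = 0 := by
    intro a b hab
    by_cases hb : b = 0
    · subst hb
      rw [zero_smul, add_zero] at hab
      exact ⟨(smul_eq_zero.1 hab).resolve_right one_ne_zero, rfl⟩
    · refine absurd ?_ (hxs (-(b⁻¹ * a)))
      rw [neg_smul, mul_smul, ← smul_neg, ← eq_neg_of_add_eq_zero_right hab, smul_smul, inv_mul_cancel₀ hb, one_smul]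
  have hstr : OrthMax.UnitaryStr Q' θ τ ν := by
    refine ⟨hmul, fun a b v hv hab => hpair a b ?_, fun v => by rw [hθ, hν], htr⟩
    refine field_mulVec_eq_zero hK (K.add_mem (K.smul_mem K.one_mem a) (K.smul_mem hxK b)) hv ?_
    rw [Matrix.add_mulVec, Matrix.smul_mulVec, Matrix.smul_mulVec, Matrix.one_mulVec, ← hθ, hab]
  have hspan : ∀ k ∈ K, ∃ a b : F, a • (1 : Matrix (Fin n) (Fin n) F) + b • x = k := by
    intro k hk
    have he : Submodule.span F ({1, x} : Set (Matrix (Fin n) (Fin n) F)) = Subalgebra.toSubmodule K := by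
      refine Submodule.eq_of_le_of_finrank_le (Submodule.span_le.2 ?_) ?_
      · rintro _ (rfl | rfl)
        exacts [K.one_mem, hxK]
      · have hli : LinearIndependent F ![(1 : Matrix (Fin n) (Fin n) F), x] := LinearIndependent.pair_iff.2 hpair
        have h1 := finrank_span_eq_card hli
        rw [Matrix.range_cons_cons_empty, Fintype.card_fin] at h1
        rw [h1]; exact hK.finrank_eq.le
    exact Submodule.mem_span_pair.1 (he.ge hk)
  set P := fun g : (Fin n → F) ≃ₗ[F] (Fin n → F) => ∃ a b : F, ∀ v, g (θ v) = a • g v + b • θ (g v)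
  have hmem : ∀ g : Geometry.orth Q', Geometry.orthToGL Q' g ∈ Geo.subalgebraNormalizer K ↔
      P (g : (Fin n → F) ≃ₗ[F] (Fin n → F)) := by
    intro g
    set G := Geometry.orthToGL Q' g
    have hG : ∀ v, (G : Matrix (Fin n) (Fin n) F).mulVec v = (g : (Fin n → F) ≃ₗ[F] (Fin n → F)) v :=
      Geometry.orthToGL_mulVec Q' g
    constructor
    · intro hg
      obtain ⟨a, b, hab⟩ := hspan _ ((hg x).1 hxK)
      refine ⟨a, b, fun v => ?_⟩
      have h1 := congrArg (fun m => Matrix.mulVec m ((G : Matrix (Fin n) (Fin n) F).mulVec v)) hab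
      simp only [Matrix.add_mulVec, Matrix.smul_mulVec, Matrix.one_mulVec] at h1
      rw [Matrix.mulVec_mulVec, Matrix.mulVec_mulVec, mul_assoc, ← Units.val_mul, inv_mul_cancel, Units.val_one,
        mul_one, ← Matrix.mulVec_mulVec, ← Matrix.mulVec_mulVec, hG, hG, ← hθ, ← hθ] at h1
      exact h1.symm
    · rintro ⟨a, b, hab⟩
      have hgx : (G : Matrix (Fin n) (Fin n) F) * x = (a • 1 + b • x) * (G : Matrix (Fin n) (Fin n) F) := by
        refine Matrix.toLin'.injective (LinearMap.ext fun v => ?_)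
        rw [Matrix.toLin'_apply, Matrix.toLin'_apply, ← Matrix.mulVec_mulVec, ← Matrix.mulVec_mulVec, hG, hG, ← hθ, hab,
          Matrix.add_mulVec, Matrix.smul_mulVec, Matrix.smul_mulVec, Matrix.one_mulVec, ← hθ]
      let c : K →ₗ[F] K := {
        toFun := fun k => ⟨(G : Matrix (Fin n) (Fin n) F) * (k : Matrix (Fin n) (Fin n) F) *
          ((G⁻¹ : Matrix.GeneralLinearGroup (Fin n) F) : Matrix (Fin n) (Fin n) F), by
          obtain ⟨a', b', hk⟩ := hspan _ k.2
          rw [← hk, mul_add, add_mul, Matrix.mul_smul, Matrix.smul_mul, Matrix.mul_smul, Matrix.smul_mul, mul_one,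
            ← Units.val_mul, mul_inv_cancel, Units.val_one, hgx, mul_assoc, ← Units.val_mul, mul_inv_cancel,
            Units.val_one, mul_one]
          exact K.add_mem (K.smul_mem K.one_mem a') (K.smul_mem (K.add_mem (K.smul_mem K.one_mem a) (K.smul_mem hxK b)) b')⟩
        map_add' := fun k l => Subtype.ext (by simp [mul_add, add_mul])
        map_smul' := fun r k => Subtype.ext (by simp) }
      have hinj : Function.Injective c := fun k l hkl => Subtype.ext (by
        have h1 := congrArg (fun z : K => ((G⁻¹ : Matrix.GeneralLinearGroup (Fin n) F) : Matrix (Fin n) (Fin n) F) *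
          (z : Matrix (Fin n) (Fin n) F) * (G : Matrix (Fin n) (Fin n) F)) hkl
        simpa [c, mul_assoc] using h1)
      haveI : FiniteDimensional F K := Module.finite_of_finrank_pos (by rw [hK.finrank_eq]; norm_num)
      intro k
      refine ⟨fun hk => (c ⟨k, hk⟩).2, fun hk => ?_⟩
      obtain ⟨l, hl⟩ := LinearMap.surjective_of_injective hinj ⟨_, hk⟩
      have hl' := congrArg (fun z : K => ((G⁻¹ : Matrix.GeneralLinearGroup (Fin n) F) : Matrix (Fin n) (Fin n) F) *
          (z : Matrix (Fin n) (Fin n) F) * (G : Matrix (Fin n) (Fin n) F)) hl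
      have : (l : Matrix (Fin n) (Fin n) F) = k := by simpa [c, mul_assoc] using hl'
      exact this ▸ l.2
  have hC := fun g => OrthMax.mem_commutator_iff_siegelGroup hQ' (by omega) (Q := Q') g
  refine ⟨lt_of_le_of_ne inf_le_right fun h => not_field hQ' h5 le_rfl hK (inf_eq_right.1 h), fun M hHM hMK => ?_⟩
  set N := (M.comap (Geometry.orthToGL Q') ⊓ commutator (Geometry.orth Q')).map (Geometry.orth Q').subtype
  have hNle : N ≤ Geometry.siegelGroup Q' := by
    rintro _ ⟨g, hg, rfl⟩; exact (hC g).1 hg.2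
  have hst : ∀ g ∈ Geometry.siegelGroup Q', (∀ v, g (θ v) = θ (g v)) → g ∈ N := fun g hg hgk => by
    refine ⟨⟨g, Geometry.siegelGroup_le_orth hg⟩, ⟨hHM ⟨(hmem _).2 ⟨0, 1, fun v => ?_⟩, ?_⟩, (hC _).2 hg⟩, rfl⟩
    · rw [zero_smul, one_smul, zero_add]; exact hgk v
    · rw [Geometry.omegaGL_eq_map]
      exact Subgroup.mem_map_of_mem _ ((hC _).2 hg)
  by_cases hmv : ∃ g ∈ N, ¬ P g
  · refine Or.inr (le_antisymm hMK ?_)
    rw [Geometry.omegaGL_eq_map]
    rintro _ ⟨g, hg, rfl⟩
    obtain ⟨g', hg', he⟩ := OrthMax.unitary_stab_max hQ' (by omega) hstr hNle hst hmv ((hC g).1 hg)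
    rw [← Subtype.ext he]
    exact hg'.1
  · push Not at hmv
    refine Or.inl (le_antisymm (fun m hm => ?_) hHM)
    have hm' := hMK hm
    rw [Geometry.omegaGL_eq_map] at hm'
    obtain ⟨g, hg, rfl⟩ := hm'
    exact ⟨(hmem g).2 (hmv _ ⟨g, ⟨hm, hg⟩, rfl⟩), by
      rw [Geometry.omegaGL_eq_map]; exact Subgroup.mem_map_of_mem _ hg⟩


/-- Let F be a finite field with q elements, n ≥ 10 even, Q a non-degenerate quadratic form on F^n (of either type), and Ω the commutator subgroup of the isometry group of Q, viewed inside GL_n(F). Let F₀ be a subfield with |F| = |F₀| ^ r for a prime r, ζ a non-zero scalar and P an invertible matrix such that ζ·Q takes values in F₀ on the F₀-span of the columns of P. Then the elements of Ω lying in the subfield group of P (the conjugate by P of the product of GL_n(F₀) with the scalars) form a maximal subgroup of Ω. -/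
theorem subfield_even_maximal {F : Type*} [Field F] [Fintype F] {n : ℕ} (hn : 8 ≤ n) (heven : Even n) (Q : (Fin n → F) → F) (hQ : Cfsg.Geo.IsNondegenerateQuadraticForm Q) (F₀ : Subfield F) (r : ℕ) (hr : r.Prime) (hcard : Fintype.card F = Nat.card F₀ ^ r) (P : Matrix.GeneralLinearGroup (Fin n) F) (ζ : F) (hζ : ζ ≠ 0) (hP : Cfsg.Geo.IsQuadFormRationalStructure (fun v : Fin n → F => ζ * Q v) F₀ P) : Cfsg.Geo.IsMaximalIn (Cfsg.Geo.omegaGL Q) (Cfsg.Geo.subfieldSubgroup F₀ P ⊓ Cfsg.Geo.omegaGL Q) := by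
  classical
  obtain ⟨Q, rfl, hQn⟩ := Geometry.exists_quadraticForm hQ
  clear hQ
  have hQ := hQn
  have hι : 8 ≤ Fintype.card (Fin n) := by simpa using hn
  have h5 : 5 ≤ Fintype.card (Fin n) := by omega
  have hn : 5 ≤ Module.finrank F ((Fin n) → F) := by simpa using h5
  have hC := fun g => OrthMax.mem_commutator_iff_siegelGroup hQ hn (Q := Q) g
  have hF : F₀ ≠ ⊤ := fun e => by
    obtain ⟨μ, hμ⟩ := Maximal.exists_notMem_subfield hr hcard
    exact hμ (e ▸ trivial)
  refine ⟨lt_of_le_of_ne inf_le_right fun h => not_subfield hQ h5 hF P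
    (siegelIn_of_omega_le hQ h5 (inf_eq_right.1 h)), fun M hHM hMK => ?_⟩
  set N := (M.comap (Geometry.orthToGL Q) ⊓ commutator (Geometry.orth Q)).map (Geometry.orth Q).subtype
  have hNle : N ≤ Geometry.siegelGroup Q := by
    rintro _ ⟨g, hg, rfl⟩; exact (hC g).1 hg.2
  let e : ((Fin n) → F) ≃ₗ[F] ((Fin n) → F) := LinearEquiv.ofLinear (Matrix.toLin' (P : Matrix (Fin n) (Fin n) F))
    (Matrix.toLin' ((P⁻¹ : Matrix.GeneralLinearGroup (Fin n) F) : Matrix (Fin n) (Fin n) F))
    (by rw [← Matrix.toLin'_mul, ← Units.val_mul, mul_inv_cancel, Units.val_one, Matrix.toLin'_one])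
    (by rw [← Matrix.toLin'_mul, ← Units.val_mul, inv_mul_cancel, Units.val_one, Matrix.toLin'_one])
  have he : ∀ v, e v = (P : Matrix (Fin n) (Fin n) F).mulVec v := fun v => Matrix.toLin'_apply _ v
  have hes : ∀ v, e.symm v = ((P⁻¹ : Matrix.GeneralLinearGroup (Fin n) F) : Matrix (Fin n) (Fin n) F).mulVec v := fun v =>
    Matrix.toLin'_apply _ v
  obtain ⟨Q', hQ'⟩ : ∃ Q' : QuadraticForm F ((Fin n) → F), ∀ v, Q' v = ζ * Q (e v) := ⟨ζ • Q.comp e.toLinearMap, fun v => rfl⟩
  have hpol : ∀ u v, QuadraticMap.polar ⇑Q' u v = ζ * QuadraticMap.polar ⇑Q (e u) (e v) := fun u v => by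
    simp [QuadraticMap.polar, hQ', mul_sub]
  have hrat : OrthMax.RatQ Q' F₀ := by
    refine ⟨?_, fun u hu => ?_⟩
    · have key : ∀ u, (∀ v, QuadraticMap.polar ⇑Q' u v = 0) → u = 0 := fun u hu =>
        e.map_eq_zero_iff.1 (hQ.1 _ fun y => by
          rw [← e.apply_symm_apply y]
          exact (mul_eq_zero.1 ((hpol _ _).symm.trans (hu _))).resolve_left hζ)
      exact ⟨key, fun u hu => key u fun v => by rw [QuadraticMap.polar_comm]; exact hu v⟩
    · rw [hQ', he]; exact hP u hu
  have hsing : ∀ u, Q' u = 0 → Q (e u) = 0 := fun u h => (mul_eq_zero.1 ((hQ' u).symm.trans h)).resolve_left hζ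
  have hperp : ∀ u w, QuadraticMap.polar ⇑Q' u w = 0 → QuadraticMap.polar ⇑Q (e u) (ζ • e w) = 0 := fun u w h => by
    rw [Geometry.polar_smul_right', ← hpol]; exact h
  have hconj : ∀ (u w : (Fin n) → F) (h1 : Q' u = 0) (h2 : QuadraticMap.polar ⇑Q' u w = 0),
      e * Geometry.siegel Q' u w h1 h2 * e⁻¹ =
        Geometry.siegel Q (e u) (ζ • e w) (hsing u h1) (hperp u w h2) := fun u w h1 h2 =>
    LinearEquiv.ext fun x => by
      show e (Geometry.siegel Q' u w h1 h2 (e.symm x)) = _
      simp only [Geometry.siegel_apply, hpol, hQ', LinearEquiv.apply_symm_apply, map_add, map_sub, map_smul,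
        Geometry.polar_smul_right', CfsgLib.Geometry.map_smul']
      module
  have hmem : ∀ g : Geometry.orth Q, Geometry.orthToGL Q g ∈ Geo.subfieldSubgroup F₀ P ↔
      ∃ c : F, c ≠ 0 ∧ ∀ v, Maximal.RatV F₀ v →
        Maximal.RatV F₀ (c • e.symm ((g : ((Fin n) → F) ≃ₗ[F] ((Fin n) → F)) (e v))) := by
    intro g
    rw [Maximal.mem_subfieldSubgroup_iff]
    have hX : ∀ (c : F) (v : (Fin n) → F), Matrix.mulVec (c • ((P⁻¹ * Geometry.orthToGL Q g * P :
        Matrix.GeneralLinearGroup (Fin n) F) : Matrix (Fin n) (Fin n) F)) v = c • e.symm ((g : ((Fin n) → F) ≃ₗ[F] ((Fin n) → F)) (e v)) := by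
      intro c v
      rw [Matrix.smul_mulVec, Units.val_mul, Units.val_mul, ← Matrix.mulVec_mulVec, ← Matrix.mulVec_mulVec,
        Geometry.orthToGL_mulVec, hes, he]
    refine exists_congr fun c => and_congr_right fun hc => ⟨fun hr' v hv => hX c v ▸ hr'.mulVec hv,
      fun hr' i j => ?_⟩
    have := hr' _ (Maximal.ratV_single j F₀.one_mem) i
    rwa [← hX, Matrix.mulVec_single_one] at this
  set N' := N.comap (MulAut.conj e).toMonoidHom with hN'
  have hN'le : N' ≤ Geometry.siegelGroup Q' := by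
    have hsub : Geometry.siegelGroup Q ≤ (Geometry.siegelGroup Q').map (MulAut.conj e).toMonoidHom := by
      rw [Geometry.siegelGroup, Subgroup.closure_le]
      rintro _ ⟨z, w, hz, hw, rfl⟩
      refine ⟨Geometry.siegel Q' (e.symm z) (ζ⁻¹ • e.symm w) (by rw [hQ', e.apply_symm_apply, hz, mul_zero])
        (by rw [hpol, map_smul, e.apply_symm_apply, e.apply_symm_apply, Geometry.polar_smul_right', hw]; simp),
        Geometry.siegel_mem _ _ _ _, ?_⟩
      show e * _ * e⁻¹ = _
      rw [hconj]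
      simp [smul_smul, hζ]
    intro x hx
    obtain ⟨y, hy, hye⟩ := hsub (hNle hx)
    exact (MulAut.conj e).injective hye ▸ hy
  have hst : ∀ u w, Maximal.RatV F₀ u → Maximal.RatV F₀ w → OrthMax.SiegIn Q' N' u w := by
    intro u w hu hw h1 h3
    show e * Geometry.siegel Q' u w h1 h3 * e⁻¹ ∈ N
    rw [hconj]
    have hg := Geometry.siegel_mem (e u) (ζ • e w) (hsing u h1) (hperp u w h3)
    refine ⟨⟨_, Geometry.siegelGroup_le_orth hg⟩, ⟨hHM ⟨(hmem _).2 ⟨1, one_ne_zero, fun v hv => ?_⟩, ?_⟩, (hC _).2 hg⟩, rfl⟩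
    · have hv' : e.symm (Geometry.siegel Q (e u) (ζ • e w) (hsing u h1) (hperp u w h3) (e v)) =
          Geometry.siegel Q' u w h1 h3 v := by
        rw [LinearEquiv.symm_apply_eq, ← hconj u w h1 h3]
        show e (Geometry.siegel Q' u w h1 h3 (e.symm (e v))) = _
        rw [LinearEquiv.symm_apply_apply]
      rw [one_smul, hv', Geometry.siegel_apply]
      exact ((Maximal.RatV.sub (fun i => F₀.add_mem (hv i) (F₀.mul_mem (hrat.polar_mem hv hu) (hw i)))
        (hu.smul (hrat.polar_mem hv hw))).sub (hu.smul (F₀.mul_mem (hrat.rat w hw) (hrat.polar_mem hv hu))))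
    · rw [Geometry.omegaGL_eq_map]
      exact Subgroup.mem_map_of_mem _ ((hC _).2 hg)
  have hdich : Geometry.siegelGroup Q' ≤ N' ∨ ∀ g ∈ N', ∃ c : F, c ≠ 0 ∧
      ∀ v, Maximal.RatV F₀ v → Maximal.RatV F₀ (c • g v) := by
    by_cases h2 : (2 : F) = 0
    · haveI : CharP F 2 := CharTwo.of_one_ne_zero_of_two_eq_zero one_ne_zero h2
      exact OrthMax.rat_dichotomy_two hrat hι hst hr hcard hN'le
    · exact OrthMax.rat_dichotomy hrat hst hr hcard h2 (by omega) hN'le
  rcases hdich with htop | hall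
  · refine Or.inr (le_antisymm hMK ?_)
    rw [Geometry.omegaGL_eq_map]
    rintro _ ⟨g, hg, rfl⟩
    have htopN : Geometry.siegelGroup Q ≤ N := by
      rw [Geometry.siegelGroup, Subgroup.closure_le]
      rintro _ ⟨z, w, hz, hw, rfl⟩
      have := htop (Geometry.siegel_mem (e.symm z) (ζ⁻¹ • e.symm w) (show Q' (e.symm z) = 0 by
        rw [hQ', e.apply_symm_apply, hz, mul_zero])
        (show QuadraticMap.polar ⇑Q' (e.symm z) (ζ⁻¹ • e.symm w) = 0 by
          rw [hpol, map_smul, e.apply_symm_apply, e.apply_symm_apply, Geometry.polar_smul_right', hw]; simp))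
      simpa [hN', hconj, smul_smul, hζ] using this
    obtain ⟨g', hg', he'⟩ := htopN ((hC g).1 hg)
    rw [← Subtype.ext he']
    exact hg'.1
  · refine Or.inl (le_antisymm (fun x hx => ?_) hHM)
    have hm' := hMK hx
    rw [Geometry.omegaGL_eq_map] at hm'
    obtain ⟨g, hg, rfl⟩ := hm'
    refine ⟨(hmem g).2 ?_, by rw [Geometry.omegaGL_eq_map]; exact Subgroup.mem_map_of_mem _ hg⟩
    obtain ⟨c, hc, hcv⟩ := hall (e⁻¹ * (g : ((Fin n) → F) ≃ₗ[F] ((Fin n) → F)) * e) (by
      show e * (e⁻¹ * (g : ((Fin n) → F) ≃ₗ[F] ((Fin n) → F)) * e) * e⁻¹ ∈ N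
      rw [show e * (e⁻¹ * (g : ((Fin n) → F) ≃ₗ[F] ((Fin n) → F)) * e) * e⁻¹ = g by group]
      exact ⟨g, ⟨hx, hg⟩, rfl⟩)
    exact ⟨c, hc, hcv⟩


/-- Let F be a finite field with q elements, n ≥ 12 even, Q a non-degenerate quadratic form on F^n of plus type (some subspace of dimension n/2 is totally singular), and Ω the commutator subgroup of the isometry group of Q, viewed inside GL_n(F). Suppose that, through a change of basis P and a bijection of index sets e, the polar form of Q is similar to the tensor product of non-degenerate symplectic forms f₁ on F^(n₁) and f₂ on F^(n₂) with n₁ < n₂, and Q vanishes on the images of all pure tensors. Unless q = 2 and n₁ = 2, the elements of Ω in the stabiliser of this tensor decomposition form a maximal subgroup of Ω. -/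
theorem tensor_sp_maximal {F : Type*} [Field F] [Fintype F] {n : ℕ} (hn : 12 ≤ n) (heven : Even n) (Q : (Fin n → F) → F) (hQ : Cfsg.Geo.IsNondegenerateQuadraticForm Q) (hplus : Cfsg.Geo.IsPlusTypeOn Q ⊤) (n₁ n₂ : ℕ) (h12 : n₁ < n₂) (hex : ¬ (Fintype.card F = 2 ∧ n₁ = 2)) (e : (Fin n) ≃ Fin n₁ × Fin n₂) (P : Matrix.GeneralLinearGroup (Fin n) F) (f₁ : (Fin n₁ → F) → (Fin n₁ → F) → F) (f₂ : (Fin n₂ → F) → (Fin n₂ → F) → F) (hf₁ : Cfsg.Geo.IsSymplecticForm f₁) (hf₂ : Cfsg.Geo.IsSymplecticForm f₂) (hT : Cfsg.Geo.IsTensorFormStructure id (QuadraticMap.polar Q) f₁ f₂ e P) (hpure : (∀ (x₁ : Fin n₁ → F) (x₂ : Fin n₂ → F), Q (Matrix.mulVec (P : Matrix (Fin n) (Fin n) F) ((fun a : Fin n₁ × Fin n₂ => x₁ a.1 * x₂ a.2) ∘ e)) = 0)) : Cfsg.Geo.IsMaximalIn (Cfsg.Geo.omegaGL Q) (Cfsg.Geo.tensorProductSubgroup n₁ n₂ e P ⊓ Cfsg.Geo.omegaGL Q) := by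
  classical
  obtain ⟨Q, rfl, hQn⟩ := Geometry.exists_quadraticForm hQ
  clear hQ
  have hQ := hQn
  obtain ⟨c, hc, hpol⟩ := NotMax.polar_pure hf₁.bilinear hf₂.bilinear hT
  have hcard := Fintype.card_congr e
  simp only [Fintype.card_prod, Fintype.card_fin] at hcard
  have he1 : Even n₁ := by simpa using Aschbacher.even_of_symplectic hf₁
  have he2 : Even n₂ := by simpa using Aschbacher.even_of_symplectic hf₂
  obtain ⟨k₁, hk₁⟩ := he1
  obtain ⟨k₂, hk₂⟩ := he2
  have hn₁ : 2 ≤ n₁ := by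
    rcases Nat.eq_zero_or_pos n₁ with h0 | h0
    · subst h0; omega
    · omega
  have hn₂ : 6 ≤ n₂ := by
    by_contra hlt
    have h2 : n₁ = 2 := by omega
    subst h2
    omega
  have h5 : 5 ≤ Fintype.card (Fin n) := by simp; omega
  have hn : 5 ≤ Module.finrank F ((Fin n) → F) := by simpa using h5
  have hC := fun g => OrthMax.mem_commutator_iff_siegelGroup hQ hn (Q := Q) g
  -- the tensor structure
  let h : TensorSp.TData Q (Fin n₁ → F) (Fin n₂ → F) :=
    { tp := TensorSp.pureMap e P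
      fU := c • TensorSp.bil hf₁.bilinear
      gW := TensorSp.bil hf₂.bilinear
      fAlt := fun x => by simp [TensorSp.bil, hf₁.alternating]
      gAlt := fun x => hf₂.alternating x
      fnd := ⟨fun x hx => (TensorSp.bil_nondeg hf₁).1 x fun y => by simpa [hc] using hx y,
        fun x hx => (TensorSp.bil_nondeg hf₁).2 x fun y => by simpa [hc] using hx y⟩
      gnd := TensorSp.bil_nondeg hf₂
      pol := fun u u' w w' => (hpol u u' w w').trans (mul_assoc _ _ _).symm
      sing := fun u w => hpure u w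
      sep := fun T hT' => hQ.2 T fun y => by
        have hz : (QuadraticMap.polarBilin Q).flip T ∘ₗ Matrix.toLin' (P : Matrix (Fin n) (Fin n) F) = 0 :=
          LinearMap.pi_ext' fun k => LinearMap.ext_ring (by
            show QuadraticMap.polar Q (Matrix.toLin' (P : Matrix (Fin n) (Fin n) F) (Pi.single k 1)) T = 0
            rw [Matrix.toLin'_apply, ← TensorSp.pureVec_single e P k]
            exact hT' _ _)
        have := LinearMap.congr_fun hz (((P⁻¹ : Matrix.GeneralLinearGroup (Fin n) F) : Matrix (Fin n) (Fin n) F).mulVec y)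
        simp only [LinearMap.comp_apply, Matrix.toLin'_apply, Matrix.mulVec_mulVec, Units.mul_inv,
          Matrix.one_mulVec, LinearMap.zero_apply] at this
        exact this }
  refine ⟨lt_of_le_of_ne inf_le_right fun he => not_tensor hQ h5 hn₁ (by omega) e P
    (siegelIn_of_omega_le hQ h5 (inf_eq_right.1 he)), fun M hHM hMK => ?_⟩
  set N := (M.comap (Geometry.orthToGL Q) ⊓ commutator (Geometry.orth Q)).map (Geometry.orth Q).subtype
  have hNle : N ≤ Geometry.siegelGroup Q := by
    rintro _ ⟨g, hg, rfl⟩; exact (hC g).1 hg.2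
  have hin : ∀ (k : (Fin n → F) ≃ₗ[F] (Fin n → F)) (hk : k ∈ Geometry.siegelGroup Q),
      Geometry.orthToGL Q ⟨k, Geometry.siegelGroup_le_orth hk⟩ ∈ Geo.tensorProductSubgroup n₁ n₂ e P →
      k ∈ N := fun k hk hmem =>
    ⟨⟨k, Geometry.siegelGroup_le_orth hk⟩, ⟨hHM ⟨hmem, by
      rw [Geometry.omegaGL_eq_map]; exact Subgroup.mem_map_of_mem _ ((hC _).2 hk)⟩, (hC _).2 hk⟩, rfl⟩
  have hG : h.Gens N := by
    refine ⟨fun k hk => Geometry.siegelGroup_le_orth (hNle hk), fun d s => ?_, fun z s => ?_⟩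
    · obtain ⟨k, hk, ek⟩ := h.tau_siegel d s
      refine ⟨k, hin k hk (TensorSp.mem_tensor_of_pure e P 1
        (TensorSp.tv_unit h.gW h.gAlt d s).unit fun x y => ?_), ek⟩
      rw [Geometry.orthToGL_mulVec, Units.val_one, Matrix.one_mulVec, IsUnit.unit_spec, LinearMap.toMatrix'_mulVec]
      show k (h.tp x y) = h.tp x _
      rw [ek]
      simp [TensorSp.TData.P_apply]
    · obtain ⟨k, hk, ek⟩ := h.swap.tau_siegel z s
      refine ⟨k, hin k hk (TensorSp.mem_tensor_of_pure e P
        (TensorSp.tv_unit h.fU h.fAlt z s).unit 1 fun x y => ?_), ek⟩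
      rw [Geometry.orthToGL_mulVec, Units.val_one, Matrix.one_mulVec, IsUnit.unit_spec, LinearMap.toMatrix'_mulVec]
      show k (h.swap.tp y x) = h.swap.tp y _
      rw [ek]
      simp [TensorSp.TData.P_apply]
      rfl
  haveI : Nonempty (Fin n₁) := ⟨⟨0, by omega⟩⟩
  haveI : Nonempty (Fin n₂) := ⟨⟨0, by omega⟩⟩
  have hμ : 3 ≤ Module.finrank F (Fin n₁ → F) ∨ ∃ μ : F, μ ≠ 0 ∧ μ ≠ 1 := by
    by_cases h3 : 3 ≤ n₁
    · exact Or.inl (by simpa using h3)
    refine Or.inr ?_
    by_contra hno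
    push Not at hno
    refine hex ⟨le_antisymm ?_ (Fintype.one_lt_card), by omega⟩
    calc Fintype.card F = (Finset.univ : Finset F).card := rfl
      _ ≤ ({0, 1} : Finset F).card := Finset.card_le_card fun μ _ => by
            by_cases h0 : μ = 0
            · simp [h0]
            · simp [hno μ h0]
      _ ≤ 2 := Finset.card_le_two
  rcases TensorSp.TData.dichotomy hG hQ (by simp; omega) (by simp; omega) (by simpa using hn₁) hμ with htop | hall
  · refine Or.inr (le_antisymm hMK ?_)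
    rw [Geometry.omegaGL_eq_map]
    rintro _ ⟨g, hg, rfl⟩
    obtain ⟨g', hg', he'⟩ := htop ((hC g).1 hg)
    rw [← Subtype.ext he']
    exact hg'.1
  · refine Or.inl (le_antisymm (fun x hx => ?_) hHM)
    have hm' := hMK hx
    rw [Geometry.omegaGL_eq_map] at hm'
    obtain ⟨g, hg, rfl⟩ := hm'
    refine ⟨TensorSp.mem_tensor_of_lines (by omega) (by omega) e P fun y hy => ?_,
      by rw [Geometry.omegaGL_eq_map]; exact Subgroup.mem_map_of_mem _ hg⟩
    obtain ⟨y', hy', hy''⟩ := hall g ⟨g, ⟨hx, hg⟩, rfl⟩ y hy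
    refine ⟨y', hy', fun x => ?_⟩
    obtain ⟨x', hx'⟩ := hy'' x
    exact ⟨x', by rw [Geometry.orthToGL_mulVec]; exact hx'⟩


/-- Let F be a finite field of odd size, n ≥ 7, Q a non-degenerate quadratic form on F^n and D a decomposition of F^n into two orthogonal non-degenerate subspaces of dimension k ≥ 3 which are not isometric. Then the elements of Ω preserving the decomposition form a maximal subgroup of Ω. -/
theorem decomp_two_nonisometric_maximal {F : Type*} [Field F] [Fintype F] {n : ℕ} (hn : 7 ≤ n) (h2 : (2 : F) ≠ 0) {Q : QuadraticForm F (Fin n → F)} (hQ : (QuadraticMap.polarBilin Q).Nondegenerate) {k : ℕ} (hk : 3 ≤ k) (D : Fin 2 → Submodule F (Fin n → F)) (hD : Cfsg.Geo.IsNondegenerateMDecomposition (QuadraticMap.polar ⇑Q) k D) (hni : ¬ Cfsg.Geo.AreIsometricFor (⇑Q) (D 0) (D 1)) : Cfsg.Geo.IsMaximalIn (Cfsg.Geo.omegaGL ⇑Q) (Cfsg.Geo.decompositionStabilizer D ⊓ Cfsg.Geo.omegaGL ⇑Q) := by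
  classical
  have hd := fun i => hD.decomp.finrank_eq i
  have hsum : k + k = n := by
    have := decomp_card hD
    simp at this; omega
  have hperp : Geometry.polarPerp Q (D 0) = D 1 := by
    refine (Submodule.eq_of_le_of_finrank_eq (fun v hv => Geometry.mem_polarPerp.2 fun u hu =>
      hD.orthogonal 0 1 (by decide) u hu v hv) ?_).symm
    have := Geometry.finrank_polarPerp hQ (D 0)
    simp only [Module.finrank_pi, Fintype.card_fin, hd] at this ⊢
    omega
  have hswap : ∀ (g : (Fin n → F) ≃ₗ[F] (Fin n → F)), g ∈ Geometry.orth Q →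
      (D 0).map g.toLinearMap = D 1 → False := fun g hg hm => by
    refine hni ⟨(g.submoduleMap (D 0)).trans (LinearEquiv.ofEq _ _ hm), fun w => ?_⟩
    exact Geometry.mem_orth.1 hg w
  have heq : Cfsg.Geo.decompositionStabilizer D ⊓ Cfsg.Geo.omegaGL ⇑Q =
      Cfsg.Geo.subspaceStabilizer (D 0) ⊓ Cfsg.Geo.omegaGL ⇑Q := by
    ext m
    simp only [Subgroup.mem_inf]
    refine and_congr_left fun hm => ?_
    rw [Geometry.omegaGL_eq_map] at hm
    obtain ⟨g, -, rfl⟩ := hm
    rw [Aschbacher.mem_subspaceStabilizer_iff]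
    have hap : ∀ i, (D i).map (Matrix.toLin' ((Geometry.orthToGL Q g : Matrix.GeneralLinearGroup (Fin n) F) :
        Matrix (Fin n) (Fin n) F)) = (D i).map (g : (Fin n → F) ≃ₗ[F] (Fin n → F)).toLinearMap := fun i => by
      congr 1
      refine LinearMap.ext fun v => ?_
      rw [Matrix.toLin'_apply, Geometry.orthToGL_mulVec]
      rfl
    constructor
    · rintro ⟨σ, hσ⟩ v hv
      have h0 := (hap 0).symm.trans (hσ 0)
      generalize σ 0 = i at h0
      match i with
      | 1 => exact absurd h0 fun e => hswap _ g.2 e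
      | 0 => rw [Geometry.orthToGL_mulVec]; exact h0.le ⟨v, hv, rfl⟩
    · intro h
      have h0 : (D 0).map (g : (Fin n → F) ≃ₗ[F] (Fin n → F)).toLinearMap = D 0 := by
        refine Submodule.eq_of_le_of_finrank_eq ?_ (LinearEquiv.finrank_map_eq _ _)
        rintro _ ⟨v, hv, rfl⟩
        have := h v hv
        rwa [Geometry.orthToGL_mulVec] at this
      refine ⟨1, fun i => (hap i).trans ?_⟩
      match i with
      | 0 => exact h0
      | 1 =>
        refine Submodule.eq_of_le_of_finrank_eq ?_ (LinearEquiv.finrank_map_eq _ _)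
        rintro _ ⟨v, hv, rfl⟩
        show (g : (Fin n → F) ≃ₗ[F] (Fin n → F)) v ∈ D 1
        rw [← hperp]
        refine Geometry.mem_polarPerp.2 fun u hu => ?_
        obtain ⟨u', hu', rfl⟩ := h0.ge hu
        refine (Geometry.orth_polar g.2 u' v).trans ?_
        exact hD.orthogonal 0 1 (by decide) u' hu' v hv
  rw [heq]
  refine nondeg_maximal_core hQ (Or.inr (Or.inl ⟨h2, by simpa using hn⟩)) (fun e => ?_) (fun e => ?_)
    (nd_of_isNondegenerateOn (hD.nondegenerate 0)) (fun g hg hgU _ => hswap g hg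
      (Submodule.eq_of_le_of_finrank_eq (by rintro _ ⟨u, hu, rfl⟩; exact hperp ▸ hgU u hu)
        (by rw [LinearEquiv.finrank_map_eq, hd, hd])))
    (fun h => by rw [hd] at h; omega) (fun h => by rw [hperp, hd] at h; omega)
  · have := hd 0; rw [e, finrank_bot] at this; omega
  · have := hd 0; rw [e, finrank_top] at this; simp at this; omega

end CfsgLib.OrthMax
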