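import Cfsg.Agent.Lib.OrthMax.Basic

/-! Reflections and Siegel elements of a non-degenerate space act irreducibly, small plus planes aside. -/

set_option autoImplicit false

namespace CfsgLib.OrthMax

open QuadraticMap CfsgLib.Geometry

variable {F V : Type*} [Field F] [AddCommGroup V] [Module F V] [FiniteDimensional F V]
variable {Q : QuadraticForm F V}

theorem card_le_three_of_sq [Finite F] (h : ∀ t : F, t ≠ 0 → t * t = 1) : Nat.card F ≤ 3 := by
  classical
  haveI := Fintype.ofFinite F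
  rw [Nat.card_eq_fintype_card, ← Finset.card_univ]
  refine le_trans (Finset.card_le_card (t := {0, 1, -1}) fun t _ => ?_) Finset.card_le_three
  by_cases ht : t = 0
  · simp [ht]
  rcases mul_self_eq_one_iff.1 (h t ht) with h' | h' <;> simp [h']

theorem finrank_inf_perp_ge (hQ : (polarBilin Q).Nondegenerate) (W X : Submodule F V) :
    Module.finrank F W ≤ Module.finrank F ↥(W ⊓ polarPerp Q X) + Module.finrank F X := by
  have h1 := Submodule.finrank_sup_add_finrank_inf_eq W (polarPerp Q X)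
  have h2 := finrank_polarPerp hQ X
  have h3 := Submodule.finrank_le (W ⊔ polarPerp Q X)
  omega

theorem irreducible [Finite F] (hQ : (polarBilin Q).Nondegenerate) {W : Submodule F V}
    (hW : W ⊓ polarPerp Q W = ⊥)
    (hexc : ¬ (Nat.card F ≤ 3 ∧ Module.finrank F W = 2 ∧ ∃ z ∈ W, z ≠ 0 ∧ Q z = 0))
    {X : Submodule F V} (hXW : X ≤ W) (hX0 : X ≠ ⊥)
    (hrefl : ∀ a ∈ W, ∀ ha : Q a ≠ 0, ∀ x ∈ X, refl Q a ha x ∈ X)
    (hsieg : ∀ e ∈ W, ∀ w ∈ W, ∀ (he : Q e = 0) (hw : polar Q e w = 0), ∀ x ∈ X,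
      siegel Q e w he hw x ∈ X) : W ≤ X := by
  by_contra hne
  set X' := W ⊓ polarPerp Q X with hX'
  have hXX' : ∀ x ∈ X, ∀ y ∈ X', polar Q x y = 0 := fun x hx y hy => mem_polarPerp.1 hy.2 x hx
  have haniso : ∀ a ∈ W, Q a ≠ 0 → a ∈ X ∨ a ∈ X' := fun a ha ha0 => by
    by_cases h : ∃ x ∈ X, polar Q x a ≠ 0
    · obtain ⟨x, hx, hxa⟩ := h
      have h' := X.sub_mem hx (hrefl a ha ha0 x hx)
      rw [refl_apply, sub_sub_cancel] at h'
      have hc : (Q a)⁻¹ * polar Q x a ≠ 0 := mul_ne_zero (inv_ne_zero ha0) hxa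
      left
      have h'' := X.smul_mem ((Q a)⁻¹ * polar Q x a)⁻¹ h'
      rwa [smul_smul, inv_mul_cancel₀ hc, one_smul] at h''
    · push Not at h
      exact Or.inr ⟨ha, mem_polarPerp.2 h⟩
  have hX'0 : X' ≠ ⊥ := fun h => by
    have h1 := finrank_inf_perp_ge hQ W X
    rw [← hX', h, finrank_bot, zero_add] at h1
    exact hne (Submodule.eq_of_le_of_finrank_le hXW h1).ge
  by_cases hR : ∃ r, r ≠ 0 ∧ r ∈ X ∧ r ∈ X'
  · obtain ⟨r, hr0, hrX, hrX'⟩ := hR
    have hrr : 2 * Q r = 0 := by rw [← polar_self']; exact hXX' r hrX r hrX'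
    suffices h : ∃ a ∈ W, Q a ≠ 0 ∧ polar Q a r ≠ 0 by
      obtain ⟨a, ha, ha0, har⟩ := h
      rcases haniso a ha ha0 with h | h
      · exact har (hXX' a h r hrX')
      · exact har (by rw [polar_comm]; exact hXX' r hrX a h)
    obtain ⟨v₀, hv₀, hv₀r⟩ : ∃ v ∈ W, polar Q v r ≠ 0 := by
      by_contra hc
      push Not at hc
      exact hr0 ((Submodule.mem_bot F).1 (hW ▸ (⟨hXW hrX, mem_polarPerp.2 hc⟩ : r ∈ W ⊓ polarPerp Q W)))
    set v := (polar Q v₀ r)⁻¹ • v₀
    have hvW : v ∈ W := W.smul_mem _ hv₀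
    have hvr : polar Q v r = 1 := by simp only [v, polar_smul_left']; exact inv_mul_cancel₀ hv₀r
    clear_value v
    by_cases hv : Q v ≠ 0
    · exact ⟨v, hvW, hv, by rw [hvr]; exact one_ne_zero⟩
    push Not at hv
    by_cases ht : ∃ t : F, t * (1 + t * Q r) ≠ 0
    · obtain ⟨t, ht⟩ := ht
      refine ⟨v + t • r, W.add_mem hvW (W.smul_mem _ (hXW hrX)), ?_, ?_⟩
      · rw [CfsgLib.Geometry.map_add', CfsgLib.Geometry.map_smul', polar_smul_right', hv, hvr]
        exact fun h => ht (by linear_combination h)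
      · rw [polar_add_left, polar_smul_left', polar_self', hrr, hvr]; simp
    push Not at ht
    have hqr : Q r ≠ 0 := fun h => by simpa [h] using ht 1
    have hcard : Nat.card F ≤ 3 := card_le_three_of_sq fun t ht0 => by
      have e1 := (mul_eq_zero.1 (ht t)).resolve_left ht0
      have e2 := (mul_eq_zero.1 (ht 1)).resolve_left one_ne_zero
      have : t = 1 := mul_right_cancel₀ hqr (by linear_combination e1 - e2)
      rw [this, mul_one]
    obtain ⟨z, hzW, hz, hzv, hzr⟩ : ∃ z ∈ W, Q z ≠ 0 ∧ polar Q v z = 0 ∧ polar Q r z = 0 := by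
      by_contra hc
      push Not at hc
      set Y := W ⊓ polarPerp Q (Submodule.span F ({v, r} : Set V))
      have hY : ∀ y ∈ Y, Q y = 0 := fun y hy => by
        by_contra hy0
        exact hc y hy.1 hy0 (mem_polarPerp.1 hy.2 v (Submodule.subset_span (by simp)))
          (mem_polarPerp.1 hy.2 r (Submodule.subset_span (by simp)))
      have hY0 : Y = ⊥ := by
        rw [eq_bot_iff]
        intro y hy
        have hyv : polar Q v y = 0 := mem_polarPerp.1 hy.2 v (Submodule.subset_span (by simp))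
        have hyr : polar Q r y = 0 := mem_polarPerp.1 hy.2 r (Submodule.subset_span (by simp))
        refine hW.le ⟨hy.1, mem_polarPerp.2 fun w hw => ?_⟩
        have hvv : polar Q v v = 0 := by rw [polar_self', hv, mul_zero]
        have hrr' : polar Q r r = 0 := by rw [polar_self', hrr]
        have hw' : w - polar Q w r • v - polar Q w v • r ∈ Y :=
          ⟨W.sub_mem (W.sub_mem hw (W.smul_mem _ hvW)) (W.smul_mem _ (hXW hrX)),
            mem_polarPerp.2 fun s hs => by
              obtain ⟨a, b, rfl⟩ := Submodule.mem_span_pair.1 hs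
              simp only [polar_sub_right, polar_add_left, polar_smul_left', polar_smul_right', hvv,
                hrr', hvr, polar_comm Q r v, polar_comm Q v w, polar_comm Q r w]
              ring⟩
        have := polar_eq_zero_of_singular hY hw' hy
        rw [polar_sub_left, polar_sub_left, polar_smul_left', polar_smul_left', hyv, hyr] at this
        linear_combination this
      have h1 := finrank_inf_perp_ge hQ W (Submodule.span F ({v, r} : Set V))
      have h2 := finrank_pair_le (F := F) v r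
      have h3 : 2 ≤ Module.finrank F W := by
        have hli : LinearIndependent F ![v, r] := LinearIndependent.pair_iff.2 fun a b hab => by
          have e1 := congrArg (fun z => polar Q z r) hab
          have e2 := congrArg (fun z => polar Q z v) hab
          simp only [polar_add_left, polar_smul_left', polar_self', hrr, hv, hvr, polar_comm Q r v,
            polar_zero_left] at e1 e2
          exact ⟨by linear_combination e1, by linear_combination e2⟩
        have h := finrank_span_eq_card hli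
        rw [Matrix.range_cons_cons_empty, Fintype.card_fin] at h
        exact h.ge.trans (Submodule.finrank_mono (Submodule.span_le.2 (by
          rintro x (rfl | rfl)
          exacts [hvW, hXW hrX])))
      change Module.finrank F W ≤ Module.finrank F Y + _ at h1
      rw [hY0, finrank_bot] at h1
      exact hexc ⟨hcard, by omega, v, hvW, fun h => by simp [h, polar_zero_left] at hvr, hv⟩
    refine ⟨v + z, W.add_mem hvW hzW, ?_, ?_⟩
    · rw [CfsgLib.Geometry.map_add', hv, hzv]; simpa using hz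
    · rw [polar_add_left, hvr, polar_comm Q z r, hzr]; simp
  push Not at hR
  have hsum : ∀ x ∈ X, x ≠ 0 → ∀ y ∈ X', y ≠ 0 → Q x + Q y = 0 := fun x hx hx0 y hy hy0 => by
    by_contra h
    have hxy : Q (x + y) ≠ 0 := by rwa [CfsgLib.Geometry.map_add', hXX' x hx y hy, add_zero]
    rcases haniso (x + y) (W.add_mem (hXW hx) hy.1) hxy with h' | h'
    · exact hR y hy0 (by simpa using X.sub_mem h' hx) hy
    · exact hR x hx0 hx (by simpa using X'.sub_mem h' hy)
  obtain ⟨x₀, hx₀, hx₀0⟩ := Submodule.exists_mem_ne_zero_of_ne_bot hX0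
  obtain ⟨y₀, hy₀, hy₀0⟩ := Submodule.exists_mem_ne_zero_of_ne_bot hX'0
  set c := Q x₀
  have hcy : ∀ y ∈ X', y ≠ 0 → Q y = -c := fun y hy hy0 => by
    linear_combination hsum x₀ hx₀ hx₀0 y hy hy0
  have hcx : ∀ x ∈ X, x ≠ 0 → Q x = c := fun x hx hx0 => by
    linear_combination hsum x hx hx0 y₀ hy₀ hy₀0 - hcy y₀ hy₀ hy₀0
  have hc : c ≠ 0 := fun h => by
    have h0 : ∀ x ∈ X, Q x = 0 := fun x hx => by
      by_cases hx0 : x = 0
      · rw [hx0, QuadraticMap.map_zero]
      · rw [hcx x hx hx0, h]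
    exact hR x₀ hx₀0 hx₀ ⟨hXW hx₀, mem_polarPerp.2 fun u hu => polar_eq_zero_of_singular h0 hu hx₀⟩
  have hcard : Nat.card F ≤ 3 := card_le_three_of_sq fun t ht => by
    have h := hcx (t • x₀) (X.smul_mem _ hx₀) (smul_ne_zero ht hx₀0)
    rw [CfsgLib.Geometry.map_smul'] at h
    exact mul_right_cancel₀ hc (h.trans (one_mul c).symm)
  have key : ∀ (Z : Submodule F V) (d : F), (∀ z ∈ Z, z ≠ 0 → Q z = d) → ∀ a ∈ Z, ∀ b ∈ Z, a ≠ 0 →
      b ∉ Submodule.span F {a} → polar Q a b = -d ∧ 2 * d = 0 := by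
    intro Z d hZ a ha b hb ha0 hba
    have hb0 : b ≠ 0 := fun h => hba (h ▸ zero_mem _)
    have e1 := hZ (a + b) (Z.add_mem ha hb) fun h => hba (Submodule.mem_span_singleton.2
      ⟨-1, by rw [neg_one_smul]; exact (eq_neg_of_add_eq_zero_right h).symm⟩)
    have e2 := hZ (a - b) (Z.sub_mem ha hb) fun h => hba (Submodule.mem_span_singleton.2
      ⟨1, by rw [one_smul]; exact sub_eq_zero.1 h⟩)
    rw [CfsgLib.Geometry.map_add', hZ a ha ha0, hZ b hb hb0] at e1
    rw [CfsgLib.Geometry.map_sub', hZ a ha ha0, hZ b hb hb0] at e2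
    exact ⟨by linear_combination e1, by linear_combination e1 + e2⟩
  by_cases h2 : (2 : F) = 0
  · obtain ⟨x₂, hx₂, hx₂a⟩ : ∃ b ∈ X, polar Q b x₀ ≠ 0 := by
      by_contra h
      push Not at h
      exact hR x₀ hx₀0 hx₀ ⟨hXW hx₀, mem_polarPerp.2 h⟩
    obtain ⟨y₂, hy₂, hy₂a⟩ : ∃ b ∈ X', polar Q b y₀ ≠ 0 := by
      by_contra h
      push Not at h
      refine hy₀0 ((Submodule.mem_bot F).1 (hW ▸ (⟨hy₀.1, ?_⟩ : y₀ ∈ W ⊓ polarPerp Q W)))
      have hle : W ≤ X ⊔ X' := by
        have h1 := Submodule.finrank_sup_add_finrank_inf_eq X X'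
        have hd : X ⊓ X' = ⊥ := eq_bot_iff.2 fun z hz =>
          (Submodule.mem_bot F).2 (by_contra fun hz0 => hR z hz0 hz.1 hz.2)
        rw [hd, finrank_bot] at h1
        have h3 := finrank_inf_perp_ge hQ W X
        rw [← hX'] at h3
        have hle' : X ⊔ X' ≤ W := sup_le hXW inf_le_left
        have hfr : Module.finrank F W ≤ Module.finrank F ↥(X ⊔ X') := by omega
        exact (Submodule.eq_of_le_of_finrank_le hle' hfr).ge
      refine mem_polarPerp.2 fun w hw => ?_
      obtain ⟨a, ha, b, hb, rfl⟩ := Submodule.mem_sup.1 (hle hw)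
      rw [polar_add_left, hXX' a ha y₀ hy₀, h b hb, add_zero]
    have nspan : ∀ a b : V, polar Q b a ≠ 0 → b ∉ Submodule.span F {a} := fun a b h hm => by
      obtain ⟨s, rfl⟩ := Submodule.mem_span_singleton.1 hm
      rw [polar_smul_left', polar_self', h2, zero_mul, mul_zero] at h
      exact h rfl
    have ex := (key X c hcx x₀ hx₀ x₂ hx₂ hx₀0 (nspan _ _ hx₂a)).1
    have ey := (key X' (-c) hcy y₀ hy₀ y₂ hy₂ hy₀0 (nspan _ _ hy₂a)).1
    have hz : Q (x₀ + y₀) = 0 := by
      rw [CfsgLib.Geometry.map_add', hXX' x₀ hx₀ y₀ hy₀, add_zero]; exact hsum x₀ hx₀ hx₀0 y₀ hy₀ hy₀0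
    have hzw : polar Q (x₀ + y₀) (x₂ + y₂) = 0 := by
      rw [polar_add_left, polar_add_right, polar_add_right, ex, ey, hXX' x₀ hx₀ y₂ hy₂,
        polar_comm Q y₀ x₂, hXX' x₂ hx₂ y₀ hy₀]; ring
    have h := hsieg _ (W.add_mem (hXW hx₀) hy₀.1) _ (W.add_mem (hXW hx₂) hy₂.1) hz hzw x₀ hx₀
    rw [siegel_apply, polar_add_right, polar_add_right, polar_self', h2, zero_mul, ex,
      hXX' x₀ hx₀ y₀ hy₀, hXX' x₀ hx₀ y₂ hy₂] at h
    have h' : c • y₀ ∈ X := by
      have h'' := X.sub_mem (X.sub_mem h hx₀) (X.smul_mem c hx₀)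
      convert h'' using 1
      module
    refine hR y₀ hy₀0 ?_ hy₀
    simpa [smul_smul, inv_mul_cancel₀ hc] using X.smul_mem c⁻¹ h'
  · have hone : ∀ (Z : Submodule F V) (d : F), d ≠ 0 → (∀ z ∈ Z, z ≠ 0 → Q z = d) →
        ∀ a ∈ Z, a ≠ 0 → Module.finrank F Z ≤ 1 := fun Z d hd hZ a ha ha0 => by
      refine le_trans (Submodule.finrank_mono fun b hb => ?_) (finrank_span_singleton (K := F) ha0).le
      by_contra hba
      exact (mul_ne_zero h2 hd) (key Z d hZ a ha b hb ha0 hba).2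
    have d1 := hone X c hc hcx x₀ hx₀ hx₀0
    have d2 := hone X' (-c) (neg_ne_zero.2 hc) hcy y₀ hy₀ hy₀0
    have d3 := finrank_inf_perp_ge hQ W X
    rw [← hX'] at d3
    have d4 : X < W := lt_of_le_of_ne hXW fun h => hne h.ge
    have d5 := Submodule.finrank_lt_finrank_of_lt d4
    have d6 : 0 < Module.finrank F X := Nat.pos_of_ne_zero fun h => hX0 (Submodule.finrank_eq_zero.1 h)
    refine hexc ⟨hcard, by omega, x₀ + y₀, W.add_mem (hXW hx₀) hy₀.1, fun h => ?_, ?_⟩
    · exact hR x₀ hx₀0 hx₀ (by rw [eq_neg_of_add_eq_zero_left h]; exact X'.neg_mem hy₀)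
    · rw [CfsgLib.Geometry.map_add', hXX' x₀ hx₀ y₀ hy₀, add_zero]; exact hsum x₀ hx₀ hx₀0 y₀ hy₀ hy₀0

end CfsgLib.OrthMax
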