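import Cfsg.Agent.Lib.OrthMax.Nondeg
import Cfsg.Agent.Lib.OrthMax.Bridge
import Cfsg.Agent.Lib.Geometry.AutRootCalc
import Cfsg.Agent.Lib.Geometry.OmegaMore

/-! The stabiliser of a pair of complementary maximal singular subspaces is maximal in `Ω(Q)`. -/

set_option autoImplicit false
set_option linter.unusedSectionVars false
set_option linter.unusedVariables false

namespace CfsgLib.OrthMax

open QuadraticMap CfsgLib.Geometry

variable {F V : Type*} [Field F] [AddCommGroup V] [Module F V] [FiniteDimensional F V]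
variable {Q : QuadraticForm F V} {M : Subgroup (V ≃ₗ[F] V)}

theorem SiegIn.zero (e : V) : SiegIn Q M e 0 := fun he hw => by
  rw [siegel_eq_one (0 : F) he hw (zero_smul F e).symm]; exact one_mem M

theorem SiegIn.neg {e w : V} (h : SiegIn Q M e w) (he : Q e = 0) (hw : polar Q e w = 0) :
    SiegIn Q M e (-w) := fun he' hw' => by
  have h1 : siegel Q e w he hw * siegel Q e (-w) he' hw' = 1 := by
    rw [siegel_mul e w (-w) he hw hw']
    exact siegel_eq_one (0 : F) he _ (by simp)
  rw [eq_inv_of_mul_eq_one_right h1]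
  exact inv_mem (h he hw)

/-- Complementary totally singular subspaces of equal dimension. -/
structure SingPair (Q : QuadraticForm F V) (A B : Submodule F V) : Prop where
  compl : IsCompl A B
  left : ∀ a ∈ A, Q a = 0
  right : ∀ b ∈ B, Q b = 0
  dim : Module.finrank F A = Module.finrank F B

variable {A B : Submodule F V}

theorem SingPair.symm (h : SingPair Q A B) : SingPair Q B A := ⟨h.compl.symm, h.right, h.left, h.dim.symm⟩

theorem SingPair.polar_left (h : SingPair Q A B) {a a' : V} (ha : a ∈ A) (ha' : a' ∈ A) : polar Q a a' = 0 :=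
  polar_eq_zero_of_singular h.left ha ha'

theorem SingPair.split (h : SingPair Q A B) (v : V) : ∃ a ∈ A, ∃ b ∈ B, a + b = v :=
  Submodule.mem_sup.1 (h.compl.sup_eq_top ▸ Submodule.mem_top)

theorem SingPair.split_unique (h : SingPair Q A B) {a a' b b' : V} (ha : a ∈ A) (ha' : a' ∈ A) (hb : b ∈ B)
    (hb' : b' ∈ B) (he : a + b = a' + b') : a = a' ∧ b = b' := by
  have h1 : a - a' = b' - b := by linear_combination (norm := module) he
  have h2 : a - a' ∈ A ⊓ B := ⟨A.sub_mem ha ha', h1 ▸ B.sub_mem hb' hb⟩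
  rw [h.compl.inf_eq_bot, Submodule.mem_bot, sub_eq_zero] at h2
  exact ⟨h2, by rw [h2] at he; exact add_left_cancel he⟩

theorem SingPair.mem_right_of_perp (hQ : (polarBilin Q).Nondegenerate) (h : SingPair Q A B) {v : V}
    (hv : ∀ b ∈ B, polar Q v b = 0) : v ∈ B := by
  obtain ⟨a, ha, b, hb, rfl⟩ := h.split v
  suffices ha0 : a = 0 by rw [ha0, zero_add]; exact hb
  refine hQ.1 a fun x => ?_
  obtain ⟨a', ha', b', hb', rfl⟩ := h.split x
  show polar Q a (a' + b') = 0
  have := hv b' hb'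
  rw [polar_add_left, h.symm.polar_left hb hb', add_zero] at this
  rw [polar_add_right, h.polar_left ha ha', this, add_zero]

/-- A vector of `B` with prescribed pairing. -/
theorem SingPair.exists_dual (hQ : (polarBilin Q).Nondegenerate) (h : SingPair Q A B) (S : Submodule F V)
    (hS : S ≤ A) {x : V} (hx : x ∈ A) (hxS : x ∉ S) (c : F) :
    ∃ b ∈ B, (∀ s ∈ S, polar Q b s = 0) ∧ polar Q b x = c := by
  have hxBS : x ∉ B ⊔ S := by
    intro hm
    obtain ⟨b, hb, s, hs, he⟩ := Submodule.mem_sup.1 hm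
    obtain ⟨h1, -⟩ := h.split_unique hx (hS hs) B.zero_mem hb (by rw [add_zero, add_comm, he])
    exact hxS (h1 ▸ hs)
  obtain ⟨b, hb, hbx⟩ := exists_polar hQ _ hxBS c
  exact ⟨b, h.mem_right_of_perp hQ fun y hy => hb y (Submodule.mem_sup_left hy),
    fun s hs => hb s (Submodule.mem_sup_right hs), hbx⟩

theorem SingPair.siegel_maps (h : SingPair Q A B) {a b : V} (ha : a ∈ A) (hb : b ∈ B) (he : Q a = 0)
    (hw : polar Q a b = 0) :
    (∀ x ∈ A, siegel Q a b he hw x ∈ A) ∧ ∀ x ∈ B, siegel Q a b he hw x ∈ B := by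
  refine ⟨fun x hx => ?_, fun x hx => ?_⟩ <;> rw [siegel_apply, h.right b hb, zero_mul, zero_smul, sub_zero]
  · rw [h.polar_left hx ha, zero_smul, add_zero]
    exact A.sub_mem hx (A.smul_mem _ ha)
  · rw [h.symm.polar_left hx hb, zero_smul, sub_zero]
    exact B.add_mem hx (B.smul_mem _ hb)

/-- A root element whose projection to `A` is two-dimensional gives a root element inside `A`. -/
theorem root_in_left (hQ : (polarBilin Q).Nondegenerate) (h : SingPair Q A B) (hd : 5 ≤ Module.finrank F A)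
    (hle : M ≤ siegelGroup Q) (hAB : ∀ a ∈ A, ∀ b ∈ B, SiegIn Q M a b)
    {u v : V} (hu : Q u = 0) (hv : Q v = 0) (huv : polar Q u v = 0) (hM : SiegIn Q M u v)
    {αu αv βu βv : V} (hαu : αu ∈ A) (hαv : αv ∈ A) (hβu : βu ∈ B) (hβv : βv ∈ B)
    (hu' : αu + βu = u) (hv' : αv + βv = v) (h0 : αu ≠ 0) (hind : αv ∉ Submodule.span F {αu}) :
    ∃ a α, a ∈ A ∧ α ∈ A ∧ a ≠ 0 ∧ α ∉ Submodule.span F {a} ∧ SiegIn Q M a α := by
  set S := Submodule.span F ({αu, αv} : Set V)
  set P := A ⊓ polarPerp Q (Submodule.span F ({βu, βv} : Set V))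
  obtain ⟨a, haP, haS⟩ : ∃ a ∈ P, a ∉ S := by
    refine SetLike.not_le_iff_exists.1 fun hle' => ?_
    have h1 := Submodule.finrank_mono hle'
    have h2 : Module.finrank F S ≤ 2 := finrank_pair_le (F := F) αu αv
    have h3 := finrank_pair_le (F := F) βu βv
    have h4 := finrank_polarPerp hQ (Submodule.span F ({βu, βv} : Set V))
    have h5 := Submodule.finrank_sup_add_finrank_inf_eq A (polarPerp Q (Submodule.span F ({βu, βv} : Set V)))
    have h6 := Submodule.finrank_le (A ⊔ polarPerp Q (Submodule.span F ({βu, βv} : Set V)))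
    change Module.finrank F ↥P ≤ Module.finrank F ↥S at h1
    change _ + Module.finrank F ↥P = _ at h5
    omega
  obtain ⟨ha, haβ⟩ := haP
  have hau : polar Q a u = 0 := by
    rw [← hu', polar_add_right, h.polar_left ha hαu, zero_add, QuadraticMap.polar_comm]
    exact mem_polarPerp.1 haβ βu (Submodule.subset_span (by simp))
  have hav : polar Q a v = 0 := by
    rw [← hv', polar_add_right, h.polar_left ha hαv, zero_add, QuadraticMap.polar_comm]
    exact mem_polarPerp.1 haβ βv (Submodule.subset_span (by simp))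
  have hvS : αv ∉ Submodule.span F ({a, αu} : Set V) := by
    intro hm
    obtain ⟨x, y, hxy⟩ := Submodule.mem_span_pair.1 hm
    by_cases hx : x = 0
    · subst hx
      exact hind (Submodule.mem_span_singleton.2 ⟨y, by simpa using hxy⟩)
    · refine haS (Submodule.mem_span_pair.2 ⟨-(x⁻¹ * y), x⁻¹, ?_⟩)
      rw [← hxy, smul_add, smul_smul, inv_mul_cancel₀ hx, one_smul]; module
  obtain ⟨b, hb, hbS, hbv⟩ := h.exists_dual hQ (Submodule.span F ({a, αu} : Set V))
    (Submodule.span_le.2 (by rintro _ (rfl | rfl); exacts [ha, hαu])) hαv hvS 1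
  have hab : polar Q a b = 0 := by rw [QuadraticMap.polar_comm]; exact hbS a (Submodule.subset_span (by simp))
  have hub : polar Q u b = 0 := by
    rw [← hu', polar_add_left, h.symm.polar_left hβu hb, add_zero, QuadraticMap.polar_comm]
    exact hbS αu (Submodule.subset_span (by simp))
  have hvb : polar Q v b = 1 := by
    rw [← hv', polar_add_left, h.symm.polar_left hβv hb, add_zero, QuadraticMap.polar_comm, hbv]
  have hsM := hAB a ha b hb (h.left a ha) hab
  have hsu : siegel Q a b (h.left a ha) hab u = u := by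
    rw [siegel_apply, QuadraticMap.polar_comm Q u a, hau, hub]; module
  have hsv : siegel Q a b (h.left a ha) hab v = v - a := by
    rw [siegel_apply, QuadraticMap.polar_comm Q v a, hav, hvb]; module
  have h1 := hM.conj hsM (siegelGroup_le_orth (hle hsM))
  rw [hsu, hsv] at h1
  have hua : polar Q u a = 0 := by rw [QuadraticMap.polar_comm, hau]
  have h2 := h1.add (hM.neg hu huv) hu (by rw [polar_sub_right, huv, hua, sub_zero])
    (by rw [polar_neg_right, huv, neg_zero])
  rw [show v - a + -v = -a by abel] at h2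
  -- exchange the two vectors
  have h3 : SiegIn Q M a u := fun he hw => by
    rw [siegel_swap hu (h.left a ha) hua hw (by rw [polar_neg_right, hua, neg_zero])]
    exact h2 hu _
  have haβu : polar Q a (-βu) = 0 := by
    rw [polar_neg_right, QuadraticMap.polar_comm, mem_polarPerp.1 haβ βu (Submodule.subset_span (by simp)), neg_zero]
  have h4 := h3.add (hAB a ha (-βu) (B.neg_mem hβu)) (h.left a ha) hau haβu
  rw [← hu', add_neg_cancel_right] at h4
  have ha0 : a ≠ 0 := fun e => haS (e ▸ Submodule.zero_mem _)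
  refine ⟨a, αu, ha, hαu, ha0, fun hm => ?_, h4⟩
  obtain ⟨c, hc⟩ := Submodule.mem_span_singleton.1 hm
  have hc0 : c ≠ 0 := fun e => h0 (by rw [← hc, e, zero_smul])
  exact haS (Submodule.mem_span_pair.2 ⟨c⁻¹, 0, by rw [← hc, smul_smul, inv_mul_cancel₀ hc0]; simp⟩)

/-- A root element inside `A` makes all points of `A` full. -/
theorem full_left (hQ : (polarBilin Q).Nondegenerate) (h : SingPair Q A B) (hd : 5 ≤ Module.finrank F A)
    (hle : M ≤ siegelGroup Q) (hAB : ∀ a ∈ A, ∀ b ∈ B, SiegIn Q M a b)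
    {a α : V} (ha : a ∈ A) (hα : α ∈ A) (ha0 : a ≠ 0) (hind : α ∉ Submodule.span F {a})
    (hM : SiegIn Q M a α) : ∀ a' ∈ A, Full Q M a' := by
  have haα := h.polar_left ha hα
  set S := Submodule.span F ({a, α} : Set V)
  have hout : ∀ x ∈ A, x ∉ S → SiegIn Q M a (-x) := by
    intro x hx hxS
    have hαS : α ∉ Submodule.span F ({a, x} : Set V) := by
      intro hm
      obtain ⟨c, d, hcd⟩ := Submodule.mem_span_pair.1 hm
      by_cases hd0 : d = 0
      · subst hd0
        exact hind (Submodule.mem_span_singleton.2 ⟨c, by simpa using hcd⟩)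
      · refine hxS (Submodule.mem_span_pair.2 ⟨-(d⁻¹ * c), d⁻¹, ?_⟩)
        rw [← hcd, smul_add, smul_smul, smul_smul, inv_mul_cancel₀ hd0, one_smul]; module
    obtain ⟨b, hb, hbS, hbα⟩ := h.exists_dual hQ (Submodule.span F ({a, x} : Set V))
      (Submodule.span_le.2 (by rintro _ (rfl | rfl); exacts [ha, hx])) hα hαS 1
    have hxb : polar Q x b = 0 := by rw [QuadraticMap.polar_comm]; exact hbS x (Submodule.subset_span (by simp))
    have hsM := hAB x hx b hb (h.left x hx) hxb
    have hsa : siegel Q x b (h.left x hx) hxb a = a := by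
      rw [siegel_apply, h.polar_left ha hx, QuadraticMap.polar_comm Q a b, hbS a (Submodule.subset_span (by simp))]
      module
    have hsα : siegel Q x b (h.left x hx) hxb α = α - x := by
      rw [siegel_apply, h.polar_left hα hx, QuadraticMap.polar_comm Q α b, hbα]
      module
    have h1 := hM.conj hsM (siegelGroup_le_orth (hle hsM))
    rw [hsa, hsα] at h1
    have h2 := h1.add (hM.neg (h.left a ha) haα) (h.left a ha)
      (h.polar_left ha (A.sub_mem hα hx)) (h.polar_left ha (A.neg_mem hα))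
    rwa [show α - x + -α = -x by abel] at h2
  obtain ⟨c, hc, hcS⟩ : ∃ c ∈ A, c ∉ S := by
    refine SetLike.not_le_iff_exists.1 fun hle' => ?_
    have h1 := Submodule.finrank_mono hle'
    have h2 : Module.finrank F S ≤ 2 := finrank_pair_le (F := F) a α
    omega
  have hall : ∀ x ∈ A, SiegIn Q M a x := by
    intro x hx
    by_cases hxS : x ∈ S
    · have h1 := hout (c - x) (A.sub_mem hc hx) (fun hm => hcS (by simpa using S.add_mem hm hxS))
      have h2 := hout (-c) (A.neg_mem hc) (fun hm => hcS (by simpa using S.neg_mem hm))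
      have h3 := h1.add h2 (h.left a ha) (h.polar_left ha (A.neg_mem (A.sub_mem hc hx)))
        (h.polar_left ha (A.neg_mem (A.neg_mem hc)))
      rwa [show -(c - x) + - -c = x by abel] at h3
    · have := hout (-x) (A.neg_mem hx) (fun hm => hxS (by simpa using S.neg_mem hm))
      rwa [neg_neg] at this
  have hfull : Full Q M a := by
    intro w he hw
    obtain ⟨x, hx, y, hy, rfl⟩ := h.split w
    have hy' : polar Q a y = 0 := by rwa [polar_add_right, h.polar_left ha hx, zero_add] at hw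
    exact (hall x hx).add (hAB a ha y hy) he (h.polar_left ha hx) hy' he hw
  intro a' ha'
  by_cases hm : a' ∈ Submodule.span F {a}
  · obtain ⟨t, rfl⟩ := Submodule.mem_span_singleton.1 hm
    exact hfull.smul (h.left a ha) t
  have haS : a ∉ Submodule.span F ({a - a'} : Set V) := fun hs => by
    obtain ⟨t, ht⟩ := Submodule.mem_span_singleton.1 hs
    have ht0 : t ≠ 0 := fun e => ha0 (by rw [← ht, e, zero_smul])
    refine hm (Submodule.mem_span_singleton.2 ⟨(t - 1) * t⁻¹, ?_⟩)
    have h1 : t • a' = (t - 1) • a := by linear_combination (norm := module) -ht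
    rw [mul_comm, mul_smul, ← h1, smul_smul, inv_mul_cancel₀ ht0, one_smul]
  obtain ⟨b, hb, hbS, hba⟩ := h.exists_dual hQ (Submodule.span F ({a - a'} : Set V))
    (Submodule.span_le.2 (by rintro _ rfl; exact A.sub_mem ha ha')) ha haS 1
  have hdb : polar Q (a - a') b = 0 := by
    rw [QuadraticMap.polar_comm]; exact hbS _ (Submodule.mem_span_singleton_self _)
  have hdA : a - a' ∈ A := A.sub_mem ha ha'
  have hsM := hAB _ hdA b hb (h.left _ hdA) hdb
  have := hfull.image hsM (siegelGroup_le_orth (hle hsM))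
  rwa [siegel_apply, h.polar_left ha hdA, QuadraticMap.polar_comm Q a b, hba,
    show a + (0 : F) • b - (1 : F) • (a - a') - (Q b * 0) • (a - a') = a' by module] at this

/-- Images of singular lines meeting both parts. -/
theorem point_left_or_right (hQ : (polarBilin Q).Nondegenerate) (h : SingPair Q A B)
    (hd : 5 ≤ Module.finrank F A) {g : V ≃ₗ[F] V} {x : V} (hx : x ∈ A)
    (hdep : ∀ y ∈ B, polar Q x y = 0 → ∀ α α' β β', α ∈ A → α' ∈ A → β ∈ B → β' ∈ B →
      α + β = g x → α' + β' = g y → (α ≠ 0 → α' ∈ Submodule.span F {α}) ∧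
        (β ≠ 0 → β' ∈ Submodule.span F {β})) :
    g x ∈ A ∨ g x ∈ B := by
  obtain ⟨α, hα, β, hβ, he⟩ := h.split (g x)
  by_contra hne
  push Not at hne
  have hα0 : α ≠ 0 := fun e => hne.2 (by rw [← he, e, zero_add]; exact hβ)
  have hβ0 : β ≠ 0 := fun e => hne.1 (by rw [← he, e, add_zero]; exact hα)
  have hle : (B ⊓ polarPerp Q (Submodule.span F {x})).map g.toLinearMap ≤
      Submodule.span F ({α, β} : Set V) := by
    rintro _ ⟨y, hy, rfl⟩
    obtain ⟨α', hα', β', hβ', he'⟩ := h.split (g y)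
    have hxy : polar Q x y = 0 := mem_polarPerp.1 hy.2 x (Submodule.mem_span_singleton_self x)
    obtain ⟨h1, h2⟩ := hdep y hy.1 hxy α α' β β' hα hα' hβ hβ' he he'
    obtain ⟨c, rfl⟩ := Submodule.mem_span_singleton.1 (h1 hα0)
    obtain ⟨d, rfl⟩ := Submodule.mem_span_singleton.1 (h2 hβ0)
    exact Submodule.mem_span_pair.2 ⟨c, d, he'⟩
  have h1 := Submodule.finrank_mono hle
  rw [LinearEquiv.finrank_map_eq] at h1
  have h2 := finrank_pair_le (F := F) α β
  have h3 := finrank_polarPerp hQ (Submodule.span F {x})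
  have h4 := Submodule.finrank_sup_add_finrank_inf_eq B (polarPerp Q (Submodule.span F {x}))
  have h5 := Submodule.finrank_le (B ⊔ polarPerp Q (Submodule.span F {x}))
  have h6 : Module.finrank F (Submodule.span F {x}) ≤ 1 :=
    (finrank_span_le_card _).trans (by simp)
  have h7 := h.dim
  omega

theorem maps_into_part (h : SingPair Q A B) {g : V ≃ₗ[F] V}
    (hg : ∀ x ∈ A, g x ∈ A ∨ g x ∈ B) : (∀ x ∈ A, g x ∈ A) ∨ ∀ x ∈ A, g x ∈ B := by
  by_contra hne
  push Not at hne
  obtain ⟨⟨x, hx, hxA⟩, y, hy, hyB⟩ := hne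
  have hxB := (hg x hx).resolve_left hxA
  have hyA := (hg y hy).resolve_right hyB
  rcases hg (x + y) (A.add_mem hx hy) with hs | hs
  · exact hxA (by simpa using A.sub_mem hs hyA)
  · exact hyB (by simpa using B.sub_mem hs hxB)

variable [Finite F]

/-- An element of the Siegel group interchanging the parts. -/
theorem exists_pair_swap (hQ : (polarBilin Q).Nondegenerate) (hn : 5 ≤ Module.finrank F V)
    (h : SingPair Q A B) (hev : Even (Module.finrank F A)) :
    ∃ t ∈ siegelGroup Q, (∀ a ∈ A, t a ∈ B) ∧ ∀ b ∈ B, t b ∈ A := by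
  classical
  have hR : reflGroup Q = orth Q := reflGroup_eq_orth hQ (Or.inl (by omega))
  have hV : Module.finrank F V = 2 * Module.finrank F A := by
    rw [← Submodule.finrank_add_eq_of_isCompl h.compl, h.dim]; omega
  let ψ : B →ₗ[F] Module.Dual F A := ((polarBilin Q).comp B.subtype).compl₂ A.subtype
  have hψ : Function.Injective ψ := by
    refine (injective_iff_map_eq_zero ψ).2 fun b hb => ?_
    have hbA : (b : V) ∈ A := h.symm.mem_right_of_perp hQ fun a ha => LinearMap.congr_fun hb ⟨a, ha⟩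
    have : (b : V) ∈ A ⊓ B := ⟨hbA, b.2⟩
    rw [h.compl.inf_eq_bot, Submodule.mem_bot] at this
    exact Subtype.ext this
  let Ψ : B ≃ₗ[F] Module.Dual F A :=
    LinearMap.linearEquivOfInjective ψ hψ (by rw [Subspace.dual_finrank_eq]; exact h.dim.symm)
  let b := Module.finBasis F A
  let τ : A ≃ₗ[F] B := b.toDualEquiv.trans Ψ.symm
  have hτ : ∀ a a' : A, polar Q (τ a : V) (a' : V) = b.toDual a a' := fun a a' => by
    have : ψ (τ a) = b.toDual a := Ψ.apply_symm_apply (b.toDual a)
    exact LinearMap.congr_fun this a'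
  have hsym : ∀ a a' : A, b.toDual a a' = b.toDual a' a := fun a a' => by
    rw [← b.sum_repr a', map_sum, map_sum, LinearMap.sum_apply]
    refine Finset.sum_congr rfl fun i _ => ?_
    rw [map_smul, map_smul, LinearMap.smul_apply, b.toDual_apply_right, b.toDual_apply_left]
  let E := Submodule.prodEquivOfIsCompl A B h.compl
  let t₀ : V ≃ₗ[F] V := E.symm.trans (((LinearEquiv.prodComm F A B).trans (τ.symm.prodCongr τ)).trans E)
  have ht : ∀ (a : A) (c : B), t₀ ((a : V) + (c : V)) = (τ.symm c : V) + (τ a : V) := fun a c => by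
    have he : E.symm ((a : V) + (c : V)) = (a, c) := by
      rw [LinearEquiv.symm_apply_eq]; simp [E]
    simp [t₀, he, E]
  have htA : ∀ a ∈ A, t₀ a ∈ B := fun a ha => by
    have := ht ⟨a, ha⟩ 0
    simp at this
    rw [this]; exact (τ ⟨a, ha⟩).2
  have htB : ∀ c ∈ B, t₀ c ∈ A := fun c hc => by
    have := ht 0 ⟨c, hc⟩
    simp at this
    rw [this]; exact (τ.symm ⟨c, hc⟩).2
  have hto : t₀ ∈ orth Q := mem_orth.2 fun v => by
    obtain ⟨a, ha, c, hc, rfl⟩ := h.split v
    rw [show a + c = ((⟨a, ha⟩ : A) : V) + ((⟨c, hc⟩ : B) : V) from rfl, ht, CfsgLib.Geometry.map_add',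
      CfsgLib.Geometry.map_add', h.left _ (τ.symm _).2, h.right _ (τ _).2, h.left _ ha, h.right _ hc]
    simp only [zero_add]
    rw [QuadraticMap.polar_comm, hτ, hsym, ← hτ, LinearEquiv.apply_symm_apply, QuadraticMap.polar_comm]
  set t : orth Q := ⟨t₀, hto⟩
  have hmap : A.map t₀.toLinearMap = B := Submodule.eq_of_le_of_finrank_le
    (by rintro _ ⟨a, ha, rfl⟩; exact htA a ha) (by rw [LinearEquiv.finrank_map_eq, h.dim])
  have hdick : (orthInvariant hQ hR t).2 = 1 := by
    refine (maxSing_class_iff hQ hR hV (U := A) ⟨rfl, h.left⟩ t).1 ?_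
    rw [show A.map (t : V ≃ₗ[F] V).toLinearMap = B from hmap, h.compl.inf_eq_bot, finrank_bot, Nat.sub_zero]
    exact hev
  have hA0 : A ≠ ⊥ := fun e => by rw [e, finrank_bot] at hV; omega
  obtain ⟨e, he, he0⟩ := Submodule.exists_mem_ne_zero_of_ne_bot hA0
  obtain ⟨f, hf, -, hfe⟩ := h.exists_dual hQ ⊥ bot_le he
    (fun hm => he0 ((Submodule.mem_bot F).1 hm)) 1
  obtain ⟨d, hd⟩ := sqHom_surjective (F := F) (orthInvariant hQ hR t).1⁻¹
  obtain ⟨s, hs, hsx⟩ := exists_pair_scale hQ hR (h.left e he) (h.right f hf)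
    (by rw [QuadraticMap.polar_comm]; exact hfe) d.ne_zero
  refine ⟨((s * t : orth Q) : V ≃ₗ[F] V), (mem_commutator_iff_siegelGroup hQ hn _).1
    ((mem_commutator_orth_iff hQ hR _).2 ?_), fun a ha => ?_, fun c hc => ?_⟩
  · rw [map_mul, hs, sqMk, Units.mk0_val, hd]
    refine Prod.ext (inv_mul_cancel _) ?_
    show 1 * (orthInvariant hQ hR t).2 = 1
    rw [hdick, one_mul]
  · show (s : V ≃ₗ[F] V) (t₀ a) ∈ B
    rw [hsx, h.symm.polar_left (htA a ha) hf, mul_zero, zero_smul, add_zero]
    exact B.add_mem (htA a ha) (B.smul_mem _ hf)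
  · show (s : V ≃ₗ[F] V) (t₀ c) ∈ A
    rw [hsx, h.polar_left (htB c hc) he, mul_zero, zero_smul, add_zero]
    exact A.add_mem (htB c hc) (A.smul_mem _ he)

/-- `g` fixes or interchanges `A` and `B`. -/
def KeepsPair (A B : Submodule F V) (g : V ≃ₗ[F] V) : Prop :=
  ((∀ a ∈ A, g a ∈ A) ∧ ∀ b ∈ B, g b ∈ B) ∨ ((∀ a ∈ A, g a ∈ B) ∧ ∀ b ∈ B, g b ∈ A)

theorem pair_stab_max (hQ : (polarBilin Q).Nondegenerate) (h : SingPair Q A B)
    (hd : 5 ≤ Module.finrank F A) (hev : Even (Module.finrank F A)) (hle : M ≤ siegelGroup Q)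
    (hst : ∀ g ∈ siegelGroup Q, KeepsPair A B g → g ∈ M) (hne : ∃ g ∈ M, ¬ KeepsPair A B g) :
    siegelGroup Q ≤ M := by
  have hn : 5 ≤ Module.finrank F V := by have := Submodule.finrank_le A; omega
  obtain ⟨t, ht, htA, htB⟩ := exists_pair_swap hQ hn h hev
  have htM : t ∈ M := hst t ht (Or.inr ⟨htA, htB⟩)
  have hto := siegelGroup_le_orth ht
  have hAB : ∀ a ∈ A, ∀ b ∈ B, SiegIn Q M a b := fun a ha b hb he hw =>
    hst _ (siegel_mem a b he hw) (Or.inl (h.siegel_maps ha hb he hw))
  have hBA : ∀ b ∈ B, ∀ a ∈ A, SiegIn Q M b a := fun b hb a ha he hw => by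
    obtain ⟨h1, h2⟩ := h.symm.siegel_maps hb ha he hw
    exact hst _ (siegel_mem b a he hw) (Or.inl ⟨h2, h1⟩)
  suffices hfull : ∃ a ∈ A, a ≠ 0 ∧ Full Q M a ∧ ∀ x ∈ A, Full Q M x by
    obtain ⟨a, ha, ha0, haF, hall⟩ := hfull
    have hta0 : t a ≠ 0 := fun e => ha0 (t.map_eq_zero_iff.1 e)
    obtain ⟨e, he, -, hee⟩ := h.symm.exists_dual hQ ⊥ bot_le (htA a ha)
      (fun hm => hta0 ((Submodule.mem_bot F).1 hm)) 1
    exact siegelGroup_le_of_full hQ (h.left e he) (h.right _ (htA a ha)) hee (hall e he)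
      (haF.image htM hto)
  suffices hroot : ∃ a α, a ∈ A ∧ α ∈ A ∧ a ≠ 0 ∧ α ∉ Submodule.span F {a} ∧ SiegIn Q M a α by
    obtain ⟨a, α, ha, hα, ha0, hind, hM⟩ := hroot
    have hall := full_left hQ h hd hle hAB ha hα ha0 hind hM
    exact ⟨a, ha, ha0, hall a ha, hall⟩
  by_contra hno
  have hnoB : ¬ ∃ b β, b ∈ B ∧ β ∈ B ∧ b ≠ 0 ∧ β ∉ Submodule.span F {b} ∧ SiegIn Q M b β := by
    rintro ⟨b, β, hb, hβ, hb0, hind, hM⟩
    refine hno ⟨t b, t β, htB b hb, htB β hβ, fun e => hb0 (t.map_eq_zero_iff.1 e), fun hm => ?_,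
      hM.conj htM hto⟩
    obtain ⟨c, hc⟩ := Submodule.mem_span_singleton.1 hm
    exact hind (Submodule.mem_span_singleton.2 ⟨c, t.injective (by rw [map_smul, hc])⟩)
  obtain ⟨g, hg, hgk⟩ := hne
  have hgo := siegelGroup_le_orth (hle hg)
  have hdep : ∀ x y, SiegIn Q M x y → Q x = 0 → Q y = 0 → polar Q x y = 0 →
      ∀ α α' β β', α ∈ A → α' ∈ A → β ∈ B → β' ∈ B →
      α + β = g x → α' + β' = g y → (α ≠ 0 → α' ∈ Submodule.span F {α}) ∧
        (β ≠ 0 → β' ∈ Submodule.span F {β}) := by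
    intro x y hxy hx hy hp α α' β β' hα hα' hβ hβ' he he'
    have hgx : Q (g x) = 0 := by rw [mem_orth.1 hgo, hx]
    have hgy : Q (g y) = 0 := by rw [mem_orth.1 hgo, hy]
    have hgp : polar Q (g x) (g y) = 0 := by rw [orth_polar hgo, hp]
    refine ⟨fun h0 => ?_, fun h0 => ?_⟩ <;> by_contra hind
    · exact hno (root_in_left hQ h hd hle hAB hgx hgy hgp (hxy.conj hg hgo) hα hα' hβ hβ' he he' h0 hind)
    · exact hnoB (root_in_left hQ h.symm (h.dim ▸ hd) hle hBA hgx hgy hgp (hxy.conj hg hgo) hβ hβ' hα hα'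
        (by rw [add_comm]; exact he) (by rw [add_comm]; exact he') h0 hind)
  have hA := maps_into_part h fun x hx => point_left_or_right hQ h hd hx fun y hy hxy =>
    hdep x y (hAB x hx y hy) (h.left x hx) (h.right y hy) hxy
  have hB := maps_into_part h.symm (g := g) fun x hx =>
    point_left_or_right hQ h.symm (h.dim ▸ hd) hx fun y hy hxy α α' β β' hα hα' hβ hβ' he he' =>
      (hdep x y (hBA x hx y hy) (h.right x hx) (h.left y hy) hxy β β' α α' hβ hβ' hα hα'
        (by rw [add_comm]; exact he) (by rw [add_comm]; exact he')).symm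
  have hmix : ∀ C : Submodule F V, C ≠ ⊤ → (∀ a ∈ A, g a ∈ C) → (∀ b ∈ B, g b ∈ C) → False := by
    intro C hC h1 h2
    refine hC (Submodule.eq_top_iff'.2 fun v => ?_)
    obtain ⟨a, ha, b, hb, he⟩ := h.split (g.symm v)
    rw [← g.apply_symm_apply v, ← he, map_add]
    exact C.add_mem (h1 a ha) (h2 b hb)
  have hdV : Module.finrank F A + Module.finrank F B = Module.finrank F V :=
    Submodule.finrank_add_eq_of_isCompl h.compl
  rcases hA with hA | hA <;> rcases hB with hB | hB
  · exact hgk (Or.inl ⟨hA, hB⟩)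
  · exact hmix A (fun e => by rw [e, finrank_top] at hd hdV; have := h.dim; rw [e, finrank_top] at this; omega) hA hB
  · exact hmix B (fun e => by have := h.dim; rw [e, finrank_top] at this hdV; omega) hA hB
  · exact hgk (Or.inr ⟨hA, hB⟩)

end CfsgLib.OrthMax
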