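import Cfsg.Agent.Lib.OrthMax.DecompBasic
import Cfsg.Agent.Lib.Maximal.RatBasic

/-! Quadratic forms with values in a subfield on rational vectors. -/

set_option autoImplicit false
set_option linter.unusedSectionVars false
set_option linter.unusedSimpArgs false
set_option linter.style.haveILetI false

namespace CfsgLib.OrthMax

open QuadraticMap CfsgLib.Geometry CfsgLib.Maximal

variable {F : Type*} [Field F] [Finite F] {ι : Type} [Fintype ι] [DecidableEq ι]
variable {Q : QuadraticForm F (ι → F)} {F₀ : Subfield F}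

/-- The standard structure over the subfield carries the form. -/
structure RatQ (Q : QuadraticForm F (ι → F)) (F₀ : Subfield F) : Prop where
  nd : (polarBilin Q).Nondegenerate
  rat : ∀ u, RatV F₀ u → Q u ∈ F₀

namespace RatQ

variable (h : RatQ Q F₀)

include h

theorem polar_mem {u v : ι → F} (hu : RatV F₀ u) (hv : RatV F₀ v) : polar Q u v ∈ F₀ :=
  F₀.sub_mem (F₀.sub_mem (h.rat _ fun i => F₀.add_mem (hu i) (hv i)) (h.rat u hu)) (h.rat v hv)

theorem eq_zero {v : ι → F} (hv : ∀ u, RatV F₀ u → polar Q v u = 0) : v = 0 := by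
  refine h.nd.1 v fun x => ?_
  show polarBilin Q v x = 0
  rw [pi_eq_sum_univ' x, map_sum]
  refine Finset.sum_eq_zero fun i _ => ?_
  rw [map_smul, polarBilin_apply_apply, hv _ (ratV_single i F₀.one_mem), smul_zero]

theorem mem_of_dual {v : ι → F} (hv : ∀ u, RatV F₀ u → polar Q v u ∈ F₀) : RatV F₀ v := by
  haveI : Finite F₀ := inferInstance
  let f : (ι → F₀) → (ι → F₀) := fun u j =>
    ⟨polar Q (fun i => (u i : F)) (Pi.single j 1), h.polar_mem (fun i => (u i).2) (ratV_single j F₀.one_mem)⟩
  have key : ∀ a b : ι → F, (∀ j, polar Q a (Pi.single j 1) = polar Q b (Pi.single j 1)) → a = b := by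
    intro a b hab
    refine sub_eq_zero.1 (h.nd.1 _ fun x => ?_)
    show polarBilin Q (a - b) x = 0
    rw [pi_eq_sum_univ' x, map_sum]
    refine Finset.sum_eq_zero fun i _ => ?_
    rw [map_smul, polarBilin_apply_apply, polar_sub_left, hab, sub_self, smul_zero]
  have hf : Function.Injective f := fun a b hab => by
    have := key (fun i => (a i : F)) (fun i => (b i : F)) fun j => congrArg Subtype.val (congrFun hab j)
    exact funext fun i => Subtype.ext (congrFun this i)
  obtain ⟨u, hu⟩ := Finite.surjective_of_injective hf fun j => ⟨polar Q v (Pi.single j 1), hv _ (ratV_single j F₀.one_mem)⟩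
  have := key (fun i => (u i : F)) v fun j => congrArg Subtype.val (congrFun hu j)
  rw [← this]
  exact fun i => (u i).2

/-- The form on the structure over the subfield. -/
noncomputable def res : QuadraticForm F₀ (ι → F₀) :=
  QuadraticMap.ofPolar (fun u => ⟨Q (fun i => (u i : F)), h.rat _ fun i => (u i).2⟩)
    (fun a u => Subtype.ext (by
      show Q (fun i => ((a • u) i : F)) = (a : F) * a * Q (fun i => (u i : F))
      rw [← CfsgLib.Geometry.map_smul']
      rfl))
    (fun x x' y => Subtype.ext (by
      show polar Q (fun i => (x i : F) + (x' i : F)) (fun i => (y i : F)) =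
        polar Q (fun i => (x i : F)) (fun i => (y i : F)) + polar Q (fun i => (x' i : F)) (fun i => (y i : F))
      exact polar_add_left Q _ _ _))
    (fun a x y => Subtype.ext (by
      show polar Q (fun i => (a : F) * (x i : F)) (fun i => (y i : F)) =
        (a : F) * polar Q (fun i => (x i : F)) (fun i => (y i : F))
      exact polar_smul_left' Q (a : F) (fun i => (x i : F)) (fun i => (y i : F))))

theorem res_polar (u v : ι → F₀) : ((polar h.res u v : F₀) : F) = polar Q (fun i => (u i : F)) (fun i => (v i : F)) :=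
  rfl

theorem res_nd : (polarBilin h.res).Nondegenerate := by
  have key : ∀ u : ι → F₀, (∀ v, polar h.res u v = 0) → u = 0 := fun u hu => by
    have : (fun i => (u i : F)) = 0 := h.eq_zero fun w hw => by
      have := congrArg Subtype.val (hu fun i => ⟨w i, hw i⟩)
      exact this
    exact funext fun i => Subtype.ext (congrFun this i)
  exact ⟨key, fun u hu => key u fun v => by rw [QuadraticMap.polar_comm]; exact hu v⟩

/-- A rational hyperbolic pair orthogonal to a few rational vectors. -/
theorem exists_pair {k : ℕ} (s : Fin k → ι → F) (hs : ∀ j, RatV F₀ (s j)) (hk : 2 * k + 3 ≤ Fintype.card ι) :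
    ∃ e f : ι → F, RatV F₀ e ∧ RatV F₀ f ∧ Q e = 0 ∧ Q f = 0 ∧ polar Q e f = 1 ∧
      ∀ j, polar Q (s j) e = 0 ∧ polar Q (s j) f = 0 := by
  let s' : Fin k → ι → F₀ := fun j i => ⟨s j i, hs j i⟩
  have hS : Module.finrank F₀ (Submodule.span F₀ (Set.range s')) ≤ k :=
    (finrank_range_le_card s').trans (by simp)
  obtain ⟨e, f, -, -, he, hf, hef, h1, h2⟩ := OrthMax.exists_pair_perp h.res_nd (U := ⊤) (by
      rw [eq_bot_iff]
      rintro x ⟨-, hx⟩
      exact h.res_nd.2 x fun y => mem_polarPerp.1 hx y trivial) (Submodule.span F₀ (Set.range s')) (by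
      rw [finrank_top, Module.finrank_fintype_fun_eq_card]; omega)
  refine ⟨fun i => (e i : F), fun i => (f i : F), fun i => (e i).2, fun i => (f i).2, congrArg Subtype.val he,
    congrArg Subtype.val hf, congrArg Subtype.val hef, fun j => ⟨?_, ?_⟩⟩
  · exact congrArg Subtype.val (h1 _ (Submodule.subset_span ⟨j, rfl⟩))
  · exact congrArg Subtype.val (h2 _ (Submodule.subset_span ⟨j, rfl⟩))

/-- A rational hyperbolic pair orthogonal to rational vectors with non-degenerate products. -/
theorem exists_pair_nd {k : ℕ} (s : Fin k → ι → F) (hs : ∀ j, RatV F₀ (s j)) (hk : k + 3 ≤ Fintype.card ι)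
    (hnd : ∀ c : Fin k → F, (∀ j, polar Q (∑ i, c i • s i) (s j) = 0) → c = 0) :
    ∃ e f : ι → F, RatV F₀ e ∧ RatV F₀ f ∧ Q e = 0 ∧ Q f = 0 ∧ polar Q e f = 1 ∧
      ∀ j, polar Q (s j) e = 0 ∧ polar Q (s j) f = 0 := by
  let s' : Fin k → ι → F₀ := fun j i => ⟨s j i, hs j i⟩
  set S := Submodule.span F₀ (Set.range s') with hS
  have hSS : S ⊓ polarPerp h.res S = ⊥ := by
    rw [eq_bot_iff]
    rintro x ⟨hx, hx'⟩
    obtain ⟨c, rfl⟩ := (Submodule.mem_span_range_iff_exists_fun F₀).1 hx
    have e : (fun i => ((∑ j, c j • s' j) i : F)) = ∑ j, (c j : F) • s j := funext fun i => by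
      simp [s', Finset.sum_apply]
    have hc := hnd (fun j => (c j : F)) fun j => by
      have h0 : polar h.res (∑ i, c i • s' i) (s' j) = 0 := by
        rw [QuadraticMap.polar_comm]; exact mem_polarPerp.1 hx' _ (Submodule.subset_span ⟨j, rfl⟩)
      have := congrArg Subtype.val h0
      rw [h.res_polar, e] at this
      exact this
    have hc' : ∀ j, c j = 0 := fun j => Subtype.ext (congrFun hc j)
    simp [hc']
  have hd := finrank_polarPerp h.res_nd S
  have hS' : Module.finrank F₀ S ≤ k := (finrank_range_le_card s').trans (by simp)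
  obtain ⟨e, f, he', hf', he, hf, hef⟩ := OrthMax.exists_pair_of_radical (Q := h.res) (polarPerp h.res S) (by
    rw [inf_polarPerp_perp h.res_nd hSS, finrank_bot]
    rw [Module.finrank_fintype_fun_eq_card] at hd
    omega)
  refine ⟨fun i => (e i : F), fun i => (f i : F), fun i => (e i).2, fun i => (f i).2, congrArg Subtype.val he,
    congrArg Subtype.val hf, congrArg Subtype.val hef, fun j => ⟨?_, ?_⟩⟩
  · exact congrArg Subtype.val (mem_polarPerp.1 he' _ (Submodule.subset_span ⟨j, rfl⟩))
  · exact congrArg Subtype.val (mem_polarPerp.1 hf' _ (Submodule.subset_span ⟨j, rfl⟩))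

/-- A non-zero rational vector orthogonal to fewer vectors than the dimension. -/
theorem exists_perp_vec {k : ℕ} (s : Fin k → ι → F) (hs : ∀ j, RatV F₀ (s j)) (hk : k < Fintype.card ι) :
    ∃ z : ι → F, RatV F₀ z ∧ z ≠ 0 ∧ ∀ j, polar Q (s j) z = 0 := by
  let s' : Fin k → ι → F₀ := fun j i => ⟨s j i, hs j i⟩
  have h1 := finrank_polarPerp h.res_nd (Submodule.span F₀ (Set.range s'))
  have h2 : Module.finrank F₀ (Submodule.span F₀ (Set.range s')) ≤ k := (finrank_range_le_card s').trans (by simp)
  rw [Module.finrank_fintype_fun_eq_card] at h1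
  obtain ⟨z, hz, hz0⟩ := Submodule.exists_mem_ne_zero_of_ne_bot
    (p := polarPerp h.res (Submodule.span F₀ (Set.range s'))) fun e => by rw [e, finrank_bot] at h1; omega
  exact ⟨fun i => (z i : F), fun i => (z i).2, fun e => hz0 (funext fun i => Subtype.ext (congrFun e i)),
    fun j => congrArg Subtype.val (mem_polarPerp.1 hz _ (Submodule.subset_span ⟨j, rfl⟩))⟩

/-- A rational singular partner orthogonal to given rational vectors. -/
theorem exists_partner {k : ℕ} {a : ι → F} (ha : RatV F₀ a) (hQa : Q a = 0) (s : Fin k → ι → F)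
    (hs : ∀ j, RatV F₀ (s j)) (has : ∀ j, polar Q a (s j) = 0)
    (hind : a ∉ Submodule.span F (Set.range s)) :
    ∃ f : ι → F, RatV F₀ f ∧ Q f = 0 ∧ polar Q a f = 1 ∧ ∀ j, polar Q f (s j) = 0 := by
  let a' : ι → F₀ := fun i => ⟨a i, ha i⟩
  let s' : Fin k → ι → F₀ := fun j i => ⟨s j i, hs j i⟩
  have hn : a' ∉ Submodule.span F₀ (Set.range s') := fun hm => hind (by
    obtain ⟨c, hc⟩ := (Submodule.mem_span_range_iff_exists_fun F₀).1 hm
    refine (Submodule.mem_span_range_iff_exists_fun F).2 ⟨fun j => (c j : F), funext fun i => ?_⟩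
    have := congrArg Subtype.val (congrFun hc i)
    simpa [a', s', Finset.sum_apply] using this)
  obtain ⟨f, hf, haf, hfs⟩ := Geometry.exists_partner h.res_nd _ hn (Subtype.ext hQa) fun z hz => by
    induction hz using Submodule.span_induction with
    | mem y hy => obtain ⟨j, rfl⟩ := hy; exact Subtype.ext (has j)
    | zero => exact polar_zero_right _ _
    | add y z _ _ hy hz => rw [polar_add_right, hy, hz, add_zero]
    | smul r y _ hy => rw [polar_smul_right', hy, mul_zero]
  exact ⟨fun i => (f i : F), fun i => (f i).2, congrArg Subtype.val hf, congrArg Subtype.val haf,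
    fun j => congrArg Subtype.val (hfs _ (Submodule.subset_span ⟨j, rfl⟩))⟩

variable {M : Subgroup ((ι → F) ≃ₗ[F] (ι → F))}

/-- A complete root group over a rational line spreads to a whole point group. -/
theorem full_of_root (hn : 7 ≤ Fintype.card ι)
    (hst : ∀ u w, RatV F₀ u → RatV F₀ w → SiegIn Q M u w) {a b : ι → F}
    (ha : RatV F₀ a) (hb : RatV F₀ b) (hQa : Q a = 0) (hQb : Q b = 0) (hab : polar Q a b = 0)
    (hbi : b ∉ Submodule.span F {a}) (ha0 : a ≠ 0) (hR : RootIn Q M a b) :
    (∀ v, RatV F₀ v → polar Q a v = 0 → RootIn Q M a v) ∧ Full Q M a := by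
  obtain ⟨p, hp, hQp, hbp, hpa⟩ := h.exists_partner hb hQb ![a] (fun j => by simpa using ha)
    (fun j => by simp [QuadraticMap.polar_comm Q b a, hab]) (by simpa [Matrix.range_cons, Matrix.range_empty] using hbi)
  have hap : polar Q a p = 0 := by have := hpa 0; rw [QuadraticMap.polar_comm] at this; simpa using this
  have step : ∀ w, RatV F₀ w → polar Q p w = 0 → polar Q a w = 0 → polar Q b w = 0 →
      RootIn Q M a (w - Q w • p) := by
    intro w hw hpw haw hbw
    refine hR.diff (hst p w hp hw hQp hpw) (siegel_mem_orth Q p w hQp hpw) hQa hab ?_ ?_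
    · rw [siegel_apply, hap, haw]; simp
    · rw [siegel_apply, hbp, hbw]; module
  obtain ⟨a₁, ha₁, hQa₁, haa₁, ha₁p⟩ := h.exists_partner ha hQa ![b, p]
    (fun j => by fin_cases j <;> simp [hb, hp]) (fun j => by fin_cases j <;> simp [hab, hap]) (fun hm => ha0 (by
      obtain ⟨c, hc⟩ := (Submodule.mem_span_range_iff_exists_fun F).1 hm
      simp only [Fin.sum_univ_two, Matrix.cons_val_zero, Matrix.cons_val_one, Matrix.head_cons] at hc
      have e1 := congrArg (polar Q p) hc
      have e2 := congrArg (polar Q b) hc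
      simp only [polar_add_right, polar_smul_right', polar_self', hQp, hQb, hbp, QuadraticMap.polar_comm Q p b,
        QuadraticMap.polar_comm Q p a, hap, QuadraticMap.polar_comm Q b a, hab] at e1 e2
      ring_nf at e1 e2
      rw [← hc, e1, e2, zero_smul, zero_smul, add_zero]))
  have ha₁b : polar Q a₁ b = 0 := by simpa using ha₁p 0
  have ha₁p' : polar Q a₁ p = 0 := by simpa using ha₁p 1
  obtain ⟨e, f, he, hf, hQe, hQf, hef, hperp⟩ := h.exists_pair_nd ![a, b, p, a₁]
    (fun j => by fin_cases j <;> simp [ha, hb, hp, ha₁]) (by omega) (fun c hc => by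
      have h0 := hc 0
      have h1 := hc 1
      have h2 := hc 2
      have h3 := hc 3
      simp [Fin.sum_univ_four, polar_add_left, polar_smul_left', polar_self', hQa, hQb, hQp, hQa₁, hab, hap,
        hbp, haa₁, ha₁b, ha₁p', QuadraticMap.polar_comm Q b a, QuadraticMap.polar_comm Q p a,
        QuadraticMap.polar_comm Q p b, QuadraticMap.polar_comm Q a₁ a, QuadraticMap.polar_comm Q b a₁,
        QuadraticMap.polar_comm Q p a₁] at h0 h1 h2 h3
      funext j; fin_cases j <;> simp [h0, h1, h2, h3])
  have hae := hperp 0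
  have hbe := hperp 1
  have hpe := hperp 2
  simp only [Matrix.cons_val_zero, Matrix.cons_val_one, Matrix.cons_val_two, Matrix.head_cons,
    Matrix.tail_cons] at hae hbe hpe
  have h1 := step e he hpe.1 hae.1 hbe.1
  have h2 := step f hf hpe.2 hae.2 hbe.2
  have h3 := step (e + f) (fun i => F₀.add_mem (he i) (hf i)) (by rw [polar_add_right, hpe.1, hpe.2, add_zero])
    (by rw [polar_add_right, hae.1, hae.2, add_zero]) (by rw [polar_add_right, hbe.1, hbe.2, add_zero])
  rw [hQe, zero_smul, sub_zero] at h1
  rw [hQf, zero_smul, sub_zero] at h2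
  rw [CfsgLib.Geometry.map_add', hQe, hQf, hef, zero_add, zero_add, one_smul] at h3
  have memR : ∀ {x}, polar Q a x = 0 → RootIn Q M a x → x ∈ rootSpace Q M hQa := fun h1 h2 => ⟨h1, h2⟩
  set R := rootSpace Q M hQa
  have hpR : p ∈ R := by
    have := R.sub_mem (R.add_mem (memR hae.1 h1) (memR hae.2 h2))
      (memR (by rw [polar_sub_right, polar_add_right, hae.1, hae.2, hap]; simp) h3)
    simpa using this
  have hall : ∀ v, RatV F₀ v → polar Q a v = 0 → v ∈ R := by
    intro v hv hav
    obtain ⟨v', hv'⟩ : ∃ v', v' = v - polar Q v p • b - polar Q v b • p := ⟨_, rfl⟩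
    have hv'r : RatV F₀ v' := hv' ▸ (hv.sub (hb.smul (h.polar_mem hv hp))).sub (hp.smul (h.polar_mem hv hb))
    have hav' : polar Q a v' = 0 := by
      rw [hv', polar_sub_right, polar_sub_right, polar_smul_right', polar_smul_right', hav, hab, hap]; ring
    have hbv' : polar Q b v' = 0 := by
      rw [hv', polar_sub_right, polar_sub_right, polar_smul_right', polar_smul_right', polar_self', hQb, hbp,
        QuadraticMap.polar_comm Q v b]; ring
    have hpv' : polar Q p v' = 0 := by
      rw [hv', polar_sub_right, polar_sub_right, polar_smul_right', polar_smul_right', polar_self', hQp,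
        QuadraticMap.polar_comm Q p b, hbp, QuadraticMap.polar_comm Q v p]; ring
    have h4 : v' - Q v' • p ∈ R :=
      memR (by rw [polar_sub_right, polar_smul_right', hav', hap]; ring) (step v' hv'r hpv' hav' hbv')
    have := R.add_mem (R.add_mem (R.add_mem h4 (R.smul_mem (Q v') hpR)) (R.smul_mem (polar Q v p) (memR hab hR)))
      (R.smul_mem (polar Q v b) hpR)
    rwa [show v' - Q v' • p + Q v' • p + polar Q v p • b + polar Q v b • p = v by rw [hv']; abel] at this
  refine ⟨fun v hv hav => (hall v hv hav).2, fun w he' hw => ?_⟩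
  obtain ⟨g, hg, -, hag, -⟩ := h.exists_partner (k := 0) ha hQa ![] (fun j => j.elim0) (fun j => j.elim0)
    (by simpa [Matrix.range_empty] using ha0)
  have hsum : ∑ i, w i • ((Pi.single i 1 : ι → F) - polar Q a (Pi.single i 1) • g) = w := by
    have h0 : ∑ i, w i * polar Q a (Pi.single i 1) = 0 := by
      have := hw
      rw [← polarBilin_apply_apply, pi_eq_sum_univ' w, map_sum] at this
      simpa [polar_smul_right'] using this
    simp only [smul_sub, smul_smul, Finset.sum_sub_distrib, ← Finset.sum_smul, h0, zero_smul, sub_zero]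
    exact (pi_eq_sum_univ' w).symm
  have hwR : w ∈ R := hsum ▸ Submodule.sum_mem _ fun i _ => R.smul_mem _
    (hall _ ((ratV_single i F₀.one_mem).sub (hg.smul (h.polar_mem ha (ratV_single i F₀.one_mem))))
      (by rw [polar_sub_right, polar_smul_right', hag, mul_one, sub_self]))
  exact hwR.2.one he' hw

/-- A complete root group over a rational line gives everything. -/
theorem top_of_root (hn : 7 ≤ Fintype.card ι)
    (hst : ∀ u w, RatV F₀ u → RatV F₀ w → SiegIn Q M u w) {a b : ι → F}
    (ha : RatV F₀ a) (hb : RatV F₀ b) (hQa : Q a = 0) (hQb : Q b = 0) (hab : polar Q a b = 0)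
    (hbi : b ∉ Submodule.span F {a}) (ha0 : a ≠ 0) (hR : RootIn Q M a b) : siegelGroup Q ≤ M := by
  obtain ⟨hRa, hFa⟩ := h.full_of_root hn hst ha hb hQa hQb hab hbi ha0 hR
  obtain ⟨g, hg, hQg, hag, -⟩ := h.exists_partner (k := 0) ha hQa ![] (fun j => j.elim0) (fun j => j.elim0)
    (by simpa [Matrix.range_empty] using ha0)
  obtain ⟨c, d, hc, -, hQc, -, hcd, hperp⟩ := h.exists_pair ![a, g] (fun j => by fin_cases j <;> simp [ha, hg])
    (by omega)
  have hac := (hperp 0).1
  have hgc := (hperp 1).1
  simp only [Matrix.cons_val_zero, Matrix.cons_val_one, Matrix.head_cons] at hac hgc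
  have hc0 : c ≠ 0 := fun e => by rw [e, polar_zero_left] at hcd; exact zero_ne_one hcd
  have hg0 : g ≠ 0 := fun e => by rw [e, polar_zero_right] at hag; exact zero_ne_one hag
  have hca : polar Q c a = 0 := by rw [QuadraticMap.polar_comm]; exact hac
  have hai : a ∉ Submodule.span F {c} := fun hm => by
    obtain ⟨t, ht⟩ := Submodule.mem_span_singleton.1 hm
    have : polar Q (t • c) g = 1 := ht ▸ hag
    rw [polar_smul_left', QuadraticMap.polar_comm, hgc, mul_zero] at this
    exact zero_ne_one this
  obtain ⟨hRc, -⟩ := h.full_of_root hn hst hc ha hQc hQa hca hai hc0 ((hRa c hc hac).swap hQa hQc hac)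
  have hcg : polar Q c g = 0 := by rw [QuadraticMap.polar_comm]; exact hgc
  have hci : c ∉ Submodule.span F {g} := fun hm => by
    obtain ⟨t, ht⟩ := Submodule.mem_span_singleton.1 hm
    have e1 : polar Q a (t • g) = 0 := ht.symm ▸ hac
    rw [polar_smul_right', hag, mul_one] at e1
    rw [e1, zero_smul] at ht
    exact hc0 ht.symm
  obtain ⟨-, hFg⟩ := h.full_of_root hn hst hg hc hQg hQc hgc hci hg0 ((hRc g hg hcg).swap hQc hQg hcg)
  exact siegelGroup_le_of_full h.nd hQa hQg hag hFa hFg

end RatQ

end CfsgLib.OrthMax
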