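import Cfsg.Agent.Lib.OrthMax.Basic

/-! Stabilisers of totally singular subspaces are maximal in `Ω(Q)`. -/

set_option autoImplicit false

namespace CfsgLib.OrthMax

open QuadraticMap CfsgLib.Geometry

variable {F V : Type*} [Field F] [AddCommGroup V] [Module F V] [FiniteDimensional F V]
variable {Q : QuadraticForm F V} {M : Subgroup (V ≃ₗ[F] V)}

theorem singular_stab_max (hQ : (polarBilin Q).Nondegenerate) {W : Submodule F V}
    (hW : ∀ w ∈ W, Q w = 0)
    (hex : ∀ u ∉ W, Q u = 0 → (∀ w ∈ W, polar Q w u = 0) →
      Module.finrank F V ≠ 2 * Module.finrank F W + 2)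
    (hle : M ≤ siegelGroup Q) (hst : ∀ g ∈ siegelGroup Q, (∀ w ∈ W, g w ∈ W) → g ∈ M)
    (hne : ∃ g ∈ M, ∃ u ∈ W, g u ∉ W) : siegelGroup Q ≤ M := by
  have horth : ∀ g ∈ M, g ∈ orth Q := fun g hg => siegelGroup_le_orth (hle hg)
  have hfull : ∀ e ∈ W, Full Q M e := fun e he w he' hw => by
    refine hst _ (siegel_mem e w he' hw) fun x hx => ?_
    rw [siegel_apply, polar_eq_zero_of_singular hW hx he, mul_zero, zero_smul, zero_smul, add_zero,
      sub_zero]
    exact W.sub_mem hx (W.smul_mem _ he)
  by_cases hpair : ∃ g ∈ M, ∃ a ∈ W, ∃ h ∈ M, ∃ b ∈ W, polar Q (g a) (h b) ≠ 0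
  · obtain ⟨g, hg, a, ha, h, hh, b, hb, hab⟩ := hpair
    have ha' : Q (g a) = 0 := by rw [mem_orth.1 (horth g hg), hW a ha]
    have hb' : Q (h b) = 0 := by rw [mem_orth.1 (horth h hh), hW b hb]
    exact siegelGroup_le_of_full hQ ha'
      (f := (polar Q (g a) (h b))⁻¹ • h b)
      (by rw [CfsgLib.Geometry.map_smul', hb', mul_zero])
      (by rw [polar_smul_right']; exact inv_mul_cancel₀ hab)
      ((hfull a ha).image hg (horth g hg)) (((hfull b hb).image hh (horth h hh)).smul hb' _)
  exfalso
  push Not at hpair
  obtain ⟨g, hg, u₀, hu₀, hgu⟩ := hne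
  have hu : Q (g u₀) = 0 := by rw [mem_orth.1 (horth g hg), hW u₀ hu₀]
  have huW : ∀ w ∈ W, polar Q w (g u₀) = 0 := fun w hw => by
    simpa using hpair 1 M.one_mem w hw g hg u₀ hu₀
  set u := g u₀ with hu'
  clear_value u
  obtain ⟨w₀, hw₀, hw₀u⟩ := exists_polar hQ W hgu 1
  set f := w₀ - Q w₀ • u
  have hfu : polar Q u f = 1 := by
    simp only [f, polar_sub_right, polar_smul_right', polar_self', hu, polar_comm Q u w₀, hw₀u]; ring
  have hf : Q f = 0 := by
    simp only [f, CfsgLib.Geometry.map_sub', CfsgLib.Geometry.map_smul', polar_smul_right', hu, hw₀u]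
    ring
  have hfW : ∀ w ∈ W, polar Q w f = 0 := fun w hw => by
    simp only [f, polar_sub_right, polar_smul_right', huW w hw, polar_comm Q w w₀, hw₀ w hw]; ring
  clear_value f
  set T := W ⊔ Submodule.span F ({u, f} : Set V)
  obtain ⟨w, hw, hw0⟩ : ∃ w ∈ polarPerp Q T, Q w ≠ 0 := by
    by_contra hc
    push Not at hc
    have hTW : polarPerp Q T ≤ W := by
      intro x hx
      have hxT : x ∈ T := by
        rw [← polarPerp_polarPerp hQ T]
        exact mem_polarPerp.2 fun y hy => polar_eq_zero_of_singular hc hy hx
      obtain ⟨a, ha, b, hb, hab⟩ := Submodule.mem_sup.1 hxT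
      obtain ⟨c, d, rfl⟩ := Submodule.mem_span_pair.1 hb
      subst hab
      have e1 := mem_polarPerp.1 hx u (Submodule.mem_sup_right (Submodule.subset_span (by simp)))
      have e2 := mem_polarPerp.1 hx f (Submodule.mem_sup_right (Submodule.subset_span (by simp)))
      simp only [polar_add_right, polar_smul_right', polar_self', hu, hf, hfu, polar_comm Q f u,
        polar_comm Q u a, polar_comm Q f a, huW a ha, hfW a ha, mul_zero, mul_one, zero_add,
        add_zero] at e1 e2
      rw [e1, e2, zero_smul, zero_smul, add_zero, add_zero]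
      exact ha
    have h1 := Submodule.finrank_mono hTW
    have h2 := finrank_polarPerp hQ T
    have h3 := Submodule.finrank_sup_add_finrank_inf_eq W (Submodule.span F ({u, f} : Set V))
    have h4 := finrank_pair_le (F := F) u f
    have h5 := Submodule.finrank_mono (show W ≤ polarPerp Q T from fun x hx => mem_polarPerp.2
      fun y hy => by
        obtain ⟨a, ha, b, hb, rfl⟩ := Submodule.mem_sup.1 hy
        obtain ⟨c, d, rfl⟩ := Submodule.mem_span_pair.1 hb
        simp only [polar_add_left, polar_smul_left', polar_eq_zero_of_singular hW ha hx,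
          polar_comm Q u x, polar_comm Q f x, huW x hx, hfW x hx]
        ring)
    have h6 : Module.finrank F (Submodule.span F ({u, f} : Set V)) = 2 := by
      refine le_antisymm h4 ?_
      have hli : LinearIndependent F ![u, f] := LinearIndependent.pair_iff.2 fun a b hab => by
        have e1 := congrArg (fun z => polar Q z f) hab
        have e2 := congrArg (fun z => polar Q z u) hab
        simp only [polar_add_left, polar_smul_left', polar_self', hu, hf, hfu, polar_comm Q f u,
          polar_zero_left] at e1 e2
        exact ⟨by linear_combination e1, by linear_combination e2⟩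
      have h := finrank_span_eq_card hli
      rw [Matrix.range_cons_cons_empty, Fintype.card_fin] at h
      omega
    have h7 : W ⊓ Submodule.span F ({u, f} : Set V) = ⊥ := by
      rw [eq_bot_iff]
      rintro x ⟨hxW, hx⟩
      obtain ⟨a, b, rfl⟩ := Submodule.mem_span_pair.1 hx
      have e1 := huW _ hxW
      have e2 := hfW _ hxW
      simp only [polar_add_left, polar_smul_left', polar_self', hu, hf, hfu, polar_comm Q f u] at e1 e2
      simp only [mul_zero, mul_one, zero_add, add_zero] at e1 e2
      simp [e1, e2]
    rw [h7, finrank_bot] at h3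
    change Module.finrank F T + 0 = _ at h3
    exact hex u hgu hu huW (by omega)
  have hwT := mem_polarPerp.1 hw
  have hfw : polar Q f w = 0 := hwT f (Submodule.mem_sup_right (Submodule.subset_span (by simp)))
  have huw : polar Q u w = 0 := hwT u (Submodule.mem_sup_right (Submodule.subset_span (by simp)))
  have hρ : siegel Q f w hf hfw ∈ M := by
    refine hst _ (siegel_mem f w hf hfw) fun x hx => ?_
    rw [siegel_apply, hfW x hx, hwT x (Submodule.mem_sup_left hx)]
    simpa using hx
  have := hpair g hg u₀ hu₀ (siegel Q f w hf hfw * g) (mul_mem hρ hg) u₀ hu₀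
  rw [LinearEquiv.mul_apply, ← hu', siegel_apply, hfu, huw, polar_sub_right, polar_sub_right,
    polar_add_right, polar_smul_right', polar_smul_right', polar_smul_right', polar_self', hu, hfu,
    huw] at this
  exact hw0 (by linear_combination -this)

end CfsgLib.OrthMax
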