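import Cfsg.Agent.Lib.Maximal.SpFull
import Cfsg.Agent.Lib.OrthMax.Unitary

/-! The stabiliser of a unitary structure is maximal in the symplectic group. -/

set_option autoImplicit false
set_option linter.unusedSectionVars false
set_option linter.unusedVariables false
set_option linter.unusedSimpArgs false

namespace CfsgLib.OrthMax

open CfsgLib.Maximal QuadraticMap
open scoped Matrix

variable {m : ℕ} {F : Type*} [Field F] [Finite F]

local notation "sf" => Cfsg.sympForm m F
local notation "VV" => (Fin m ⊕ Fin m → F)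
local notation "MM" => Matrix (Fin m ⊕ Fin m) (Fin m ⊕ Fin m) F
local notation "GG" => Matrix.GeneralLinearGroup (Fin m ⊕ Fin m) F

/-- An anti-self-adjoint square root of a non-square. -/
structure SpUnitaryStr (θ : VV →ₗ[F] VV) (δ : F) : Prop where
  sq : ∀ v, θ (θ v) = δ • v
  aniso : ∀ a b : F, ∀ v, v ≠ 0 → a • v + b • θ v = 0 → a = 0 ∧ b = 0
  skew : ∀ u v, sf (θ u) v = - sf u (θ v)

variable {θ : (Fin m ⊕ Fin m → F) →ₗ[F] (Fin m ⊕ Fin m → F)} {δ : F}

/-- The quadratic form `v ↦ f(θ v, v)`. -/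
noncomputable def hermQ (θ : VV →ₗ[F] VV) : QuadraticForm F VV :=
  LinearMap.BilinMap.toQuadraticMap (LinearMap.comp (CfsgLib.Geometry.sympBilin m F) θ)

theorem hermQ_apply (v : VV) : hermQ θ v = sf (θ v) v := by
  simp [hermQ, LinearMap.BilinMap.toQuadraticMap_apply]

variable (h : SpUnitaryStr θ δ)

include h in
theorem SpUnitaryStr.polar_eq (a b : VV) : polar (hermQ θ) a b = 2 * sf (θ a) b := by
  simp only [QuadraticMap.polar, hermQ_apply, map_add, sf_add_left, sf_add_right]
  rw [h.skew b a, sf_skew b (θ a)]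
  ring

include h in
theorem SpUnitaryStr.theta_theta (a b : VV) : sf (θ a) (θ b) = -(δ * sf a b) := by
  rw [h.skew, h.sq, sf_smul_right]

include h in
theorem SpUnitaryStr.delta_ne_zero (hm : 0 < m) : δ ≠ 0 := fun h0 => by
  haveI : Nonempty (Fin m) := ⟨⟨0, hm⟩⟩
  obtain ⟨v, hv⟩ := exists_ne (0 : VV)
  by_cases hθ : θ v = 0
  · exact one_ne_zero (h.aniso 0 1 v hv (by simp [hθ])).2
  · exact one_ne_zero (h.aniso 0 1 (θ v) hθ (by rw [h.sq, h0]; simp)).2

include h in
theorem SpUnitaryStr.unitaryStr : UnitaryStr (hermQ θ) θ 0 (-δ) where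
  sq v := by rw [h.sq]; module
  aniso := h.aniso
  norm v := by
    rw [hermQ_apply, hermQ_apply, h.theta_theta]
    ring
  trace v := by
    rw [h.polar_eq, h.sq, sf_smul_left, sf_alt]; ring

include h in
theorem SpUnitaryStr.nondegenerate (h2 : (2 : F) ≠ 0) (hm : 0 < m) :
    (polarBilin (hermQ θ)).Nondegenerate := by
  have hl : ∀ x, (∀ y, polar (hermQ θ) x y = 0) → x = 0 := fun x hx => by
    by_contra h0
    by_cases hθ : θ x = 0
    · exact one_ne_zero (h.aniso 0 1 x h0 (by simp [hθ])).2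
    obtain ⟨y, hy⟩ := sf_exists (θ x) hθ
    have := hx y
    rw [h.polar_eq, hy, mul_one] at this
    exact h2 this
  exact ⟨fun x hx => hl x hx, fun y hy => hl y fun x => by rw [QuadraticMap.polar_comm]; exact hy x⟩

/-- The unitary transvection. -/
def utv (θ : VV →ₗ[F] VV) (δ c : F) (u : VV) : GG := stv (-(δ * c)) u * stv c (θ u)

theorem utv_mem (c : F) (u : VV) : utv θ δ c u ∈ Cfsg.spGL m F :=
  mul_mem (stv_mem_spGL _ _) (stv_mem_spGL _ _)

include h in
theorem SpUnitaryStr.utv_mulVec {u : VV} (hu : hermQ θ u = 0) (c : F) (v : VV) :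
    (utv θ δ c u : MM) *ᵥ v = v + c • (sf v (θ u) • θ u - (δ * sf v u) • u) := by
  rw [hermQ_apply] at hu
  rw [utv, Units.val_mul, ← Matrix.mulVec_mulVec, stv_mulVec, stv_mulVec, sf_add_left, sf_smul_left, hu]
  module

include h in
theorem SpUnitaryStr.utv_comm {u : VV} (hu : hermQ θ u = 0) (c : F) (v : VV) :
    (utv θ δ c u : MM) *ᵥ θ v = θ ((utv θ δ c u : MM) *ᵥ v) := by
  rw [h.utv_mulVec hu, h.utv_mulVec hu, map_add, map_smul, map_sub, map_smul, map_smul, h.sq, h.skew v u,
    h.theta_theta]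
  module

/-- The Heisenberg element attached to `w` and `r`. -/
def heis (w r : VV) : GG := stv (-1) w * stv 1 (w + r)

theorem heis_mulVec {w r : VV} (hwr : sf w r = 0) (v : VV) :
    (heis w r : MM) *ᵥ v = v + sf v r • w + sf v w • r + sf v r • r := by
  have hrw : sf r w = 0 := by rw [sf_skew, hwr, neg_zero]
  simp only [heis, Units.val_mul, ← Matrix.mulVec_mulVec, stv_mulVec, sf_add_left, sf_add_right, sf_smul_left,
    sf_alt, hrw]
  module

theorem heis_comm {w z r : VV} (hw : sf w r = 0) (hz : sf z r = 0) :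
    heis w r * heis z r = stv (2 * sf z w) r * (heis z r * heis w r) := by
  have hrw : sf r w = 0 := by rw [sf_skew, hw, neg_zero]
  have hrz : sf r z = 0 := by rw [sf_skew, hz, neg_zero]
  refine Units.ext (CfsgLib.Geometry.matrix_eq_of_mulVec fun x => ?_)
  simp only [Units.val_mul, ← Matrix.mulVec_mulVec, heis_mulVec hw, heis_mulVec hz, stv_mulVec, sf_add_left,
    sf_smul_left, sf_alt, hw, hz, hrw, hrz, sf_skew w z]
  module

variable {M : Subgroup (Matrix.GeneralLinearGroup (Fin m ⊕ Fin m) F)}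

/-- A singular vector orthogonal to `S` with unit product with `x`. -/
theorem exists_singular_polar_one {V : Type*} [AddCommGroup V] [Module F V] [FiniteDimensional F V]
    {Q : QuadraticForm F V} (h2 : (2 : F) ≠ 0) (hQ : (QuadraticMap.polarBilin Q).Nondegenerate)
    (S : Submodule F V) {x : V} (hx : x ∉ S) (hd : 2 * Module.finrank F S + 4 ≤ Module.finrank F V) :
    ∃ u, Q u = 0 ∧ (∀ s ∈ S, polar Q u s = 0) ∧ polar Q u x = 1 ∧ u ∉ S := by
  obtain ⟨w, hw, hwx⟩ := CfsgLib.Geometry.exists_polar hQ S hx 1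
  set X := S ⊔ Submodule.span F {x} with hX
  set P := CfsgLib.Geometry.polarPerp Q X with hP
  have hle : Module.finrank F X ≤ Module.finrank F S + 1 := by
    refine (Submodule.finrank_add_le_finrank_add_finrank _ _).trans ?_
    have : Module.finrank F (Submodule.span F {x}) ≤ 1 := (finrank_span_le_card _).trans (by simp)
    omega
  have hPp : ∀ t ∈ P, ∀ s ∈ X, polar Q t s = 0 := fun t ht s hs => by
    rw [QuadraticMap.polar_comm]; exact CfsgLib.Geometry.mem_polarPerp.1 ht s hs
  have mk : ∀ t ∈ P, ∀ s ∈ S, polar Q (w + t) s = 0 := fun t ht s hs => by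
    rw [polar_add_left, hw s hs, hPp t ht s (Submodule.mem_sup_left hs), add_zero]
  have mkx : ∀ t ∈ P, polar Q (w + t) x = 1 := fun t ht => by
    rw [polar_add_left, hwx, hPp t ht x (Submodule.mem_sup_right (Submodule.mem_span_singleton_self x)), add_zero]
  by_cases hR : ∃ r ∈ P ⊓ CfsgLib.Geometry.polarPerp Q P, polar Q w r ≠ 0
  · obtain ⟨r, ⟨hr, hr'⟩, hwr⟩ := hR
    have hrr : polar Q r r = 0 := CfsgLib.Geometry.mem_polarPerp.1 hr' r hr
    have hr0 : Q r = 0 := by
      rw [CfsgLib.Geometry.polar_self'] at hrr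
      exact (mul_eq_zero.1 hrr).resolve_left h2
    set t := (-(Q w) / polar Q w r) • r with ht
    refine ⟨w + t, ?_, mk t (P.smul_mem _ hr), mkx t (P.smul_mem _ hr), fun hm => hwr ?_⟩
    · rw [CfsgLib.Geometry.map_add', ht, CfsgLib.Geometry.map_smul', hr0, CfsgLib.Geometry.polar_smul_right']
      field_simp
      ring
    · have := hPp r hr _ (Submodule.mem_sup_left hm)
      rw [QuadraticMap.polar_comm, polar_add_left, ht, CfsgLib.Geometry.polar_smul_left', hrr, mul_zero,
        add_zero] at this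
      exact this
  · push Not at hR
    have hd' := CfsgLib.Geometry.finrank_polarPerp hQ X
    have hd'' := CfsgLib.Geometry.finrank_polarPerp hQ P
    have hRS : P ⊓ CfsgLib.Geometry.polarPerp Q P ≤ S := by
      have hXX : CfsgLib.Geometry.polarPerp Q P = X := by
        refine (Submodule.eq_of_le_of_finrank_eq (fun y hy => CfsgLib.Geometry.mem_polarPerp.2 fun t ht =>
          hPp t ht y hy) ?_).symm
        rw [← hP] at hd'
        omega
      intro r hr
      obtain ⟨s, hs, y, hy, rfl⟩ := Submodule.mem_sup.1 (hXX ▸ hr.2 : r ∈ X)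
      obtain ⟨l, rfl⟩ := Submodule.mem_span_singleton.1 hy
      have := hR _ hr
      rw [polar_add_right, hw s hs, CfsgLib.Geometry.polar_smul_right', hwx, mul_one, zero_add] at this
      rw [this, zero_smul, add_zero]; exact hs
    obtain ⟨e, f, he, hf, he', hf', hef⟩ := exists_pair_of_radical (Q := Q) P (by
      have := Submodule.finrank_mono hRS
      rw [← hP] at hd'
      omega)
    set a := polar Q w e
    set b := polar Q w f
    have ht : (1 - b) • e + (-(Q w) - a * (1 - b)) • f ∈ P := add_mem (P.smul_mem _ he) (P.smul_mem _ hf)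
    refine ⟨_, ?_, mk _ ht, mkx _ ht, fun hm => ?_⟩
    · simp only [CfsgLib.Geometry.map_add', CfsgLib.Geometry.map_smul', polar_add_right,
        CfsgLib.Geometry.polar_smul_left', CfsgLib.Geometry.polar_smul_right', he', hf', hef, a, b]
      ring
    · have := hPp f hf _ (Submodule.mem_sup_left hm)
      simp only [QuadraticMap.polar_comm Q f, polar_add_left, CfsgLib.Geometry.polar_smul_left',
        CfsgLib.Geometry.polar_self', hf', hef, b] at this
      exact one_ne_zero (by linear_combination this : (1 : F) = 0)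

/-- A subspace of dimension at least three has a non-zero singular vector. -/
theorem exists_singular_mem {V : Type*} [AddCommGroup V] [Module F V] [FiniteDimensional F V]
    {Q : QuadraticForm F V} (h2 : (2 : F) ≠ 0) (P : Submodule F V) (hd : 3 ≤ Module.finrank F P) :
    ∃ d ∈ P, d ≠ 0 ∧ Q d = 0 := by
  by_cases hR : P ⊓ CfsgLib.Geometry.polarPerp Q P = ⊥
  · obtain ⟨e, f, he, -, he', -, hef⟩ := exists_pair_of_radical (Q := Q) P (by rw [hR, finrank_bot]; omega)
    exact ⟨e, he, fun h0 => by simp [h0, polar_zero_left] at hef, he'⟩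
  · obtain ⟨d, ⟨hd1, hd2⟩, hd0⟩ := Submodule.exists_mem_ne_zero_of_ne_bot hR
    have := CfsgLib.Geometry.mem_polarPerp.1 hd2 d hd1
    rw [CfsgLib.Geometry.polar_self'] at this
    exact ⟨d, hd1, hd0, (mul_eq_zero.1 this).resolve_left h2⟩

include h in
/-- A root element outside the unitary group gives a full point. -/
theorem SpUnitaryStr.exists_full (h2 : (2 : F) ≠ 0) (hm : 5 ≤ m) (hMS : M ≤ Cfsg.spGL m F)
    (hst : ∀ u c, hermQ θ u = 0 → utv θ δ c u ∈ M) {g : GG} (hg : g ∈ M) {u₀ : VV} (hu₀0 : u₀ ≠ 0)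
    (hu₀ : hermQ θ u₀ = 0)
    (hmv : θ ((g : MM) *ᵥ u₀) ∉ Submodule.span F ({(g : MM) *ᵥ u₀, (g : MM) *ᵥ θ u₀} : Set VV)) :
    ∃ d, d ≠ 0 ∧ hermQ θ d = 0 ∧ SpFull M d := by
  have hQ := h.nondegenerate h2 (by omega)
  have hU := h.unitaryStr
  have hδ := h.delta_ne_zero (by omega)
  have hdim : Module.finrank F VV = m + m := by simp
  set m₁ := (g : MM) *ᵥ u₀
  set m₂ := (g : MM) *ᵥ θ u₀
  set S := cLine θ m₁ ⊔ Submodule.span F {m₂}
  have hL1 : Module.finrank F (cLine θ m₁) ≤ 2 := CfsgLib.Geometry.finrank_pair_le (F := F) m₁ (θ m₁)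
  have hm₁0 : m₁ ≠ 0 := fun e => hu₀0 (mulVec_inj g (e.trans (Matrix.mulVec_zero _).symm))
  have hS : Module.finrank F S ≤ 3 := by
    refine (Submodule.finrank_add_le_finrank_add_finrank _ _).trans ?_
    have : Module.finrank F (Submodule.span F {m₂}) ≤ 1 := (finrank_span_le_card _).trans (by simp)
    omega
  have hm₂L : m₂ ∉ cLine θ m₁ := by
    intro hmem
    obtain ⟨α, β, hab⟩ := Submodule.mem_span_pair.1 hmem
    by_cases hβ : β = 0
    · rw [hβ, zero_smul, add_zero] at hab
      have : θ u₀ = α • u₀ := mulVec_inj g (by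
        show (g : MM) *ᵥ θ u₀ = (g : MM) *ᵥ (α • u₀); rw [Matrix.mulVec_smul]; exact hab.symm)
      exact one_ne_zero (h.aniso (-α) 1 u₀ hu₀0 (by rw [this]; module)).2
    refine hmv (Submodule.mem_span_pair.2 ⟨-(β⁻¹ * α), β⁻¹, ?_⟩)
    rw [← hab, smul_add, smul_smul, smul_smul, inv_mul_cancel₀ hβ, one_smul]; module
  have hxS : θ m₂ ∉ S := by
    intro hmem
    obtain ⟨l, hl, y, hy, he⟩ := Submodule.mem_sup.1 hmem
    obtain ⟨s, rfl⟩ := Submodule.mem_span_singleton.1 hy
    have hz : (-s) • m₂ + (1 : F) • θ m₂ ∈ cLine θ m₁ := by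
      rw [show (-s) • m₂ + (1 : F) • θ m₂ = l by linear_combination (norm := module) -he]; exact hl
    have hm₂0 : m₂ ≠ 0 := fun e => hm₂L (e ▸ Submodule.zero_mem _)
    by_cases hz0 : (-s) • m₂ + (1 : F) • θ m₂ = 0
    · exact one_ne_zero (h.aniso _ _ m₂ hm₂0 hz0).2
    have hzm : (-s) • m₂ + (1 : F) • θ m₂ ∈ cLine θ m₂ := Submodule.mem_span_pair.2 ⟨_, _, rfl⟩
    obtain ⟨c, d, hcd⟩ := Submodule.mem_span_pair.1 (hU.cLine_symm hzm hz0)
    exact hm₂L (by rw [← hcd]; exact add_mem (Submodule.smul_mem _ _ hz) (Submodule.smul_mem _ _ (hU.cLine_mapsTo hz)))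
  obtain ⟨u, hu, huS, hux, hun⟩ := exists_singular_polar_one h2 hQ S hxS (by omega)
  have hu0 : u ≠ 0 := fun e => hun (e ▸ Submodule.zero_mem _)
  have hum₂ : polar (hermQ θ) u m₂ = 0 := huS _ (Submodule.mem_sup_right (Submodule.mem_span_singleton_self _))
  -- a singular vector orthogonal to everything in sight
  set T := cLine θ m₂ ⊔ cLine θ u
  have hT : T ⊓ CfsgLib.Geometry.polarPerp (hermQ θ) T = ⊥ := by
    rw [eq_bot_iff]
    rintro t ⟨ht, ht'⟩
    obtain ⟨t₁, ht₁, t₂, ht₂, rfl⟩ := Submodule.mem_sup.1 ht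
    obtain ⟨α, β, rfl⟩ := Submodule.mem_span_pair.1 ht₁
    obtain ⟨γ, ε, rfl⟩ := Submodule.mem_span_pair.1 ht₂
    have e1 := CfsgLib.Geometry.mem_polarPerp.1 ht' u (Submodule.mem_sup_right (mem_cLine_left u))
    have e2 := CfsgLib.Geometry.mem_polarPerp.1 ht' (θ u) (Submodule.mem_sup_right (mem_cLine_right u))
    have e3 := CfsgLib.Geometry.mem_polarPerp.1 ht' m₂ (Submodule.mem_sup_left (mem_cLine_left m₂))
    have e4 := CfsgLib.Geometry.mem_polarPerp.1 ht' (θ m₂) (Submodule.mem_sup_left (mem_cLine_right m₂))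
    have k1 : polar (hermQ θ) (θ u) m₂ = -1 := by rw [hU.adjoint, hum₂, hux]; ring
    simp only [polar_add_right, CfsgLib.Geometry.polar_smul_right', CfsgLib.Geometry.polar_self', hU.norm, hu,
      hU.self_perp hu, hU.trace, hU.polar_theta, hum₂, hux, k1, mul_zero, mul_one, zero_mul, add_zero, zero_add,
      mul_neg] at e1 e2
    have hα : α = 0 := by linear_combination -e2
    subst hα
    have hβ : β = 0 := by simpa using e1
    subst hβ
    simp only [polar_add_right, CfsgLib.Geometry.polar_smul_right', zero_mul, zero_add, add_zero,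
      QuadraticMap.polar_comm (hermQ θ) m₂ u, QuadraticMap.polar_comm (hermQ θ) m₂ (θ u), hum₂, k1, mul_zero,
      mul_neg, mul_one, QuadraticMap.polar_comm (hermQ θ) (θ m₂) u, hux,
      hU.polar_theta] at e3 e4
    have hε : ε = 0 := by linear_combination -e3
    subst hε
    have hγ : γ = 0 := by linear_combination e4
    subst hγ
    simp
  have hTd : Module.finrank F T ≤ 4 := by
    refine (Submodule.finrank_add_le_finrank_add_finrank _ _).trans ?_
    have h1 : Module.finrank F (cLine θ m₂) ≤ 2 := CfsgLib.Geometry.finrank_pair_le (F := F) m₂ (θ m₂)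
    have h2 : Module.finrank F (cLine θ u) ≤ 2 := CfsgLib.Geometry.finrank_pair_le (F := F) u (θ u)
    omega
  obtain ⟨d, ⟨hdT, hdm⟩, hd0, hd⟩ := exists_singular_mem (Q := hermQ θ) h2
    (CfsgLib.Geometry.polarPerp (hermQ θ) T ⊓ CfsgLib.Geometry.polarPerp (hermQ θ) (cLine θ m₁)) (by
      have h1 := CfsgLib.Geometry.finrank_polarPerp hQ T
      have h3 := CfsgLib.Geometry.finrank_polarPerp hQ (cLine θ m₁)
      have h4 := Submodule.finrank_sup_add_finrank_inf_eq (CfsgLib.Geometry.polarPerp (hermQ θ) T)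
        (CfsgLib.Geometry.polarPerp (hermQ θ) (cLine θ m₁))
      have h5 := Submodule.finrank_le (CfsgLib.Geometry.polarPerp (hermQ θ) T ⊔
        CfsgLib.Geometry.polarPerp (hermQ θ) (cLine θ m₁))
      omega)
  have hSd : ∀ s ∈ cLine θ m₁, polar (hermQ θ) s d = 0 := fun s hs => CfsgLib.Geometry.mem_polarPerp.1 hdm s hs
  refine ⟨d, hd0, hd, ?_⟩
  -- translation to the alternating form
  have cv0 : ∀ a b, polar (hermQ θ) a b = 0 → sf a (θ b) = 0 := fun a b hab => by
    rw [h.polar_eq, h.skew] at hab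
    simpa [h2] using hab
  have cv1 : ∀ a b, polar (hermQ θ) a (θ b) = -(2 * δ * sf a b) := fun a b => by
    rw [h.polar_eq, h.theta_theta]; ring
  have flip0 : ∀ a b, sf a b = 0 → sf b a = 0 := fun a b e => by rw [sf_skew, e, neg_zero]
  have of1 : ∀ a b, polar (hermQ θ) a (θ b) = 0 → sf a b = 0 := fun a b hab => by
    rw [cv1] at hab; simpa [h2, hδ] using hab
  have hud : sf u d = 0 := flip0 _ _ (of1 d u (by
    rw [QuadraticMap.polar_comm]; exact CfsgLib.Geometry.mem_polarPerp.1 hdT _ (Submodule.mem_sup_right (mem_cLine_right u))))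
  have hm₂d : sf m₂ d = 0 := flip0 _ _ (of1 d m₂ (by
    rw [QuadraticMap.polar_comm]; exact CfsgLib.Geometry.mem_polarPerp.1 hdT _ (Submodule.mem_sup_left (mem_cLine_right m₂))))
  have hdu' : sf d (θ u) = 0 := cv0 _ _ (by
    rw [QuadraticMap.polar_comm]; exact CfsgLib.Geometry.mem_polarPerp.1 hdT _ (Submodule.mem_sup_right (mem_cLine_left u)))
  have hm₂d' : sf m₂ (θ d) = 0 := cv0 _ _
    (CfsgLib.Geometry.mem_polarPerp.1 hdT _ (Submodule.mem_sup_left (mem_cLine_left m₂)))
  have hm₂u' : sf m₂ (θ u) = 0 := cv0 _ _ (by rw [QuadraticMap.polar_comm]; exact hum₂)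
  obtain ⟨ρ, hρdef⟩ : ∃ ρ, ρ = sf m₂ u := ⟨_, rfl⟩
  have hρ : ρ ≠ 0 := fun e => by
    rw [cv1, sf_skew, ← hρdef, e] at hux
    simp at hux
  have hm₁u : sf m₁ u = 0 := flip0 _ _ (of1 u m₁ (huS _ (Submodule.mem_sup_left (mem_cLine_right m₁))))
  have hm₁u' : sf m₁ (θ u) = 0 := cv0 _ _ (by
    rw [QuadraticMap.polar_comm]; exact huS _ (Submodule.mem_sup_left (mem_cLine_left m₁)))
  have hm₁d : sf m₁ d = 0 := flip0 _ _ (of1 d m₁ (by
    rw [QuadraticMap.polar_comm]; exact hSd _ (mem_cLine_right m₁)))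
  have hm₁d' : sf m₁ (θ d) = 0 := cv0 _ _ (hSd _ (mem_cLine_left m₁))
  have hu2 : hermQ θ (u + d) = 0 := by
    rw [CfsgLib.Geometry.map_add', hu, hd, CfsgLib.Geometry.mem_polarPerp.1 hdT u (Submodule.mem_sup_right (mem_cLine_left u))]
    ring
  -- the two moved root elements
  have hA : stv (-(δ * 1)) m₁ * stv 1 m₂ ∈ M := by
    rw [← stv_conj (hMS hg) (-(δ * 1)) u₀, ← stv_conj (hMS hg) 1 (θ u₀)]
    have := mul_mem (mul_mem hg (hst u₀ 1 hu₀)) (inv_mem hg)
    rw [utv] at this
    convert this using 1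
    group
  set p := (-(δ * ρ)) • u
  set r := (-(δ * ρ)) • d
  have key : ∀ v : VV, hermQ θ v = 0 → sf m₁ v = 0 → sf m₁ (θ v) = 0 → sf m₂ (θ v) = 0 → sf m₂ v = ρ →
      stv (-1) m₂ * stv 1 (m₂ + (-(δ * ρ)) • v) ∈ M := by
    intro v hv a1 a2 a3 a4
    have hh := hst v 1 hv
    have hA' := mul_mem (mul_mem hh hA) (inv_mem hh)
    rw [show utv θ δ 1 v * (stv (-(δ * 1)) m₁ * stv 1 m₂) * (utv θ δ 1 v)⁻¹ =
      (utv θ δ 1 v * stv (-(δ * 1)) m₁ * (utv θ δ 1 v)⁻¹) * (utv θ δ 1 v * stv 1 m₂ * (utv θ δ 1 v)⁻¹) by group,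
      stv_conj (utv_mem _ _), stv_conj (utv_mem _ _), h.utv_mulVec hv, h.utv_mulVec hv, a1, a2, a3, a4] at hA'
    rw [show m₁ + (1 : F) • ((0 : F) • θ v - (δ * 0) • v) = m₁ by module,
      show m₂ + (1 : F) • ((0 : F) • θ v - (δ * ρ) • v) = m₂ + (-(δ * ρ)) • v by module] at hA'
    have hinv : (stv (1 : F) m₂)⁻¹ = stv (-1) m₂ := by
      refine inv_eq_of_mul_eq_one_right (Units.ext (CfsgLib.Geometry.matrix_eq_of_mulVec fun x => ?_))
      simp only [Units.val_mul, ← Matrix.mulVec_mulVec, stv_mulVec, sf_add_left, sf_smul_left, sf_alt,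
        Units.val_one, Matrix.one_mulVec]
      module
    have := mul_mem (inv_mem hA) hA'
    rw [← hinv]
    convert this using 1
    group
  have hE := key u hu hm₁u hm₁u' hm₂u' hρdef.symm
  have hE' := key (u + d) hu2 (by rw [sf_add_right, hm₁u, hm₁d, add_zero])
    (by rw [map_add, sf_add_right, hm₁u', hm₁d', add_zero]) (by rw [map_add, sf_add_right, hm₂u', hm₂d', add_zero])
    (by rw [sf_add_right, hm₂d, add_zero, hρdef])
  set w := m₂ + p
  have hw : heis w r ∈ M := by
    have := mul_mem (inv_mem hE) hE'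
    rw [show m₂ + (-(δ * ρ)) • (u + d) = w + r by simp only [w, p, r]; module] at this
    have hinv : (stv (1 : F) w)⁻¹ = stv (-1) w := by
      refine inv_eq_of_mul_eq_one_right (Units.ext (CfsgLib.Geometry.matrix_eq_of_mulVec fun x => ?_))
      simp only [Units.val_mul, ← Matrix.mulVec_mulVec, stv_mulVec, sf_add_left, sf_smul_left, sf_alt,
        Units.val_one, Matrix.one_mulVec]
      module
    rw [heis, ← hinv]
    convert this using 1
    group
  have hrfull : SpFull M r := by
    intro k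
    set s := k / (2 * δ * ρ * ρ)
    set H := utv θ δ s u
    have hHM := hst u s hu
    have hHr : (H : MM) *ᵥ r = r := by
      rw [h.utv_mulVec hu, sf_smul_left, sf_smul_left, hdu', flip0 _ _ hud]; module
    have huu' : sf u (θ u) = 0 := by
      rw [sf_skew, ← hermQ_apply, hu, neg_zero]
    have hHw : (H : MM) *ᵥ w = w + s • p := by
      rw [h.utv_mulVec hu, show sf w (θ u) = 0 by
        rw [sf_add_left, hm₂u', sf_smul_left, huu']; ring,
        show sf w u = ρ by rw [sf_add_left, hρdef, sf_smul_left, sf_alt]; ring]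
      simp only [p]
      module
    have hwr : sf w r = 0 := by
      simp only [w, p, r, sf_add_left, sf_smul_left, sf_smul_right, hm₂d, hud]; ring
    have hzr : sf (w + s • p) r = 0 := by
      rw [sf_add_left, hwr, sf_smul_left]
      simp only [p, r, sf_smul_left, sf_smul_right, hud]; ring
    have hz : heis (w + s • p) r ∈ M := by
      have := mul_mem (mul_mem hHM hw) (inv_mem hHM)
      rw [heis, show H * (stv (-1) w * stv 1 (w + r)) * H⁻¹ = (H * stv (-1) w * H⁻¹) * (H * stv 1 (w + r) * H⁻¹) by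
        group, stv_conj (utv_mem _ _), stv_conj (utv_mem _ _), Matrix.mulVec_add (H : MM) w r, hHr, hHw] at this
      exact this
    have hc := heis_comm hwr hzr
    have hk : 2 * sf (w + s • p) w = k := by
      have e1 : sf p w = δ * ρ * ρ := by
        simp only [w, p, sf_smul_left, sf_add_right, sf_smul_right, sf_alt, sf_skew u m₂, ← hρdef]; ring
      rw [sf_add_left, sf_alt, sf_smul_left, e1, zero_add]
      simp only [s]
      field_simp
    rw [hk] at hc
    have := mul_mem (mul_mem hw hz) (inv_mem (mul_mem hz hw))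
    rwa [hc, mul_inv_cancel_right] at this
  have hdr : d = (-(δ * ρ))⁻¹ • r := by
    simp only [r, smul_smul]; rw [inv_mul_cancel₀ (neg_ne_zero.2 (mul_ne_zero hδ hρ)), one_smul]
  rw [hdr]; exact hrfull.smul _

include h in
/-- One full singular point makes every point full. -/
theorem SpUnitaryStr.all_full (h2 : (2 : F) ≠ 0) (hm : 5 ≤ m) (hMS : M ≤ Cfsg.spGL m F)
    (hst : ∀ u c, hermQ θ u = 0 → utv θ δ c u ∈ M) {d : VV} (hd0 : d ≠ 0) (hd : hermQ θ d = 0)
    (hF : SpFull M d) : ∀ v, SpFull M v := by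
  classical
  have hQ := h.nondegenerate h2 (by omega)
  have hU := h.unitaryStr
  have hδ := h.delta_ne_zero (by omega)
  have hdim : Module.finrank F VV = m + m := by simp
  -- one step
  have step : ∀ e w, SpFull M e → hermQ θ w = 0 → polar (hermQ θ) e w = 0 → polar (hermQ θ) e (θ w) ≠ 0 →
      SpFull M w := by
    intro e w he hw h0 h1
    have hew' : sf e (θ w) = 0 := by
      rw [h.polar_eq, h.skew] at h0
      simpa [h2] using h0
    have hew : sf e w ≠ 0 := fun hc => h1 (by rw [h.polar_eq, h.theta_theta, hc]; ring)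
    have hy : hermQ θ (θ w) = 0 := by rw [hU.norm, hw, mul_zero]
    have he' := he.map hMS (hst (θ w) 1 hy)
    rw [h.utv_mulVec hy, h.sq, sf_smul_right, hew'] at he'
    set e' := e + (1 : F) • ((δ * sf e w) • δ • w - (δ * 0) • θ w)
    have hne : sf e e' ≠ 0 := by
      simp only [e', sf_add_right, sf_alt, sf_smul_right, sub_eq_add_neg, mul_zero, zero_smul, neg_zero, add_zero,
        zero_add, one_mul]
      exact mul_ne_zero (mul_ne_zero hδ hew) (mul_ne_zero hδ hew)
    have h3 := SpFull.move hMS he' he hne (-1)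
    rw [show e + (-1 : F) • e' = (-(δ * sf e w * δ)) • w by simp only [e']; module] at h3
    have h4 := h3.smul (-(δ * sf e w * δ))⁻¹
    rwa [smul_smul, inv_mul_cancel₀ (neg_ne_zero.2 (mul_ne_zero (mul_ne_zero hδ hew) hδ)), one_smul] at h4
  -- two steps
  have two : ∀ e z, e ≠ 0 → SpFull M e → hermQ θ e = 0 → hermQ θ z = 0 → z ∉ cLine θ e → SpFull M z := by
    intro e z he0 he heq hz hze
    set S := Submodule.span F ({e, z} : Set VV) ⊔ Submodule.span F {θ e + θ z}
    have hxS : θ e ∉ S := by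
      intro hm'
      obtain ⟨y, hy, y', hy', hyy⟩ := Submodule.mem_sup.1 hm'
      obtain ⟨a, b, rfl⟩ := Submodule.mem_span_pair.1 hy
      obtain ⟨c, rfl⟩ := Submodule.mem_span_singleton.1 hy'
      have hmem : b • z + c • θ z ∈ cLine θ e :=
        Submodule.mem_span_pair.2 ⟨-a, 1 - c, by linear_combination (norm := module) -hyy⟩
      have hz0 : z ≠ 0 := fun e' => hze (e' ▸ Submodule.zero_mem _)
      by_cases hbc : b • z + c • θ z = 0
      · obtain ⟨hb', hc'⟩ := h.aniso _ _ z hz0 hbc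
        subst hb' hc'
        exact one_ne_zero (h.aniso (-a) 1 e he0 (by linear_combination (norm := module) -hyy)).2
      have hzm : b • z + c • θ z ∈ cLine θ z := Submodule.mem_span_pair.2 ⟨_, _, rfl⟩
      obtain ⟨s, t, hst'⟩ := Submodule.mem_span_pair.1 (hU.cLine_symm hzm hbc)
      exact hze (by rw [← hst']; exact add_mem (Submodule.smul_mem _ _ hmem) (Submodule.smul_mem _ _ (hU.cLine_mapsTo hmem)))
    have hSd : Module.finrank F S ≤ 3 := by
      refine (Submodule.finrank_add_le_finrank_add_finrank _ _).trans ?_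
      have h1 := CfsgLib.Geometry.finrank_pair_le (F := F) e z
      have h2' : Module.finrank F (Submodule.span F {θ e + θ z}) ≤ 1 := (finrank_span_le_card _).trans (by simp)
      omega
    obtain ⟨w, hw, hwS, hwx, -⟩ := exists_singular_polar_one h2 hQ S hxS (by omega)
    have hwe : polar (hermQ θ) w e = 0 := hwS e (Submodule.mem_sup_left (Submodule.subset_span (by simp)))
    have hwz : polar (hermQ θ) w z = 0 := hwS z (Submodule.mem_sup_left (Submodule.subset_span (by simp)))
    have hwθz : polar (hermQ θ) w (θ z) = -1 := by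
      have := hwS _ (Submodule.mem_sup_right (Submodule.mem_span_singleton_self (θ e + θ z)))
      rw [polar_add_right, hwx] at this
      linear_combination this
    have hew : polar (hermQ θ) e (θ w) = -1 := by
      have := hU.adjoint e w
      rw [QuadraticMap.polar_comm (hermQ θ) (θ e) w, hwx] at this
      linear_combination this
    refine step w z (step e w he hw (by rw [QuadraticMap.polar_comm]; exact hwe) ?_) hz hwz ?_
    · rw [hew]; exact neg_ne_zero.2 one_ne_zero
    · rw [hwθz]; exact neg_ne_zero.2 one_ne_zero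
  have hsing : ∀ z, hermQ θ z = 0 → SpFull M z := by
    intro z hz
    by_cases hz0 : z = 0
    · subst hz0; exact SpFull.zero M
    obtain ⟨x, hx⟩ : ∃ x, x ∉ cLine θ d := by
      refine SetLike.exists_not_mem_of_ne_top _ (fun e => ?_) rfl
      have h1 : Module.finrank F (cLine θ d) ≤ 2 := CfsgLib.Geometry.finrank_pair_le (F := F) d (θ d)
      rw [e, finrank_top] at h1
      omega
    by_cases hzd : z ∈ cLine θ d
    · obtain ⟨w, hw, -, -, hwn⟩ := exists_singular_polar hQ _ hx (by
        have h1 : Module.finrank F (cLine θ d) ≤ 2 := CfsgLib.Geometry.finrank_pair_le (F := F) d (θ d)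
        omega) 1
      have hw0 : w ≠ 0 := fun e => hwn (e ▸ Submodule.zero_mem _)
      refine two w z hw0 (two d w hd0 hF hd hw hwn) hw hz fun hzw => hwn ?_
      have h1 := hU.cLine_symm hzw hz0
      obtain ⟨a, b, hab⟩ := Submodule.mem_span_pair.1 h1
      rw [← hab]
      exact add_mem (Submodule.smul_mem _ _ hzd) (Submodule.smul_mem _ _ (hU.cLine_mapsTo hzd))
    · exact two d z hd0 hF hd hz hzd
  intro v
  by_cases hv : hermQ θ v = 0
  · exact hsing v hv
  have hv0 : v ≠ 0 := fun e => hv (by rw [e, QuadraticMap.map_zero])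
  -- split `v` into two singular vectors
  have hθv : θ v ∉ Submodule.span F {v} := fun hm' => by
    obtain ⟨s, hs⟩ := Submodule.mem_span_singleton.1 hm'
    exact one_ne_zero (h.aniso (-s) 1 v hv0 (by rw [← hs]; module)).2
  set S := Submodule.span F {θ v - v}
  have hxS : v ∉ S := fun hm' => by
    obtain ⟨s, hs⟩ := Submodule.mem_span_singleton.1 hm'
    exact hθv (Submodule.mem_span_singleton.2 ⟨s⁻¹ * (1 + s), by
      have hs0 : s ≠ 0 := fun e => hv0 (by rw [← hs, e, zero_smul])
      have h1 : s • θ v = (1 + s) • v := by linear_combination (norm := module) hs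
      rw [mul_smul, ← h1, smul_smul, inv_mul_cancel₀ hs0, one_smul]⟩)
  obtain ⟨e, he, heS, hev, -⟩ := exists_singular_polar hQ S hxS (by
    have : Module.finrank F S ≤ 1 := (finrank_span_le_card _).trans (by simp)
    omega) 1
  have heθv : polar (hermQ θ) e (θ v) = 1 := by
    have := heS _ (Submodule.mem_span_singleton_self _)
    rwa [polar_sub_right, hev, sub_eq_zero] at this
  have hev' : sf e v ≠ 0 := fun hc => by
    rw [h.polar_eq, h.theta_theta, hc] at heθv
    simp at heθv
  set a := hermQ θ v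
  have hw : hermQ θ (v + (-a) • e) = 0 := by
    simp only [CfsgLib.Geometry.map_add', CfsgLib.Geometry.map_smul', CfsgLib.Geometry.polar_smul_right', he,
      QuadraticMap.polar_comm (hermQ θ) v e, hev, a]
    ring
  have := SpFull.move hMS (hsing e he) (hsing _ hw) (by
    rw [sf_add_left, sf_smul_left, sf_alt, mul_zero, add_zero, sf_skew]
    exact neg_ne_zero.2 hev') a
  rwa [show v + (-a) • e + a • e = v by module] at this

include h in
theorem SpUnitaryStr.stab_max (h2 : (2 : F) ≠ 0) (hm : 5 ≤ m) (hMS : M ≤ Cfsg.spGL m F)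
    (hst : ∀ u c, hermQ θ u = 0 → utv θ δ c u ∈ M)
    (hne : ∃ g ∈ M, ¬ ∃ a b : F, ∀ v, (g : MM) *ᵥ θ v = a • ((g : MM) *ᵥ v) + b • θ ((g : MM) *ᵥ v)) :
    M = Cfsg.spGL m F := by
  obtain ⟨g, hg, hgn⟩ := hne
  have hQ := h.nondegenerate h2 (by omega)
  have hdim : Module.finrank F VV = m + m := by simp
  obtain ⟨u₀, hu₀0, hu₀, hmv⟩ : ∃ u₀, u₀ ≠ 0 ∧ hermQ θ u₀ = 0 ∧
      θ ((g : MM) *ᵥ u₀) ∉ Submodule.span F ({(g : MM) *ᵥ u₀, (g : MM) *ᵥ θ u₀} : Set VV) := by
    by_contra hc
    push Not at hc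
    let T : VV →ₗ[F] VV :=
      (((g⁻¹ : GG) : MM)).mulVecLin ∘ₗ θ ∘ₗ ((g : MM)).mulVecLin
    have hgT : ∀ v, (g : MM) *ᵥ T v = θ ((g : MM) *ᵥ v) := fun v => by
      simp [T, Matrix.mulVec_mulVec, ← Units.val_mul]
    obtain ⟨a, b, hab⟩ := scalar_of_cLine hQ h.unitaryStr (by omega) (T := T) fun v hv => by
      by_cases hv0 : v = 0
      · subst hv0; simp [T]
      obtain ⟨c, d, hcd⟩ := Submodule.mem_span_pair.1 (hc v hv0 hv)
      refine Submodule.mem_span_pair.2 ⟨c, d, mulVec_inj g ?_⟩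
      show (g : MM) *ᵥ (c • v + d • θ v) = (g : MM) *ᵥ T v
      rw [hgT, ← hcd, Matrix.mulVec_add, Matrix.mulVec_smul, Matrix.mulVec_smul]
    obtain ⟨u₁, hu₁0, hu₁⟩ := CfsgLib.Geometry.exists_singular hQ (by omega)
    have hb : b ≠ 0 := by
      intro hb
      have h2' := hgT u₁
      rw [hab, hb, zero_smul, add_zero, Matrix.mulVec_smul] at h2'
      refine one_ne_zero (h.aniso (-a) 1 ((g : MM) *ᵥ u₁) (fun e => hu₁0 (mulVec_inj g (e.trans
        (Matrix.mulVec_zero _).symm))) (by rw [← h2']; module)).2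
    refine hgn ⟨-(b⁻¹ * a), b⁻¹, fun v => ?_⟩
    have h2' := hgT v
    rw [hab, Matrix.mulVec_add, Matrix.mulVec_smul, Matrix.mulVec_smul] at h2'
    rw [← h2', smul_add, smul_smul, smul_smul, inv_mul_cancel₀ hb, one_smul]
    module
  obtain ⟨d, hd0, hd, hF⟩ := h.exists_full h2 hm hMS hst hg hu₀0 hu₀ hmv
  exact spGL_eq_of_full hMS (h.all_full h2 hm hMS hst hd0 hd hF)

end CfsgLib.OrthMax
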