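import Cfsg.Agent.Lib.OrthMax.SpUnitary

/-! The stabiliser of a unitary structure is maximal in the symplectic group of dimension six. -/

set_option autoImplicit false
set_option linter.unusedSectionVars false
set_option linter.unusedVariables false
set_option linter.unusedSimpArgs false

namespace CfsgLib.OrthMax

open CfsgLib.Maximal QuadraticMap CfsgLib.Geometry
open scoped Matrix

variable {m : ℕ} {F : Type*} [Field F] [Finite F]

local notation "sf" => Cfsg.sympForm m F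
local notation "VV" => (Fin m ⊕ Fin m → F)
local notation "MM" => Matrix (Fin m ⊕ Fin m) (Fin m ⊕ Fin m) F
local notation "GG" => Matrix.GeneralLinearGroup (Fin m ⊕ Fin m) F

variable {θ : (Fin m ⊕ Fin m → F) →ₗ[F] (Fin m ⊕ Fin m → F)} {δ : F}

/-- A non-degenerate subspace of dimension at least two represents every scalar. -/
theorem exists_value_of_nondeg {V : Type*} [AddCommGroup V] [Module F V] [FiniteDimensional F V]
    {Q : QuadraticForm F V} (P : Submodule F V) (hP : P ⊓ polarPerp Q P = ⊥)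
    (hd : 2 ≤ Module.finrank F P) (c : F) : ∃ t ∈ P, Q t = c := by
  have hcomp : ∀ x y : P, polar (Q.comp P.subtype) x y = polar Q (x : V) y := fun x y => by
    simp [QuadraticMap.polar]
  have hl : ∀ x : P, (∀ y : P, polar (Q.comp P.subtype) x y = 0) → x = 0 := fun x hx => by
    refine Subtype.ext ((Submodule.mem_bot F).1 (hP ▸ ⟨x.2, mem_polarPerp.2 fun y hy => ?_⟩))
    rw [QuadraticMap.polar_comm, ← hcomp x ⟨y, hy⟩]
    exact hx _
  obtain ⟨t, ht⟩ := exists_represents (Q := Q.comp P.subtype)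
    ⟨fun x hx => hl x hx, fun y hy => hl y fun x => by rw [QuadraticMap.polar_comm]; exact hy x⟩ hd c
  exact ⟨t, t.2, by simpa using ht⟩

variable (h : SpUnitaryStr θ δ)

include h in
theorem SpUnitaryStr.polar_flip (a b : VV) : polar (hermQ θ) (θ a) b = -polar (hermQ θ) a (θ b) := by
  rw [h.unitaryStr.adjoint]; ring

include h in
theorem SpUnitaryStr.finrank_cLine {v : VV} (hv : v ≠ 0) : Module.finrank F (cLine θ v) = 2 := by
  have hli : LinearIndependent F ![v, θ v] := LinearIndependent.pair_iff.2 fun a b hab => h.aniso a b v hv hab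
  have h1 := finrank_span_eq_card hli
  rwa [Matrix.range_cons_cons_empty, Fintype.card_fin] at h1

include h in
/-- Two independent singular lines in dimension six are not orthogonal. -/
theorem SpUnitaryStr.pair_ne_zero (h2 : (2 : F) ≠ 0) (hm : m = 3) {e z : VV} (he0 : e ≠ 0)
    (he : hermQ θ e = 0) (hz : hermQ θ z = 0) (hze : z ∉ cLine θ e) :
    polar (hermQ θ) e z ≠ 0 ∨ polar (hermQ θ) e (θ z) ≠ 0 := by
  by_contra hc
  push Not at hc
  have hU := h.unitaryStr
  set T := cLine θ e ⊔ cLine θ z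
  have hz0 : z ≠ 0 := fun h0 => hze (h0 ▸ zero_mem _)
  have hT : T ≤ polarPerp (hermQ θ) T := by
    intro x hx
    refine mem_polarPerp.2 fun y hy => ?_
    obtain ⟨x₁, hx₁, x₂, hx₂, rfl⟩ := Submodule.mem_sup.1 hx
    obtain ⟨y₁, hy₁, y₂, hy₂, rfl⟩ := Submodule.mem_sup.1 hy
    obtain ⟨a, b, rfl⟩ := Submodule.mem_span_pair.1 hx₁
    obtain ⟨c, d, rfl⟩ := Submodule.mem_span_pair.1 hx₂
    obtain ⟨a', b', rfl⟩ := Submodule.mem_span_pair.1 hy₁
    obtain ⟨c', d', rfl⟩ := Submodule.mem_span_pair.1 hy₂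
    have k1 : polar (hermQ θ) z e = 0 := by rw [QuadraticMap.polar_comm]; exact hc.1
    have k2 : polar (hermQ θ) (θ z) e = 0 := by rw [QuadraticMap.polar_comm]; exact hc.2
    have k3 : polar (hermQ θ) (θ e) z = 0 := by rw [h.polar_flip, hc.2, neg_zero]
    have k4 : polar (hermQ θ) z (θ e) = 0 := by rw [QuadraticMap.polar_comm]; exact k3
    have k5 : polar (hermQ θ) (θ e) e = 0 := by rw [QuadraticMap.polar_comm]; exact hU.self_perp he
    have k6 : polar (hermQ θ) (θ z) z = 0 := by rw [QuadraticMap.polar_comm]; exact hU.self_perp hz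
    simp only [polar_add_left, polar_add_right, polar_smul_left', polar_smul_right', polar_self', hU.polar_theta,
      he, hz, hU.self_perp he, hU.self_perp hz, hc.1, hc.2, k1, k2, k3, k4, k5, k6, mul_zero, add_zero]
  have hinf : cLine θ e ⊓ cLine θ z = ⊥ := by
    rw [eq_bot_iff]
    rintro x ⟨hx, hx'⟩
    rw [Submodule.mem_bot]
    by_contra hx0
    obtain ⟨c, d, hcd⟩ := Submodule.mem_span_pair.1 (hU.cLine_symm hx' hx0)
    exact hze (by rw [← hcd]; exact add_mem (Submodule.smul_mem _ _ hx) (Submodule.smul_mem _ _ (hU.cLine_mapsTo hx)))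
  have h1 := Submodule.finrank_sup_add_finrank_inf_eq (cLine θ e) (cLine θ z)
  have h3 := finrank_polarPerp (h.nondegenerate h2 (by omega)) T
  have h4 := Submodule.finrank_mono hT
  have hdim : Module.finrank F VV = m + m := by simp
  rw [hinf, finrank_bot, h.finrank_cLine he0, h.finrank_cLine hz0] at h1
  change Module.finrank F T + 0 = 2 + 2 at h1
  omega

include h in
theorem SpUnitaryStr.pair_ne_zero_or (h2 : (2 : F) ≠ 0) (hm : m = 3) {e z : VV} (he0 : e ≠ 0)
    (he : hermQ θ e = 0) (hze : z ∉ cLine θ e) :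
    hermQ θ z ≠ 0 ∨ polar (hermQ θ) e z ≠ 0 ∨ polar (hermQ θ) e (θ z) ≠ 0 := by
  by_cases hz : hermQ θ z = 0
  · exact Or.inr (h.pair_ne_zero h2 hm he0 he hz hze)
  · exact Or.inl hz

include h in
/-- A vector orthogonal to `m₁`, `θ m₁`, `θ m₂` with unit product with `m₂` and any norm. -/
theorem SpUnitaryStr.exists_adapted (h2 : (2 : F) ≠ 0) (hm : 3 ≤ m) {m₁ m₂ : VV} (hm₂ : m₂ ∉ cLine θ m₁)
    (hnd : hermQ θ m₁ ≠ 0 ∨ polar (hermQ θ) m₁ m₂ ≠ 0 ∨ polar (hermQ θ) m₁ (θ m₂) ≠ 0) (c : F) :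
    ∃ w, polar (hermQ θ) w m₁ = 0 ∧ polar (hermQ θ) w (θ m₁) = 0 ∧ polar (hermQ θ) w (θ m₂) = 0 ∧
      polar (hermQ θ) w m₂ = 1 ∧ hermQ θ w = c := by
  have hQ := h.nondegenerate h2 (by omega)
  have hU := h.unitaryStr
  have hδ := h.delta_ne_zero (by omega)
  have hdim : Module.finrank F VV = m + m := by simp
  have hm₂0 : m₂ ≠ 0 := fun e => hm₂ (e ▸ zero_mem _)
  set Q := hermQ θ
  set S := cLine θ m₁ ⊔ Submodule.span F {θ m₂}
  have hxS : m₂ ∉ S := by
    intro hmem
    obtain ⟨l, hl, y, hy, he⟩ := Submodule.mem_sup.1 hmem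
    obtain ⟨s, rfl⟩ := Submodule.mem_span_singleton.1 hy
    have hz : (1 : F) • m₂ + (-s) • θ m₂ ∈ cLine θ m₁ := by
      rw [show (1 : F) • m₂ + (-s) • θ m₂ = l by linear_combination (norm := module) -he]; exact hl
    by_cases hz0 : (1 : F) • m₂ + (-s) • θ m₂ = 0
    · exact one_ne_zero (h.aniso _ _ m₂ hm₂0 hz0).1
    have hzm : (1 : F) • m₂ + (-s) • θ m₂ ∈ cLine θ m₂ := Submodule.mem_span_pair.2 ⟨_, _, rfl⟩
    obtain ⟨c, d, hcd⟩ := Submodule.mem_span_pair.1 (hU.cLine_symm hzm hz0)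
    exact hm₂ (by rw [← hcd]; exact add_mem (Submodule.smul_mem _ _ hz) (Submodule.smul_mem _ _ (hU.cLine_mapsTo hz)))
  obtain ⟨w₀, hw₀, hw₀x⟩ := exists_polar hQ S hxS 1
  set X := S ⊔ Submodule.span F {m₂}
  set P := polarPerp Q X
  have hX : Module.finrank F X ≤ 4 := by
    refine (Submodule.finrank_add_le_finrank_add_finrank _ _).trans ?_
    have h1 : Module.finrank F S ≤ 3 := by
      refine (Submodule.finrank_add_le_finrank_add_finrank _ _).trans ?_
      have h1 : Module.finrank F (cLine θ m₁) ≤ 2 := finrank_pair_le (F := F) m₁ (θ m₁)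
      have : Module.finrank F (Submodule.span F {θ m₂}) ≤ 1 := (finrank_span_le_card _).trans (by simp)
      omega
    have : Module.finrank F (Submodule.span F {m₂}) ≤ 1 := (finrank_span_le_card _).trans (by simp)
    omega
  have hXθ : ∀ x ∈ X, θ x ∈ X := by
    intro x hx
    obtain ⟨s, hs, y, hy, rfl⟩ := Submodule.mem_sup.1 hx
    obtain ⟨l, hl, z, hz, rfl⟩ := Submodule.mem_sup.1 hs
    obtain ⟨a, rfl⟩ := Submodule.mem_span_singleton.1 hy
    obtain ⟨b, rfl⟩ := Submodule.mem_span_singleton.1 hz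
    rw [map_add, map_add, map_smul, map_smul, h.sq, smul_smul]
    exact add_mem (add_mem (Submodule.mem_sup_left (Submodule.mem_sup_left (hU.cLine_mapsTo hl)))
      (Submodule.mem_sup_right (Submodule.smul_mem _ _ (Submodule.mem_span_singleton_self _))))
      (Submodule.smul_mem _ _ (Submodule.mem_sup_left (Submodule.mem_sup_right (Submodule.mem_span_singleton_self _))))
  have hPθ : ∀ t ∈ P, θ t ∈ P := fun t ht => mem_polarPerp.2 fun x hx => by
    rw [QuadraticMap.polar_comm, h.polar_flip, QuadraticMap.polar_comm, mem_polarPerp.1 ht _ (hXθ x hx), neg_zero]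
  have hPp : ∀ t ∈ P, ∀ s ∈ X, polar Q t s = 0 := fun t ht s hs => by
    rw [QuadraticMap.polar_comm]; exact mem_polarPerp.1 ht s hs
  have hm₁X : m₁ ∈ X := Submodule.mem_sup_left (Submodule.mem_sup_left (mem_cLine_left m₁))
  have hθm₁X : θ m₁ ∈ X := Submodule.mem_sup_left (Submodule.mem_sup_left (mem_cLine_right m₁))
  have hθm₂X : θ m₂ ∈ X := Submodule.mem_sup_left (Submodule.mem_sup_right (Submodule.mem_span_singleton_self _))
  have hm₂X : m₂ ∈ X := Submodule.mem_sup_right (Submodule.mem_span_singleton_self _)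
  have mk : ∀ w, (∀ s ∈ S, polar Q w s = 0) → polar Q w m₂ = 1 → Q w = c → ∃ w, polar Q w m₁ = 0 ∧
      polar Q w (θ m₁) = 0 ∧ polar Q w (θ m₂) = 0 ∧ polar Q w m₂ = 1 ∧ Q w = c := fun w hwS hwx hwc =>
    ⟨w, hwS _ (Submodule.mem_sup_left (mem_cLine_left m₁)), hwS _ (Submodule.mem_sup_left (mem_cLine_right m₁)),
      hwS _ (Submodule.mem_sup_right (Submodule.mem_span_singleton_self _)), hwx, hwc⟩
  have hPX : polarPerp Q P = X := by
    refine (Submodule.eq_of_le_of_finrank_eq (fun y hy => mem_polarPerp.2 fun t ht => hPp t ht y hy) ?_).symm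
    have h1 := finrank_polarPerp hQ X
    have h3 := finrank_polarPerp hQ P
    change Module.finrank F P + Module.finrank F X = _ at h1
    omega
  by_cases hR : ∃ r ∈ P ⊓ polarPerp Q P, polar Q w₀ r ≠ 0
  · obtain ⟨r, ⟨hr, hr'⟩, hwr⟩ := hR
    have hrr : polar Q r r = 0 := mem_polarPerp.1 hr' r hr
    have hr0 : Q r = 0 := by
      rw [polar_self'] at hrr
      exact (mul_eq_zero.1 hrr).resolve_left h2
    refine mk (w₀ + ((c - Q w₀) / polar Q w₀ r) • r) (fun s hs => ?_) ?_ ?_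
    · rw [polar_add_left, polar_smul_left', hw₀ s hs, hPp r hr s (Submodule.mem_sup_left hs)]; ring
    · rw [polar_add_left, polar_smul_left', hw₀x, hPp r hr m₂ hm₂X]; ring
    · rw [map_add', map_smul', hr0, polar_smul_right']
      field_simp
      ring
  push Not at hR
  have hbot : P ⊓ polarPerp Q P = ⊥ := by
    have hRS : ∀ r ∈ P ⊓ polarPerp Q P, r ∈ S := by
      intro r hr
      obtain ⟨s, hs, y, hy, rfl⟩ := Submodule.mem_sup.1 (hPX ▸ hr.2 : r ∈ X)
      obtain ⟨l, rfl⟩ := Submodule.mem_span_singleton.1 hy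
      have := hR _ hr
      rw [polar_add_right, hw₀ s hs, polar_smul_right', hw₀x, mul_one, zero_add] at this
      rw [this, zero_smul, add_zero]; exact hs
    rw [eq_bot_iff]
    intro r hr
    rw [Submodule.mem_bot]
    have hθr : θ r ∈ P ⊓ polarPerp Q P := ⟨hPθ r hr.1, by rw [hPX]; exact hXθ r (hPX ▸ hr.2)⟩
    obtain ⟨l, hl, y, hy, he⟩ := Submodule.mem_sup.1 (hRS r hr)
    obtain ⟨e, rfl⟩ := Submodule.mem_span_singleton.1 hy
    have h1 := hR _ hθr
    rw [← he, map_add, map_smul, h.sq, polar_add_right, hw₀ _ (Submodule.mem_sup_left (hU.cLine_mapsTo hl)),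
      polar_smul_right', polar_smul_right', hw₀x, zero_add, mul_one] at h1
    have he0 : e = 0 := (mul_eq_zero.1 h1).resolve_right hδ
    subst he0
    rw [zero_smul, add_zero] at he
    subst he
    by_contra hl0
    obtain ⟨a, b, hab⟩ := Submodule.mem_span_pair.1 (hU.cLine_symm hl hl0)
    have hm₁P : m₁ ∈ P := by rw [← hab]; exact add_mem (P.smul_mem _ hr.1) (P.smul_mem _ hθr.1)
    have e1 : polar Q m₁ m₁ = 0 := hPp m₁ hm₁P m₁ hm₁X
    rw [polar_self'] at e1
    rcases hnd with hn | hn | hn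
    · exact hn ((mul_eq_zero.1 e1).resolve_left h2)
    · exact hn (hPp m₁ hm₁P m₂ hm₂X)
    · exact hn (hPp m₁ hm₁P _ hθm₂X)
  have hPd := finrank_polarPerp hQ X
  change Module.finrank F P + Module.finrank F X = _ at hPd
  have htop : P ⊔ X = ⊤ := by
    refine Submodule.eq_top_of_finrank_eq ?_
    have h1 := Submodule.finrank_sup_add_finrank_inf_eq P X
    rw [show P ⊓ X = ⊥ by rw [← hPX]; exact hbot, finrank_bot] at h1
    omega
  obtain ⟨t₀, ht₀, w₁, hw₁, hsum⟩ := Submodule.mem_sup.1 (htop ▸ Submodule.mem_top : w₀ ∈ P ⊔ X)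
  obtain ⟨t, ht, htv⟩ := exists_value_of_nondeg (Q := Q) P hbot (by omega) (c - Q w₁)
  have hw₁p : ∀ s ∈ X, polar Q w₁ s = polar Q w₀ s := fun s hs => by
    rw [← hsum, polar_add_left, hPp t₀ ht₀ s hs, zero_add]
  refine mk (w₁ + t) (fun s hs => ?_) ?_ ?_
  · rw [polar_add_left, hw₁p s (Submodule.mem_sup_left hs), hw₀ s hs, hPp t ht s (Submodule.mem_sup_left hs), add_zero]
  · rw [polar_add_left, hw₁p _ hm₂X, hw₀x, hPp t ht _ hm₂X, add_zero]
  · rw [map_add', htv, QuadraticMap.polar_comm, hPp t ht w₁ hw₁]; ring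

include h in
/-- A singular vector orthogonal for the polar form to two independent singular ones. -/
theorem SpUnitaryStr.exists_link (h2 : (2 : F) ≠ 0) (hm : m = 3) {e z : VV} (he0 : e ≠ 0)
    (he : hermQ θ e = 0) (hz : hermQ θ z = 0) (hze : z ∉ cLine θ e) :
    ∃ w, hermQ θ w = 0 ∧ w ≠ 0 ∧ (polar (hermQ θ) e w = 0 ∧ polar (hermQ θ) z w = 0) ∧ w ∉ cLine θ e ∧
      w ∉ cLine θ z := by
  have hU := h.unitaryStr
  have hδ := h.delta_ne_zero (by omega)
  have hne := h.pair_ne_zero h2 hm he0 he hz hze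
  have hze' : θ e ∉ cLine θ (e + z) := by
    intro hmem
    have hθe0 : θ e ≠ 0 := fun h0 => one_ne_zero (h.aniso 0 1 e he0 (by simp [h0])).2
    obtain ⟨a, b, hab⟩ := Submodule.mem_span_pair.1 (hU.cLine_symm hmem hθe0)
    refine hze ?_
    have : z = a • θ e + b • θ (θ e) - e := by rw [hab]; abel
    rw [this, h.sq, smul_smul]
    exact sub_mem (add_mem (Submodule.smul_mem _ _ (mem_cLine_right e)) (Submodule.smul_mem _ _ (mem_cLine_left e)))
      (mem_cLine_left e)
  obtain ⟨w, w1, w2, w3, w4, w5⟩ := h.exists_adapted h2 (by omega) hze' (by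
    rcases hne with hn | hn
    · exact Or.inl (by rw [map_add', he, hz, zero_add, zero_add]; exact hn)
    · refine Or.inr (Or.inl ?_)
      rw [polar_add_left, hU.self_perp he, zero_add, QuadraticMap.polar_comm, h.polar_flip]
      exact neg_ne_zero.2 hn) 0
  rw [h.sq, polar_smul_right', mul_eq_zero] at w3
  have hwe : polar (hermQ θ) w e = 0 := w3.resolve_left hδ
  rw [polar_add_right, hwe, zero_add] at w1
  rw [map_add, polar_add_right, w4] at w2
  refine ⟨w, w5, fun h0 => ?_, ⟨by rw [QuadraticMap.polar_comm]; exact hwe, by rw [QuadraticMap.polar_comm]; exact w1⟩,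
    fun hmem => ?_, fun hmem => ?_⟩
  · rw [h0, polar_zero_left] at w4; exact zero_ne_one w4
  · obtain ⟨a, b, rfl⟩ := Submodule.mem_span_pair.1 hmem
    rw [polar_add_left, polar_smul_left', polar_smul_left', hU.self_perp he, hU.polar_theta, polar_self', he] at w4
    simp at w4
  · obtain ⟨a, b, rfl⟩ := Submodule.mem_span_pair.1 hmem
    rw [polar_add_left, polar_smul_left', polar_smul_left', hU.self_perp hz, hU.polar_theta, polar_self', hz] at w2
    simp at w2

include h in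
/-- A linear map preserving every singular line is a scalar of the extension field. -/
theorem SpUnitaryStr.scalar_of_cLine₃ (h2 : (2 : F) ≠ 0) (hm : m = 3) {T : VV →ₗ[F] VV}
    (hT : ∀ v, hermQ θ v = 0 → T v ∈ cLine θ v) : ∃ a b : F, ∀ v, T v = a • v + b • θ v := by
  classical
  have hQ := h.nondegenerate h2 (by omega)
  have hU := h.unitaryStr
  have hdim : Module.finrank F VV = m + m := by simp
  choose! α β hab using fun v hv => Submodule.mem_span_pair.1 (hT v hv)
  have adj : ∀ v w, v ≠ 0 → w ≠ 0 → hermQ θ v = 0 → hermQ θ w = 0 → polar (hermQ θ) v w = 0 → w ∉ cLine θ v →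
      α v = α w ∧ β v = β w := by
    intro v w hv0 hw0 hv hw hvw hwv
    have hs : hermQ θ (v + w) = 0 := by rw [map_add', hv, hw, hvw]; ring
    have h1 := hab _ hs
    rw [map_add T, ← hab v hv, ← hab w hw, map_add θ] at h1
    have hx : (α (v + w) - α v) • v + (β (v + w) - β v) • θ v +
        ((α (v + w) - α w) • w + (β (v + w) - β w) • θ w) = 0 := by linear_combination (norm := module) h1
    have hz : (α (v + w) - α w) • w + (β (v + w) - β w) • θ w = 0 := by
      by_contra hz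
      have hzv : (α (v + w) - α w) • w + (β (v + w) - β w) • θ w ∈ cLine θ v := by
        rw [show (α (v + w) - α w) • w + (β (v + w) - β w) • θ w =
          (-(α (v + w) - α v)) • v + (-(β (v + w) - β v)) • θ v by linear_combination (norm := module) hx]
        exact Submodule.mem_span_pair.2 ⟨_, _, rfl⟩
      have hzw : (α (v + w) - α w) • w + (β (v + w) - β w) • θ w ∈ cLine θ w :=
        Submodule.mem_span_pair.2 ⟨_, _, rfl⟩
      obtain ⟨c, d, hcd⟩ := Submodule.mem_span_pair.1 (hU.cLine_symm hzw hz)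
      exact hwv (by rw [← hcd]; exact add_mem (Submodule.smul_mem _ _ hzv) (Submodule.smul_mem _ _ (hU.cLine_mapsTo hzv)))
    obtain ⟨e1, e2⟩ := h.aniso _ _ w hw0 hz
    rw [hz, add_zero] at hx
    obtain ⟨e3, e4⟩ := h.aniso _ _ v hv0 hx
    exact ⟨(sub_eq_zero.1 e3).symm.trans (sub_eq_zero.1 e1), (sub_eq_zero.1 e4).symm.trans (sub_eq_zero.1 e2)⟩
  obtain ⟨v₀, hv₀0, hv₀⟩ := CfsgLib.Geometry.exists_singular hQ (by omega)
  have far : ∀ v, v ≠ 0 → hermQ θ v = 0 → v ∉ cLine θ v₀ → α v = α v₀ ∧ β v = β v₀ := by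
    intro v hv0 hv hvv
    obtain ⟨c, hc, hc1, hc2, hc3, hc4⟩ := h.exists_link h2 hm hv₀0 hv₀ hv hvv
    obtain ⟨a1, b1⟩ := adj v₀ c hv₀0 hc1 hv₀ hc hc2.1 hc3
    obtain ⟨a2, b2⟩ := adj v c hv0 hc1 hv hc hc2.2 hc4
    exact ⟨a2.trans a1.symm, b2.trans b1.symm⟩
  obtain ⟨y, hy, -, hyx, -⟩ := exists_singular_polar hQ ⊥ (x := v₀) (fun hm' => hv₀0 ((Submodule.mem_bot F).1 hm'))
    (by rw [finrank_bot]; omega) 1
  have hyv₀ : y ∉ cLine θ v₀ := fun hm' => by
    obtain ⟨a, b, rfl⟩ := Submodule.mem_span_pair.1 hm'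
    rw [polar_add_left, polar_smul_left', polar_smul_left', polar_self', hv₀,
      QuadraticMap.polar_comm _ (θ v₀), hU.self_perp hv₀] at hyx
    simp at hyx
  have hy0 : y ≠ 0 := fun e => hyv₀ (e ▸ zero_mem _)
  have uni : ∀ v, v ≠ 0 → hermQ θ v = 0 → α v = α v₀ ∧ β v = β v₀ := by
    intro v hv0 hv
    by_cases hvv : v ∈ cLine θ v₀
    · have hvy : v ∉ cLine θ y := fun hm' => hyv₀ (by
        obtain ⟨a, b, hab'⟩ := Submodule.mem_span_pair.1 (hU.cLine_symm hm' hv0)
        rw [← hab']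
        exact add_mem (Submodule.smul_mem _ _ hvv) (Submodule.smul_mem _ _ (hU.cLine_mapsTo hvv)))
      obtain ⟨a1, b1⟩ := far y hy0 hy hyv₀
      obtain ⟨c, hc, hc1, hc2, hc3, hc4⟩ := h.exists_link h2 hm hy0 hy hv hvy
      obtain ⟨a2, b2⟩ := adj y c hy0 hc1 hy hc hc2.1 hc3
      obtain ⟨a3, b3⟩ := adj v c hv0 hc1 hv hc hc2.2 hc4
      exact ⟨a3.trans (a2.symm.trans a1), b3.trans (b2.symm.trans b1)⟩
    · exact far v hv0 hv hvv
  refine ⟨α v₀, β v₀, fun v => ?_⟩
  have hS : ∀ v, hermQ θ v = 0 → T v = α v₀ • v + β v₀ • θ v := fun v hv => by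
    by_cases hv0 : v = 0
    · subst hv0; simp
    · obtain ⟨e1, e2⟩ := uni v hv0 hv
      rw [← e1, ← e2, hab v hv]
  by_cases hv0 : v = 0
  · subst hv0; simp
  obtain ⟨e, he, -, hev, -⟩ := exists_singular_polar hQ ⊥ (fun hm' => hv0 ((Submodule.mem_bot F).1 hm'))
    (by rw [finrank_bot]; omega) 1
  have hf : hermQ θ (v + (-(hermQ θ v)) • e) = 0 := by
    simp only [map_add', map_smul', polar_smul_right', he, QuadraticMap.polar_comm (hermQ θ) v e, hev]
    ring
  have h1 := hS _ hf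
  have h2' := hS e he
  simp only [map_add, map_smul, h2'] at h1
  linear_combination (norm := module) h1

/-- The reflection of the unitary space in the non-singular vector `d` with norm `c`. -/
noncomputable def hermRefl (θ : VV →ₗ[F] VV) (δ c : F) (d : VV) : VV →ₗ[F] VV :=
  LinearMap.id - (c⁻¹ • polarBilin (hermQ θ) d).smulRight d -
    ((-δ * c)⁻¹ • polarBilin (hermQ θ) (θ d)).smulRight (θ d)

theorem hermRefl_apply (c : F) (d v : VV) : hermRefl θ δ c d v =
    v - (c⁻¹ * polar (hermQ θ) d v) • d - ((-δ * c)⁻¹ * polar (hermQ θ) (θ d) v) • θ d := by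
  simp [hermRefl]

include h in
theorem SpUnitaryStr.exists_refl (h2 : (2 : F) ≠ 0) (hm : 0 < m) {c : F} (hc : c ≠ 0) {d : VV}
    (hd : hermQ θ d = c) : ∃ g : GG, g ∈ Cfsg.spGL m F ∧ (∀ v, (g : MM) *ᵥ θ v = θ ((g : MM) *ᵥ v)) ∧
      ∀ v, (g : MM) *ᵥ v = hermRefl θ δ c d v := by
  have hU := h.unitaryStr
  have hδ := h.delta_ne_zero hm
  have k1 : polar (hermQ θ) d d = 2 * c := by rw [polar_self', hd]
  have k2 : polar (hermQ θ) (θ d) d = 0 := by rw [hU.trace, zero_mul]
  have k3 : polar (hermQ θ) d (θ d) = 0 := by rw [QuadraticMap.polar_comm]; exact k2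
  have k4 : polar (hermQ θ) (θ d) (θ d) = -δ * (2 * c) := by rw [hU.polar_theta, k1]
  have hinv : ∀ v, hermRefl θ δ c d (hermRefl θ δ c d v) = v := fun v => by
    simp only [hermRefl_apply, polar_sub_right, polar_smul_right', k1, k2, k3, k4]
    match_scalars <;> field_simp <;> ring
  have hθ : ∀ v, hermRefl θ δ c d (θ v) = θ (hermRefl θ δ c d v) := fun v => by
    have e1 : polar (hermQ θ) d (θ v) = -polar (hermQ θ) (θ d) v := by rw [h.polar_flip, neg_neg]
    simp only [hermRefl_apply, map_sub, map_smul, h.sq, hU.polar_theta, e1]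
    match_scalars <;> field_simp <;> ring
  have hQr : ∀ v w, polar (hermQ θ) (hermRefl θ δ c d v) (hermRefl θ δ c d w) = polar (hermQ θ) v w := fun v w => by
    simp only [hermRefl_apply, polar_sub_right, polar_sub_left, polar_smul_right', polar_smul_left', k1, k2, k3, k4,
      QuadraticMap.polar_comm (hermQ θ) v d, QuadraticMap.polar_comm (hermQ θ) v (θ d)]
    field_simp
    ring
  have hf : ∀ a b, polar (hermQ θ) a (θ b) = -(2 * δ * sf a b) := fun a b => by
    rw [h.polar_eq, h.theta_theta]; ring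
  let g := glEquiv.symm (LinearEquiv.ofLinear (hermRefl θ δ c d) (hermRefl θ δ c d)
    (LinearMap.ext hinv) (LinearMap.ext hinv))
  have hg : ∀ v, (g : MM) *ᵥ v = hermRefl θ δ c d v := fun v => glEquiv_symm_mulVec _ v
  refine ⟨g, fun x y => ?_, fun v => by rw [hg, hg, hθ], hg⟩
  show sf ((g : MM) *ᵥ x) ((g : MM) *ᵥ y) = sf x y
  refine mul_left_cancel₀ (mul_ne_zero h2 hδ) (neg_injective ?_)
  rw [← hf, ← hf, hg, hg, ← hθ, hQr]

variable {M : Subgroup (Matrix.GeneralLinearGroup (Fin m ⊕ Fin m) F)}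

include h in
/-- A root element outside the unitary group gives a full point. -/
theorem SpUnitaryStr.exists_full₃ (h2 : (2 : F) ≠ 0) (hm : m = 3) (hMS : M ≤ Cfsg.spGL m F)
    (hst : ∀ u c, hermQ θ u = 0 → utv θ δ c u ∈ M)
    (hH : ∀ g ∈ Cfsg.spGL m F, (∀ v, (g : MM) *ᵥ θ v = θ ((g : MM) *ᵥ v)) → g ∈ M) {g : GG} (hg : g ∈ M)
    {u₀ : VV} (hu₀0 : u₀ ≠ 0) (hu₀ : hermQ θ u₀ = 0)
    (hmv : θ ((g : MM) *ᵥ u₀) ∉ Submodule.span F ({(g : MM) *ᵥ u₀, (g : MM) *ᵥ θ u₀} : Set VV)) :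
    ∃ d, hermQ θ d ≠ 0 ∧ SpFull M d := by
  have hU := h.unitaryStr
  have hδ := h.delta_ne_zero (by omega)
  have hinj : ∀ v, v ≠ 0 → (g : MM) *ᵥ v ≠ 0 := fun v hv e =>
    hv (mulVec_inj g (e.trans (Matrix.mulVec_zero _).symm))
  have hm₂L₀ : (g : MM) *ᵥ θ u₀ ∉ cLine θ ((g : MM) *ᵥ u₀) := by
    intro hmem
    obtain ⟨α, β, hab⟩ := Submodule.mem_span_pair.1 hmem
    by_cases hβ : β = 0
    · rw [hβ, zero_smul, add_zero] at hab
      have : θ u₀ = α • u₀ := mulVec_inj g (by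
        show (g : MM) *ᵥ θ u₀ = (g : MM) *ᵥ (α • u₀); rw [Matrix.mulVec_smul]; exact hab.symm)
      exact one_ne_zero (h.aniso (-α) 1 u₀ hu₀0 (by rw [this]; module)).2
    refine hmv (Submodule.mem_span_pair.2 ⟨-(β⁻¹ * α), β⁻¹, ?_⟩)
    rw [← hab, smul_add, smul_smul, smul_smul, inv_mul_cancel₀ hβ, one_smul]; module
  -- a good pair
  obtain ⟨m₁, m₂, hm₁0, hm₂L, hnd, u, hu0, hu, e1, e2⟩ : ∃ m₁ m₂ : VV, m₁ ≠ 0 ∧ m₂ ∉ cLine θ m₁ ∧
      (hermQ θ m₁ ≠ 0 ∨ polar (hermQ θ) m₁ m₂ ≠ 0 ∨ polar (hermQ θ) m₁ (θ m₂) ≠ 0) ∧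
      ∃ u, u ≠ 0 ∧ hermQ θ u = 0 ∧ (g : MM) *ᵥ u = m₁ ∧ (g : MM) *ᵥ θ u = m₂ := by
    have hθu0 : θ u₀ ≠ 0 := fun h0 => one_ne_zero (h.aniso 0 1 u₀ hu₀0 (by simp [h0])).2
    by_cases hq : hermQ θ ((g : MM) *ᵥ u₀) = 0
    · refine ⟨(g : MM) *ᵥ θ u₀, (g : MM) *ᵥ θ (θ u₀), hinj _ hθu0, ?_, ?_, θ u₀, hθu0,
        by rw [hU.norm, hu₀, mul_zero], rfl, rfl⟩
      · rw [h.sq, Matrix.mulVec_smul]
        intro hmem
        have hmem' : (g : MM) *ᵥ u₀ ∈ cLine θ ((g : MM) *ᵥ θ u₀) := by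
          have := Submodule.smul_mem _ δ⁻¹ hmem
          rwa [smul_smul, inv_mul_cancel₀ hδ, one_smul] at this
        exact hm₂L₀ (hU.cLine_symm hmem' (hinj _ hu₀0))
      · rcases h.pair_ne_zero_or h2 hm (hinj _ hu₀0) hq hm₂L₀ with hn | hn | hn
        · exact Or.inl hn
        · refine Or.inr (Or.inl ?_)
          rw [h.sq, Matrix.mulVec_smul, polar_smul_right', QuadraticMap.polar_comm]
          exact mul_ne_zero hδ hn
        · refine Or.inr (Or.inr ?_)
          rw [h.sq, Matrix.mulVec_smul, map_smul, polar_smul_right', QuadraticMap.polar_comm, h.polar_flip]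
          exact mul_ne_zero hδ (neg_ne_zero.2 hn)
    · exact ⟨_, _, hinj _ hu₀0, hm₂L₀, Or.inl hq, u₀, hu₀0, hu₀, rfl, rfl⟩
  subst e1 e2
  set m₁ := (g : MM) *ᵥ u
  set m₂ := (g : MM) *ᵥ θ u
  -- the norm of `d` avoids one value
  obtain ⟨c, hc, hcv⟩ : ∃ c : F, c ≠ 0 ∧ 4 * c * hermQ θ m₂ ≠ 1 := by
    by_cases h1 : 4 * (1 : F) * hermQ θ m₂ = 1
    · exact ⟨-1, neg_ne_zero.2 one_ne_zero, fun h' => h2 (by linear_combination -h' - h1)⟩
    · exact ⟨1, one_ne_zero, h1⟩
  obtain ⟨d, d1, d2, d3, d4, d5⟩ := h.exists_adapted h2 (by omega) hm₂L hnd c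
  obtain ⟨R, hRS, hRθ, hR⟩ := h.exists_refl h2 (by omega) hc d5
  have hRM := hH R hRS hRθ
  have cv1 : ∀ a b, polar (hermQ θ) a (θ b) = -(2 * δ * sf a b) := fun a b => by
    rw [h.polar_eq, h.theta_theta]; ring
  have k2 : polar (hermQ θ) (θ d) m₂ = 0 := by rw [h.polar_flip, d3, neg_zero]
  have hR1 : (R : MM) *ᵥ m₁ = m₁ := by
    rw [hR, hermRefl_apply, d1, h.polar_flip, d2]
    simp
  set r := (-c⁻¹) • d
  have hR2 : (R : MM) *ᵥ m₂ = m₂ + r := by
    rw [hR, hermRefl_apply, d4, k2]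
    simp only [r, mul_zero, mul_one, zero_smul, sub_zero, neg_smul, ← sub_eq_add_neg]
  have hmd : sf m₂ d = 0 := by
    have := cv1 d m₂
    rw [d3] at this
    rw [sf_skew]
    simpa [h2, hδ] using this.symm
  have hwr : sf m₂ r = 0 := by simp only [r, sf_smul_right, hmd, mul_zero]
  have hA : stv (-(δ * 1)) m₁ * stv 1 m₂ ∈ M := by
    simp only [m₁, m₂]
    rw [← stv_conj (hMS hg) (-(δ * 1)) u, ← stv_conj (hMS hg) 1 (θ u)]
    have := mul_mem (mul_mem hg (hst u 1 hu)) (inv_mem hg)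
    rw [utv] at this
    convert this using 1
    group
  have hw : heis m₂ r ∈ M := by
    have hA' := mul_mem (mul_mem hRM hA) (inv_mem hRM)
    rw [show R * (stv (-(δ * 1)) m₁ * stv 1 m₂) * R⁻¹ = (R * stv (-(δ * 1)) m₁ * R⁻¹) * (R * stv 1 m₂ * R⁻¹) by group,
      stv_conj hRS, stv_conj hRS, hR1, hR2] at hA'
    have hinv : (stv (1 : F) m₂)⁻¹ = stv (-1) m₂ := by
      refine inv_eq_of_mul_eq_one_right (Units.ext (CfsgLib.Geometry.matrix_eq_of_mulVec fun x => ?_))
      simp only [Units.val_mul, ← Matrix.mulVec_mulVec, stv_mulVec, sf_add_left, sf_smul_left, sf_alt,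
        Units.val_one, Matrix.one_mulVec]
      module
    rw [heis, ← hinv]
    convert mul_mem (inv_mem hA) hA' using 1
    group
  -- a singular vector orthogonal to `d` moving `m₂`
  have hd0 : d ≠ 0 := fun e => hc (by rw [← d5, e, QuadraticMap.map_zero])
  have hm₂d : m₂ ∉ cLine θ d := by
    intro hmem
    obtain ⟨a, b, hab⟩ := Submodule.mem_span_pair.1 hmem
    have k1 : polar (hermQ θ) d d = 2 * c := by rw [polar_self', d5]
    have k3 : polar (hermQ θ) d (θ d) = 0 := by rw [QuadraticMap.polar_comm, hU.trace, zero_mul]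
    have ea := d4
    rw [← hab, polar_add_right, polar_smul_right', polar_smul_right', k1, k3] at ea
    have eb := d3
    rw [← hab, map_add, map_smul, map_smul, h.sq, polar_add_right, polar_smul_right', polar_smul_right',
      polar_smul_right', k1, k3] at eb
    have hb : b = 0 := by
      have : b * (δ * (2 * c)) = 0 := by linear_combination eb
      exact (mul_eq_zero.1 this).resolve_right (mul_ne_zero hδ (mul_ne_zero h2 hc))
    refine hcv ?_
    rw [← hab, hb, zero_smul, add_zero, map_smul', d5]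
    linear_combination (2 * a * c + 1) * ea
  obtain ⟨v, v1, v2, v3, v4, v5⟩ := h.exists_adapted h2 (by omega) hm₂d (Or.inl (by rw [d5]; exact hc)) 0
  have hvd : sf d v = 0 := by
    have := cv1 v d
    rw [v2] at this
    rw [sf_skew]
    simpa [h2, hδ] using this.symm
  have hvd' : sf d (θ v) = 0 := by
    have := h.polar_eq d v
    rw [QuadraticMap.polar_comm, v1, h.skew] at this
    simpa [h2] using this.symm
  have hvm : sf m₂ v = 0 := by
    have := cv1 v m₂
    rw [v3] at this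
    rw [sf_skew]
    simpa [h2, hδ] using this.symm
  obtain ⟨ρ, hρ⟩ : ∃ ρ, ρ = sf (θ v) m₂ := ⟨_, rfl⟩
  have hρ0 : ρ ≠ 0 := fun e => by
    rw [h.polar_eq, ← hρ, e, mul_zero] at v4
    exact zero_ne_one v4
  have hρ' : sf m₂ (θ v) = -ρ := by rw [sf_skew, hρ]
  refine ⟨r, ?_, fun k => ?_⟩
  · simp only [r, map_smul', d5]
    simp [hc]
  set s := -k / (2 * ρ * ρ)
  set H := utv θ δ s v
  have hHM := hst v s v5
  have hHr : (H : MM) *ᵥ r = r := by
    rw [h.utv_mulVec v5]
    simp only [r, sf_smul_left, hvd, hvd']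
    module
  have hHw : (H : MM) *ᵥ m₂ = m₂ + (-(s * ρ)) • θ v := by
    rw [h.utv_mulVec v5, hvm, hρ']
    module
  have hzr : sf (m₂ + (-(s * ρ)) • θ v) r = 0 := by
    rw [sf_add_left, hwr, sf_smul_left]
    simp only [r, sf_smul_right, sf_skew (θ v) d, hvd']
    ring
  have hz : heis (m₂ + (-(s * ρ)) • θ v) r ∈ M := by
    have := mul_mem (mul_mem hHM hw) (inv_mem hHM)
    rw [heis, show H * (stv (-1) m₂ * stv 1 (m₂ + r)) * H⁻¹ = (H * stv (-1) m₂ * H⁻¹) * (H * stv 1 (m₂ + r) * H⁻¹) by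
      group, stv_conj (utv_mem _ _), stv_conj (utv_mem _ _), Matrix.mulVec_add (H : MM) m₂ r, hHr, hHw] at this
    exact this
  have hcm := heis_comm hwr hzr
  have hk : 2 * sf (m₂ + (-(s * ρ)) • θ v) m₂ = k := by
    rw [sf_add_left, sf_alt, sf_smul_left, ← hρ, zero_add]
    simp only [s]
    field_simp
  rw [hk] at hcm
  have := mul_mem (mul_mem hw hz) (inv_mem (mul_mem hz hw))
  rwa [hcm, mul_inv_cancel_right] at this

include h in
/-- One full non-singular point makes every point full. -/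
theorem SpUnitaryStr.all_full₃ (h2 : (2 : F) ≠ 0) (hm : m = 3) (hMS : M ≤ Cfsg.spGL m F)
    (hst : ∀ u c, hermQ θ u = 0 → utv θ δ c u ∈ M) {d : VV} (hd : hermQ θ d ≠ 0)
    (hF : SpFull M d) : ∀ v, SpFull M v := by
  classical
  have hQ := h.nondegenerate h2 (by omega)
  have hU := h.unitaryStr
  have hδ := h.delta_ne_zero (by omega)
  have hdim : Module.finrank F VV = m + m := by simp
  have step : ∀ e w, SpFull M e → hermQ θ w = 0 → polar (hermQ θ) e w = 0 → polar (hermQ θ) e (θ w) ≠ 0 →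
      SpFull M w := by
    intro e w he hw h0 h1
    have hew' : sf e (θ w) = 0 := by
      rw [h.polar_eq, h.skew] at h0
      simpa [h2] using h0
    have hew : sf e w ≠ 0 := fun hc => h1 (by rw [h.polar_eq, h.theta_theta, hc]; ring)
    have hy : hermQ θ (θ w) = 0 := by rw [hU.norm, hw, mul_zero]
    have he' := he.map hMS (hst (θ w) 1 hy)
    rw [h.utv_mulVec hy, h.sq, sf_smul_right, hew'] at he'
    set e' := e + (1 : F) • ((δ * sf e w) • δ • w - (δ * 0) • θ w)
    have hne : sf e e' ≠ 0 := by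
      simp only [e', sf_add_right, sf_alt, sf_smul_right, sub_eq_add_neg, mul_zero, zero_smul, neg_zero, add_zero,
        zero_add, one_mul]
      exact mul_ne_zero (mul_ne_zero hδ hew) (mul_ne_zero hδ hew)
    have h3 := SpFull.move hMS he' he hne (-1)
    rw [show e + (-1 : F) • e' = (-(δ * sf e w * δ)) • w by simp only [e']; module] at h3
    have h4 := h3.smul (-(δ * sf e w * δ))⁻¹
    rwa [smul_smul, inv_mul_cancel₀ (neg_ne_zero.2 (mul_ne_zero (mul_ne_zero hδ hew) hδ)), one_smul] at h4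
  -- a full singular point
  have hd0 : d ≠ 0 := fun e => hd (by rw [e, QuadraticMap.map_zero])
  obtain ⟨e₁, he₁0, he₁, he₁F⟩ : ∃ e, e ≠ 0 ∧ hermQ θ e = 0 ∧ SpFull M e := by
    obtain ⟨x, hx⟩ : ∃ x, x ∉ cLine θ d := by
      refine SetLike.exists_not_mem_of_ne_top _ (fun e => ?_) rfl
      have h1 : Module.finrank F (cLine θ d) ≤ 2 := finrank_pair_le (F := F) d (θ d)
      rw [e, finrank_top] at h1
      omega
    obtain ⟨a, a1, a2, a3, a4, a5⟩ := h.exists_adapted h2 (by omega) hx (Or.inl hd) 1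
    have hθd : θ d ∉ cLine θ a := by
      intro hmem
      have hθd0 : θ d ≠ 0 := fun h0 => one_ne_zero (h.aniso 0 1 d hd0 (by simp [h0])).2
      obtain ⟨p, q, hpq⟩ := Submodule.mem_span_pair.1 (hU.cLine_symm hmem hθd0)
      have k : polar (hermQ θ) a a = 0 := by
        nth_rewrite 2 [← hpq]
        rw [h.sq, polar_add_right, polar_smul_right', polar_smul_right', polar_smul_right', a1, a2]
        ring
      rw [polar_self', a5, mul_one] at k
      exact h2 k
    obtain ⟨w, w1, w2, w3, w4, w5⟩ := h.exists_adapted h2 (by omega) hθd (Or.inl (by rw [a5]; exact one_ne_zero)) 0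
    rw [h.sq, polar_smul_right', mul_eq_zero] at w3
    refine ⟨w, fun e => ?_, w5, step d w hF w5 (by rw [QuadraticMap.polar_comm]; exact w3.resolve_left hδ) ?_⟩
    · rw [e, polar_zero_left] at w4; exact zero_ne_one w4
    · rw [← neg_ne_zero, ← h.polar_flip, QuadraticMap.polar_comm, w4]; exact one_ne_zero
  have two : ∀ e z, e ≠ 0 → SpFull M e → hermQ θ e = 0 → hermQ θ z = 0 → z ∉ cLine θ e → SpFull M z := by
    intro e z he0 he heq hz hze
    obtain ⟨w, hw, hw0, ⟨hew, hzw⟩, hwe, hwz⟩ := h.exists_link h2 hm he0 heq hz hze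
    have hne : ∀ x, x ≠ 0 → hermQ θ x = 0 → w ∉ cLine θ x → polar (hermQ θ) x w = 0 →
        polar (hermQ θ) x (θ w) ≠ 0 := fun x hx0 hx hwx hxw =>
      (h.pair_ne_zero h2 hm hx0 hx hw hwx).resolve_left (not_not.2 hxw)
    refine step w z (step e w he hw hew (hne e he0 heq hwe hew)) hz (by rw [QuadraticMap.polar_comm]; exact hzw) ?_
    have hz0 : z ≠ 0 := fun e' => hze (e' ▸ zero_mem _)
    rw [← neg_ne_zero, ← h.polar_flip, QuadraticMap.polar_comm]
    exact hne z hz0 hz hwz hzw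
  have hsing : ∀ z, hermQ θ z = 0 → SpFull M z := by
    intro z hz
    by_cases hz0 : z = 0
    · subst hz0; exact SpFull.zero M
    by_cases hzd : z ∈ cLine θ e₁
    · obtain ⟨w, hw, -, hwx, -⟩ := exists_singular_polar hQ ⊥ (x := e₁)
        (fun hm' => he₁0 ((Submodule.mem_bot F).1 hm')) (by rw [finrank_bot]; omega) 1
      have hwn : w ∉ cLine θ e₁ := fun hm' => by
        obtain ⟨p, q, rfl⟩ := Submodule.mem_span_pair.1 hm'
        rw [polar_add_left, polar_smul_left', polar_smul_left', polar_self', he₁,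
          QuadraticMap.polar_comm _ (θ e₁), hU.self_perp he₁] at hwx
        simp at hwx
      have hw0 : w ≠ 0 := fun e => hwn (e ▸ Submodule.zero_mem _)
      refine two w z hw0 (two e₁ w he₁0 he₁F he₁ hw hwn) hw hz fun hzw => hwn ?_
      obtain ⟨p, q, hpq⟩ := Submodule.mem_span_pair.1 (hU.cLine_symm hzw hz0)
      rw [← hpq]
      exact add_mem (Submodule.smul_mem _ _ hzd) (Submodule.smul_mem _ _ (hU.cLine_mapsTo hzd))
    · exact two e₁ z he₁0 he₁F he₁ hz hzd
  intro v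
  by_cases hv : hermQ θ v = 0
  · exact hsing v hv
  have hθv : θ v ∉ (⊥ : Submodule F VV) := fun hm' => hv (by
    have hv0 : v = 0 := by
      by_contra hv0
      exact one_ne_zero (h.aniso 0 1 v hv0 (by simp [(Submodule.mem_bot F).1 hm'])).2
    rw [hv0, QuadraticMap.map_zero])
  obtain ⟨e, he, hep, hesf⟩ : ∃ e, hermQ θ e = 0 ∧ polar (hermQ θ) e v ≠ 0 ∧ sf e v ≠ 0 := by
    obtain ⟨e, he, -, hev, -⟩ := exists_singular_polar hQ ⊥ hθv (by rw [finrank_bot]; omega) 1
    have hsf : sf e v ≠ 0 := fun hc => by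
      rw [h.polar_eq, h.theta_theta, hc] at hev
      simp at hev
    by_cases hp : polar (hermQ θ) e v = 0
    · refine ⟨e + θ e, hU.cLine_singular he (add_mem (mem_cLine_left e) (mem_cLine_right e)), ?_, ?_⟩
      · rw [polar_add_left, hp, zero_add, h.polar_flip, hev]; exact neg_ne_zero.2 one_ne_zero
      · rw [h.polar_eq] at hp
        rw [sf_add_left, (mul_eq_zero.1 hp).resolve_left h2, add_zero]; exact hsf
    · exact ⟨e, he, hp, hsf⟩
  set t := hermQ θ v / polar (hermQ θ) e v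
  have hw : hermQ θ (v + (-t) • e) = 0 := by
    simp only [map_add', map_smul', polar_smul_right', he, QuadraticMap.polar_comm (hermQ θ) v e, t]
    field_simp
    ring
  have := SpFull.move hMS (hsing e he) (hsing _ hw) (by
    rw [sf_add_left, sf_smul_left, sf_alt, mul_zero, add_zero, sf_skew]
    exact neg_ne_zero.2 hesf) t
  rwa [show v + (-t) • e + t • e = v by module] at this

include h in
theorem SpUnitaryStr.stab_max₃ (h2 : (2 : F) ≠ 0) (hm : m = 3) (hMS : M ≤ Cfsg.spGL m F)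
    (hst : ∀ u c, hermQ θ u = 0 → utv θ δ c u ∈ M)
    (hH : ∀ g ∈ Cfsg.spGL m F, (∀ v, (g : MM) *ᵥ θ v = θ ((g : MM) *ᵥ v)) → g ∈ M)
    (hne : ∃ g ∈ M, ¬ ∃ a b : F, ∀ v, (g : MM) *ᵥ θ v = a • ((g : MM) *ᵥ v) + b • θ ((g : MM) *ᵥ v)) :
    M = Cfsg.spGL m F := by
  obtain ⟨g, hg, hgn⟩ := hne
  have hQ := h.nondegenerate h2 (by omega)
  have hdim : Module.finrank F VV = m + m := by simp
  obtain ⟨u₀, hu₀0, hu₀, hmv⟩ : ∃ u₀, u₀ ≠ 0 ∧ hermQ θ u₀ = 0 ∧
      θ ((g : MM) *ᵥ u₀) ∉ Submodule.span F ({(g : MM) *ᵥ u₀, (g : MM) *ᵥ θ u₀} : Set VV) := by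
    by_contra hc
    push Not at hc
    let T : VV →ₗ[F] VV :=
      (((g⁻¹ : GG) : MM)).mulVecLin ∘ₗ θ ∘ₗ ((g : MM)).mulVecLin
    have hgT : ∀ v, (g : MM) *ᵥ T v = θ ((g : MM) *ᵥ v) := fun v => by
      simp [T, Matrix.mulVec_mulVec, ← Units.val_mul]
    obtain ⟨a, b, hab⟩ := h.scalar_of_cLine₃ h2 hm (T := T) fun v hv => by
      by_cases hv0 : v = 0
      · subst hv0; simp [T]
      obtain ⟨c, d, hcd⟩ := Submodule.mem_span_pair.1 (hc v hv0 hv)
      refine Submodule.mem_span_pair.2 ⟨c, d, mulVec_inj g ?_⟩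
      show (g : MM) *ᵥ (c • v + d • θ v) = (g : MM) *ᵥ T v
      rw [hgT, ← hcd, Matrix.mulVec_add, Matrix.mulVec_smul, Matrix.mulVec_smul]
    obtain ⟨u₁, hu₁0, hu₁⟩ := CfsgLib.Geometry.exists_singular hQ (by omega)
    have hb : b ≠ 0 := by
      intro hb
      have h2' := hgT u₁
      rw [hab, hb, zero_smul, add_zero, Matrix.mulVec_smul] at h2'
      refine one_ne_zero (h.aniso (-a) 1 ((g : MM) *ᵥ u₁) (fun e => hu₁0 (mulVec_inj g (e.trans
        (Matrix.mulVec_zero _).symm))) (by rw [← h2']; module)).2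
    refine hgn ⟨-(b⁻¹ * a), b⁻¹, fun v => ?_⟩
    have h2' := hgT v
    rw [hab, Matrix.mulVec_add, Matrix.mulVec_smul, Matrix.mulVec_smul] at h2'
    rw [← h2', smul_add, smul_smul, smul_smul, inv_mul_cancel₀ hb, one_smul]
    module
  obtain ⟨d, hd, hF⟩ := h.exists_full₃ h2 hm hMS hst hH hg hu₀0 hu₀ hmv
  exact spGL_eq_of_full hMS (h.all_full₃ h2 hm hMS hst hd hF)

end CfsgLib.OrthMax
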