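import Cfsg.Agent.Lib.OrthMax.RatQ
import Cfsg.Agent.Lib.ThreeTransp.DicksonPairs
import Cfsg.Agent.Lib.PSL2.DicksonGen

/-! Overgroups of subfield groups in orthogonal groups: the common core and odd characteristic. -/

set_option autoImplicit false
set_option linter.unusedSectionVars false
set_option linter.unusedSimpArgs false
set_option linter.style.haveILetI false

namespace CfsgLib.OrthMax

open QuadraticMap CfsgLib.Geometry CfsgLib.Maximal
open CfsgLib.ThreeTransp (sl2U sl2L sl2U_val sl2L_val pairGroup)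

section pair

variable {F V : Type*} [Field F] [AddCommGroup V] [Module F V] {Q : QuadraticForm F V}

/-- Two orthogonal hyperbolic pairs. -/
structure Quad (Q : QuadraticForm F V) (a b a' b' : V) : Prop where
  qa : Q a = 0
  qb : Q b = 0
  qa' : Q a' = 0
  qb' : Q b' = 0
  ab : polar Q a b = 0
  aa' : polar Q a a' = 1
  ab' : polar Q a b' = 0
  ba' : polar Q b a' = 0
  bb' : polar Q b b' = 1
  a'b' : polar Q a' b' = 0

/-- A two-by-two matrix acting on the pairs `(a, b')` and `(b, a')`. -/
def pairAct (Q : QuadraticForm F V) (a b a' b' : V) (A : Matrix (Fin 2) (Fin 2) F) (x : V) : V :=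
  x + ((A 0 0 - 1) * polar Q x a' + A 0 1 * polar Q x b) • a +
    (A 1 0 * polar Q x a' + (A 1 1 - 1) * polar Q x b) • b' +
    ((A 0 0 - 1) * polar Q x b' - A 0 1 * polar Q x a) • b +
    (-(A 1 0) * polar Q x b' + (A 1 1 - 1) * polar Q x a) • a'

theorem pairAct_mul {a b a' b' : V} (h : Quad Q a b a' b') (A B : Matrix (Fin 2) (Fin 2) F) (x : V) :
    pairAct Q a b a' b' (A * B) x = pairAct Q a b a' b' A (pairAct Q a b a' b' B x) := by
  simp only [pairAct, polar_add_left, polar_smul_left', polar_self', h.qa, h.qb, h.qa', h.qb', h.ab, h.aa', h.ab',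
    h.ba', h.bb', h.a'b', QuadraticMap.polar_comm Q b a, QuadraticMap.polar_comm Q a' a,
    QuadraticMap.polar_comm Q b' a, QuadraticMap.polar_comm Q a' b, QuadraticMap.polar_comm Q b' b,
    QuadraticMap.polar_comm Q b' a', Matrix.mul_apply, Fin.sum_univ_two]
  module

theorem pairAct_one (a b a' b' x : V) : pairAct Q a b a' b' 1 x = x := by
  simp [pairAct]

/-- The matrices realised in `M`. -/
def actGroup {a b a' b' : V} (h : Quad Q a b a' b') (M : Subgroup (V ≃ₗ[F] V)) :
    Subgroup (Matrix.SpecialLinearGroup (Fin 2) F) where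
  carrier := {A | ∃ g ∈ M, ∀ x, g x = pairAct Q a b a' b' A x}
  one_mem' := ⟨1, one_mem M, fun x => by
    rw [Matrix.SpecialLinearGroup.coe_one, pairAct_one]; rfl⟩
  mul_mem' := fun {A B} ⟨g, hg, hgA⟩ ⟨k, hk, hkB⟩ => ⟨g * k, mul_mem hg hk, fun x => by
    show g (k x) = _
    rw [hgA, hkB, Matrix.SpecialLinearGroup.coe_mul, pairAct_mul h]⟩
  inv_mem' := fun {A} ⟨g, hg, hgA⟩ => ⟨g⁻¹, inv_mem hg, fun x => by
    show g.symm x = _
    conv_rhs => rw [← g.apply_symm_apply x, hgA, ← pairAct_mul h, ← Matrix.SpecialLinearGroup.coe_mul,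
      inv_mul_cancel, Matrix.SpecialLinearGroup.coe_one, pairAct_one]⟩

theorem pairAct_U {a b a' b' : V} (h : Quad Q a b a' b') (t : F) (x : V) :
    pairAct Q a b a' b' (sl2U F t : Matrix.SpecialLinearGroup (Fin 2) F) x =
      siegel Q a ((-t) • b) h.qa (by rw [polar_smul_right', h.ab, mul_zero]) x := by
  rw [siegel_apply, polar_smul_right', CfsgLib.Geometry.map_smul', h.qb]
  simp [pairAct, sl2U_val]
  module

theorem pairAct_L {a b a' b' : V} (h : Quad Q a b a' b') (t : F) (x : V) :
    pairAct Q a b a' b' (sl2L F t : Matrix.SpecialLinearGroup (Fin 2) F) x =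
      siegel Q a' (t • b') h.qa' (by rw [polar_smul_right', h.a'b', mul_zero]) x := by
  rw [siegel_apply, polar_smul_right', CfsgLib.Geometry.map_smul', h.qb']
  simp [pairAct, sl2L_val]
  module

theorem Quad.swap {a b a' b' : V} (h : Quad Q a b a' b') : Quad Q a' b' a b :=
  ⟨h.qa', h.qb', h.qa, h.qb, h.a'b', by rw [QuadraticMap.polar_comm]; exact h.aa',
    by rw [QuadraticMap.polar_comm]; exact h.ba', by rw [QuadraticMap.polar_comm]; exact h.ab',
    by rw [QuadraticMap.polar_comm]; exact h.bb', h.ab⟩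

end pair

theorem subfield_prime {F : Type*} [Field F] [Fintype F] {F₀ : Subfield F} {r : ℕ} (hr : r.Prime)
    (hcard : Fintype.card F = Nat.card F₀ ^ r) :
    Module.finrank F₀ F = r ∧ ∀ S : Subalgebra F₀ F, ∀ x ∈ S, x ∉ F₀ → S = ⊤ := by
  haveI : Fintype F₀ := Fintype.ofFinite _
  have hfr : Module.finrank F₀ F = r := by
    have h1 := Module.card_eq_pow_finrank (K := F₀) (V := F)
    rw [hcard, Nat.card_eq_fintype_card] at h1
    exact (Nat.pow_right_injective Fintype.one_lt_card h1).symm
  haveI := Subalgebra.isSimpleOrder_of_finrank_prime F₀ F (hfr ▸ hr)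
  refine ⟨hfr, fun S x hx hxF => ?_⟩
  rcases eq_bot_or_eq_top S with hS | hS
  · obtain ⟨y, hy⟩ := Algebra.mem_bot.1 (hS ▸ hx : x ∈ (⊥ : Subalgebra F₀ F))
    exact absurd (hy ▸ y.2) hxF
  · exact hS

variable {F : Type*} [Field F] [Fintype F] {ι : Type} [Fintype ι] [DecidableEq ι]
variable {Q : QuadraticForm F (ι → F)} {F₀ : Subfield F} {M : Subgroup ((ι → F) ≃ₗ[F] (ι → F))} {r : ℕ}
variable (h : RatQ Q F₀) (hst : ∀ u w, RatV F₀ u → RatV F₀ w → SiegIn Q M u w)
  (hr : r.Prime) (hcard : Fintype.card F = Nat.card F₀ ^ r) (h2 : (2 : F) ≠ 0) (hn : 7 ≤ Fintype.card ι)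

/-- The pairing of two lines of root elements. -/
def rootDet (Q : QuadraticForm F (ι → F)) (a b u w : ι → F) : F :=
  polar Q a u * polar Q b w - polar Q a w * polar Q b u

include h hst hr hcard h2 hn in
/-- An irrational pairing gives everything. -/
theorem top_of_det {a b u w : ι → F} (ha : RatV F₀ a) (hb : RatV F₀ b) (hQa : Q a = 0) (hQb : Q b = 0)
    (hab : polar Q a b = 0) (hQu : Q u = 0) (hQw : Q w = 0) (huw : polar Q u w = 0)
    (hy : ∀ t ∈ F₀, SiegIn Q M u (t • w)) (hδ : rootDet Q a b u w ∉ F₀) : siegelGroup Q ≤ M := by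
  classical
  obtain ⟨δ, hδdef⟩ : ∃ δ, δ = rootDet Q a b u w := ⟨_, rfl⟩
  rw [← hδdef] at hδ
  have hδ0 : δ ≠ 0 := fun e => hδ (e ▸ F₀.zero_mem)
  obtain ⟨a', ha'⟩ : ∃ a', a' = δ⁻¹ • (polar Q b w • u - polar Q b u • w) := ⟨_, rfl⟩
  obtain ⟨b', hb'⟩ : ∃ b', b' = δ⁻¹ • (-(polar Q a w) • u + polar Q a u • w) := ⟨_, rfl⟩
  have hδ' : δ = polar Q a u * polar Q b w - polar Q a w * polar Q b u := hδdef
  have hq : Quad Q a b a' b' := by
    refine ⟨hQa, hQb, ?_, ?_, hab, ?_, ?_, ?_, ?_, ?_⟩ <;>
      simp only [ha', hb', CfsgLib.Geometry.map_smul', CfsgLib.Geometry.map_sub', CfsgLib.Geometry.map_add',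
        polar_smul_left', polar_smul_right', polar_add_left, polar_add_right, polar_sub_left, polar_sub_right,
        polar_self', hQu, hQw, huw, QuadraticMap.polar_comm Q w u]
    · ring
    · ring
    · linear_combination inv_mul_cancel₀ hδ0 - δ⁻¹ * hδ'
    · ring
    · ring
    · linear_combination inv_mul_cancel₀ hδ0 - δ⁻¹ * hδ'
    · ring
  have ha0 : a ≠ 0 := fun e => by
    have := hq.aa'
    rw [e, polar_zero_left] at this
    exact zero_ne_one this
  have hbi : b ∉ Submodule.span F {a} := fun hm => by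
    obtain ⟨s, hs⟩ := Submodule.mem_span_singleton.1 hm
    have := hq.bb'
    rw [← hs, polar_smul_left', hq.ab', mul_zero] at this
    exact zero_ne_one this
  have hy' : ∀ t ∈ F₀, SiegIn Q M a' ((t * δ) • b') := fun t ht he hw' => by
    have e : siegel Q a' ((t * δ) • b') he hw' =
        siegel Q u (t • w) hQu (by rw [polar_smul_right', huw, mul_zero]) := by
      refine LinearEquiv.ext fun x => ?_
      rw [siegel_apply, siegel_apply, CfsgLib.Geometry.map_smul', hq.qb', CfsgLib.Geometry.map_smul', hQw,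
        polar_smul_right', polar_smul_right', ha', hb']
      simp only [polar_smul_right', polar_add_right, polar_sub_right]
      match_scalars
      all_goals (try field_simp)
      all_goals (try rw [hδ'])
      all_goals ring
    rw [e]; exact hy t ht _ _
  obtain ⟨hfr, htop⟩ := subfield_prime hr hcard
  have hgenU : ∀ c ∈ F₀, sl2U F c ∈ actGroup hq M := fun c hc =>
    ⟨_, hst a ((-c) • b) ha (hb.smul (F₀.neg_mem hc)) _ _, fun x => (pairAct_U hq c x).symm⟩
  have hgenL : ∀ c ∈ F₀, sl2L F (c * δ) ∈ actGroup hq M := fun c hc =>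
    ⟨_, hy' c hc _ _, fun x => (pairAct_L hq _ x).symm⟩
  have hR : RootIn Q M a b → siegelGroup Q ≤ M :=
    h.top_of_root (by omega) hst ha hb hQa hQb hab hbi ha0
  by_cases h3 : Nat.card F₀ = 3
  swap
  · refine hR fun t he hw' => ?_
    have hgen : Algebra.adjoin F₀ ({δ} : Set F) = ⊤ := htop _ δ (Algebra.subset_adjoin rfl) hδ
    haveI : FiniteDimensional F₀ F := Module.Finite.of_finite
    have htopG := CfsgLib.ThreeTransp.pairGroup_eq_top (k := F₀) h2 h3 hδ0 hgen
    have hle : pairGroup F₀ δ ≤ actGroup hq M := by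
      refine (Subgroup.closure_le _).2 ?_
      rintro _ (⟨c, rfl⟩ | ⟨c, rfl⟩)
      · exact hgenU c c.2
      · exact hgenL c c.2
    obtain ⟨g, hg, hgx⟩ : sl2U F (-t) ∈ actGroup hq M := hle (htopG ▸ Subgroup.mem_top _)
    have e : g = siegel Q a (t • b) he hw' := LinearEquiv.ext fun x => by
      rw [hgx, pairAct_U hq]; congr 1; simp
    rwa [← e]
  by_cases hsq : Fintype.card F = 9 ∧ δ ^ 2 = -1
  · -- the exceptional subgroup of `SL₂(9)`
    obtain ⟨h9, hsq⟩ := hsq
    have h3' : (3 : F) = 0 := by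
      have h1 := FiniteField.cast_card_eq_zero F
      rw [h9] at h1
      exact mul_self_eq_zero.1 (show (3 : F) * 3 = 0 by linear_combination h1)
    obtain ⟨A, hA, hAv⟩ : ∃ A ∈ actGroup hq M, (A : Matrix (Fin 2) (Fin 2) F) = !![δ, 0; 0, -δ] := by
      have hU := hgenU 1 F₀.one_mem
      have hU2 := hgenU 2 (by exact_mod_cast natCast_mem F₀ 2)
      have hL := hgenL 1 F₀.one_mem
      have hL2 := hgenL 2 (by exact_mod_cast natCast_mem F₀ 2)
      refine ⟨_, mul_mem (mul_mem (mul_mem (mul_mem (mul_mem hU hL) hU2) hL2) hU) hL, ?_⟩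
      simp only [Matrix.SpecialLinearGroup.coe_mul, sl2U_val, sl2L_val, one_mul]
      ext i j
      fin_cases i <;> fin_cases j <;> simp [Matrix.mul_apply, Fin.sum_univ_two]
      · linear_combination (13 + 4 * δ) * hsq + (-4 + 2 * δ) * h3'
      · linear_combination (4 : F) * hsq + (3 * δ) * h3'
      · linear_combination (9 + 4 * δ) * hsq + (-3 : F) * h3'
      · linear_combination (4 : F) * hsq + (-1 + 2 * δ) * h3'
    obtain ⟨g, hg, hgx⟩ := hA
    obtain ⟨a₁, ha₁, -, haa₁, -⟩ := h.exists_partner (k := 0) ha hQa ![] (fun j => j.elim0) (fun j => j.elim0)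
      (by simpa [Matrix.range_empty] using ha0)
    obtain ⟨b₁, hb₁, hQb₁, hbb₁, hb₁a⟩ := h.exists_partner hb hQb ![a] (fun j => by simpa using ha)
      (fun j => by simp [QuadraticMap.polar_comm Q b a, hab]) (by simpa [Matrix.range_cons, Matrix.range_empty] using hbi)
    obtain ⟨c, p, hc, hp, hQc, hQp, hcp, hperp⟩ := h.exists_pair_nd ![a, b, a₁, b₁]
      (fun j => by fin_cases j <;> simp [ha, hb, ha₁, hb₁]) (by omega) (fun c hc => by
        have hab₁ : polar Q a b₁ = 0 := by have := hb₁a 0; rw [QuadraticMap.polar_comm] at this; simpa using this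
        have h0 := hc 0
        have h1 := hc 1
        have h2 := hc 2
        have h3 := hc 3
        simp [Fin.sum_univ_four, polar_add_left, polar_smul_left', polar_self', hQa, hQb, hQb₁, hab, haa₁, hbb₁,
          hab₁, QuadraticMap.polar_comm Q b a, QuadraticMap.polar_comm Q a₁ a, QuadraticMap.polar_comm Q b₁ b,
          QuadraticMap.polar_comm Q b₁ a] at h0 h1 h2 h3
        rw [h0] at h1
        simp at h1
        simp [h0, h1] at h2 h3
        funext j; fin_cases j <;> simp_all)
    have hac := hperp 0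
    have hbc := hperp 1
    have ha₁c := hperp 2
    have hb₁c := hperp 3
    simp only [Matrix.cons_val_zero, Matrix.cons_val_one, Matrix.cons_val_two, Matrix.cons_val_three,
      Matrix.head_cons, Matrix.tail_cons] at hac hbc ha₁c hb₁c
    have hab₁ : polar Q a b₁ = 0 := by have := hb₁a 0; rw [QuadraticMap.polar_comm] at this; simpa using this
    have hca : polar Q c a = 0 := by rw [QuadraticMap.polar_comm]; exact hac.1
    have hcb : polar Q c b = 0 := by rw [QuadraticMap.polar_comm]; exact hbc.1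
    have hga : g a = δ • a := by
      rw [hgx, hAv]
      simp [pairAct, polar_self', hQa, hq.aa', hq.ab', hq.ab]
      module
    have hgc : g c = c + (δ - 1) • (polar Q c a' • a + polar Q c b' • b) := by
      rw [hgx, hAv]
      simp [pairAct, hca, hcb]
      module
    obtain ⟨v, hv⟩ : ∃ v, v = δ • g c := ⟨_, rfl⟩
    have hav : polar Q a v = 0 := by
      rw [hv, hgc]
      simp [polar_smul_right', polar_add_right, polar_self', hac.1, hQa, hab]
    have hgo : g ∈ Geometry.orth Q := by
      refine mem_orth.2 fun x => ?_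
      rw [hgx, hAv]
      simp only [pairAct, Matrix.of_apply, Matrix.cons_val', Matrix.cons_val_zero, Matrix.cons_val_one,
        Matrix.cons_val_fin_one, CfsgLib.Geometry.map_add', CfsgLib.Geometry.map_smul', polar_add_left,
        polar_smul_left', polar_smul_right', hq.qa, hq.qb, hq.qa', hq.qb', hq.ab, hq.aa', hq.ab', hq.ba', hq.bb',
        hq.a'b', QuadraticMap.polar_comm Q b' a, QuadraticMap.polar_comm Q a' b, QuadraticMap.polar_comm Q b' b,
        QuadraticMap.polar_comm Q a' a, QuadraticMap.polar_comm Q b a, QuadraticMap.polar_comm Q b' a']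
      linear_combination (-(polar Q x a * polar Q x a') - polar Q x b * polar Q x b') * hsq
    have hvM : SiegIn Q M a v := by
      have h1 := (hst a c ha hc).conj hg hgo
      rw [hga] at h1
      intro he hw'
      have hw2 : polar Q (δ • a) (g c) = 0 := by
        rw [← hga, orth_polar hgo]; exact hac.1
      have := h1 (by rw [CfsgLib.Geometry.map_smul', hQa, mul_zero]) hw2
      rw [siegel_smul_left a (g c) δ he _ hw2 (by rw [← hv]; exact hw')] at this
      simpa [← hv] using this
    have hvp : polar Q v p = δ := by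
      rw [hv, hgc]
      simp [polar_smul_left', polar_add_left, hcp, hac.2, hbc.2]
    have hpw : ∀ w, RatV F₀ w → polar Q p w = 0 → polar Q a w = 0 →
        SiegIn Q M a (δ • w - (polar Q v w + Q w * δ) • p) := by
      intro w hw hpw haw
      have hgM := hst p w hp hw hQp hpw
      have hgo := siegel_mem_orth Q p w hQp hpw
      have h1 := hvM.conj hgM hgo
      have hap : polar Q a p = 0 := hac.2
      have e1 : siegel Q p w hQp hpw a = a := by rw [siegel_apply, hap, haw]; simp
      have e2 : siegel Q p w hQp hpw v = v + (δ • w - (polar Q v w + Q w * δ) • p) := by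
        rw [siegel_apply, hvp]; module
      rw [e1, e2] at h1
      have hd : polar Q a (δ • w - (polar Q v w + Q w * δ) • p) = 0 := by
        rw [polar_sub_right, polar_smul_right', polar_smul_right', haw, hap]; ring
      have h4 := h1.add (hvM.neg hQa hav) hQa (by rw [polar_add_right, hav, hd, add_zero])
        (by rw [polar_neg_right, hav, neg_zero])
      rwa [show v + (δ • w - (polar Q v w + Q w * δ) • p) + -v = δ • w - (polar Q v w + Q w * δ) • p by abel] at h4
    have hpb : polar Q p b = 0 := by rw [QuadraticMap.polar_comm]; exact hbc.2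
    have hpb₁ : polar Q p b₁ = 0 := by rw [QuadraticMap.polar_comm]; exact hb₁c.2
    have k1 := hpw b hb hpb hab
    have k2 := hpw b₁ hb₁ hpb₁ hab₁
    have k3 := hpw (b + b₁) (fun i => F₀.add_mem (hb i) (hb₁ i)) (by rw [polar_add_right, hpb, hpb₁, add_zero])
      (by rw [polar_add_right, hab, hab₁, add_zero])
    rw [CfsgLib.Geometry.map_add', hQb, hQb₁, hbb₁] at k3
    rw [hQb] at k1
    rw [hQb₁] at k2
    have hap : polar Q a p = 0 := hac.2
    have hperp' : ∀ (x y : F) z, polar Q a z = 0 → polar Q a (x • z - y • p) = 0 := fun x y z hz => by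
      rw [polar_sub_right, polar_smul_right', polar_smul_right', hz, hap]; ring
    have k4 := (k1.add k2 hQa (hperp' _ _ _ hab) (hperp' _ _ _ hab₁)).add (k3.neg hQa (hperp' _ _ _ (by
      rw [polar_add_right, hab, hab₁, add_zero]))) hQa (by rw [polar_add_right, hperp' _ _ _ hab, hperp' _ _ _ hab₁, add_zero])
      (by rw [polar_neg_right, hperp' _ _ _ (by rw [polar_add_right, hab, hab₁, add_zero]), neg_zero])
    have hδp : SiegIn Q M a (δ • p) := by
      convert k4 using 1
      rw [polar_add_right]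
      module
    have hpi : p ∉ Submodule.span F {a} := fun hm => by
      obtain ⟨s, hs⟩ := Submodule.mem_span_singleton.1 hm
      rw [← hs, polar_smul_right', QuadraticMap.polar_comm, hac.1, mul_zero] at hcp
      exact zero_ne_one hcp
    refine h.top_of_root (by omega) hst ha hp hQa hQp hap hpi ha0 fun t => ?_
    -- the field is spanned by `1` and `δ`
    have hpt : ∀ {z : F}, polar Q a (z • p) = 0 := fun {z} => by rw [polar_smul_right', hap, mul_zero]
    have hneg : SiegIn Q M a (((-1) * δ) • p) := by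
      rw [neg_one_mul, neg_smul]; exact hδp.neg hQa hpt
    have hm : ∀ y ∈ F₀, SiegIn Q M a ((y * δ) • p) := by
      intro y hy
      have hy3 : y = 0 ∨ y = 1 ∨ y = -1 := by
        by_cases hy0 : y = 0
        · exact Or.inl hy0
        refine Or.inr (mul_self_eq_one_iff.1 ?_)
        haveI : Fintype F₀ := Fintype.ofFinite _
        have := FiniteField.pow_card_sub_one_eq_one (⟨y, hy⟩ : F₀) (fun e => hy0 (congrArg Subtype.val e))
        rw [← Nat.card_eq_fintype_card, h3, pow_two] at this
        exact congrArg Subtype.val this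
      rcases hy3 with rfl | rfl | rfl
      · rw [zero_mul, zero_smul]; exact SiegIn.zero a
      · rwa [one_mul]
      · exact hneg
    obtain ⟨x, y, hxy⟩ : ∃ x y : F₀, (x : F) + y * δ = t := by
      haveI : Fintype F₀ := Fintype.ofFinite _
      have hinj : Function.Injective fun q : F₀ × F₀ => (q.1 : F) + q.2 * δ := by
        rintro ⟨x, y⟩ ⟨x', y'⟩ e
        simp only at e
        by_cases hyy : (y : F) = y'
        · rw [hyy] at e
          exact Prod.ext (Subtype.ext (add_right_cancel e)) (Subtype.ext hyy)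
        · refine absurd ?_ hδ
          have : δ = ((x' : F) - x) / (y - y') := by
            rw [eq_div_iff (sub_ne_zero.2 hyy)]; linear_combination e
          rw [this]
          exact F₀.div_mem (F₀.sub_mem x'.2 x.2) (F₀.sub_mem y.2 y'.2)
      obtain ⟨q, hq'⟩ := ((Fintype.bijective_iff_injective_and_card _).2 ⟨hinj, by
        rw [Fintype.card_prod, ← Nat.card_eq_fintype_card, h3, h9]⟩).2 t
      exact ⟨q.1, q.2, hq'⟩
    rw [← hxy, add_smul]
    exact (hst a ((x : F) • p) ha (hp.smul x.2)).add (hm y y.2) hQa hpt hpt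
  · -- three elements in the subfield
    refine hR fun t he hw' => ?_
    haveI : Fact (Nat.Prime 3) := ⟨Nat.prime_three⟩
    haveI : Fintype F₀ := Fintype.ofFinite _
    have h3' : (3 : F) = 0 := by
      have := FiniteField.cast_card_eq_zero F₀
      rw [← Nat.card_eq_fintype_card, h3] at this
      have h' := congrArg F₀.subtype this
      rw [map_natCast, map_zero] at h'
      exact_mod_cast h'
    haveI : CharP F 3 := (CharP.charP_iff_prime_eq_zero Nat.prime_three).2 (by exact_mod_cast h3')
    have hclo : Subfield.closure ({-δ} : Set F) = ⊤ := by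
      set S := Subfield.closure ({-δ} : Set F)
      have hF : ∀ y ∈ F₀, y ∈ S := by
        intro y hy
        by_cases hy0 : y = 0
        · rw [hy0]; exact S.zero_mem
        have := FiniteField.pow_card_sub_one_eq_one (⟨y, hy⟩ : F₀) (fun e => hy0 (congrArg Subtype.val e))
        rw [← Nat.card_eq_fintype_card, h3, pow_two] at this
        rcases mul_self_eq_one_iff.1 (show y * y = 1 from congrArg Subtype.val this) with e | e <;> rw [e]
        · exact S.one_mem
        · exact S.neg_mem S.one_mem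
      let A : Subalgebra F₀ F := { S.toSubring.toSubsemiring with algebraMap_mem' := fun y => hF y y.2 }
      have hA := htop A (-δ) (Subfield.subset_closure rfl) (fun e => hδ (by simpa using F₀.neg_mem e))
      exact eq_top_iff.2 fun y _ => show y ∈ A from hA ▸ Algebra.mem_top
    rcases PSL2.Gen.main 3 h2 (-δ) (neg_ne_zero.2 hδ0) hclo with hG | ⟨h9, hsq'⟩
    · have hle : Subgroup.closure (PSL2.Gen.gens (-δ)) ≤ actGroup hq.swap M := by
        refine (Subgroup.closure_le _).2 ?_
        rintro A (hA | hA)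
        · have e : A = sl2L F 1 := Subtype.ext (by rw [hA, sl2L_val])
          exact e ▸ ⟨_, hst a ((1 : F) • b) ha (hb.smul F₀.one_mem) _ _, fun x => (pairAct_L hq.swap 1 x).symm⟩
        · have e : A = sl2U F (-δ) := Subtype.ext (by rw [hA, sl2U_val])
          refine e ▸ ⟨siegel Q a' ((-(-δ)) • b') hq.qa' (by rw [polar_smul_right', hq.a'b', mul_zero]), ?_,
            fun x => (pairAct_U hq.swap (-δ) x).symm⟩
          have := hy' 1 F₀.one_mem
          rw [one_mul] at this
          have h5 : SiegIn Q M a' ((-(-δ)) • b') := by rwa [neg_neg]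
          exact h5 _ _
      obtain ⟨g, hg, hgx⟩ : sl2L F t ∈ actGroup hq.swap M := hle (hG ▸ Subgroup.mem_top _)
      have e : g = siegel Q a (t • b) he hw' := LinearEquiv.ext fun x => by
        rw [hgx, pairAct_L hq.swap]
      rwa [← e]
    · exact absurd ⟨h9, by rw [← hsq', neg_pow_two]⟩ hsq

include h hn in
/-- An alternating map with rational values on orthogonal singular pairs has rational values, given its values on
hyperbolic pairs. -/
theorem form_rational_of (β : (ι → F) → (ι → F) → F) (hl : ∀ x x' z, β (x + x') z = β x z + β x' z)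
    (hls : ∀ (s : F) x z, β (s • x) z = s * β x z) (halt : ∀ x z, β z x = -β x z) (hself : ∀ x, β x x = 0)
    (hs2 : (∀ a b, RatV F₀ a → RatV F₀ b → Q a = 0 → polar Q a b = 0 → β a b ∈ F₀) →
      ∀ a f, RatV F₀ a → RatV F₀ f → Q a = 0 → Q f = 0 → polar Q a f = 1 → β a f ∈ F₀)
    (hβ : ∀ a b, RatV F₀ a → RatV F₀ b → Q a = 0 → Q b = 0 → polar Q a b = 0 → β a b ∈ F₀) :
    ∀ x z, RatV F₀ x → RatV F₀ z → β x z ∈ F₀ := by
  have hr' : ∀ x z z', β x (z + z') = β x z + β x z' := fun x z z' => by
    rw [halt (z + z') x, hl, halt z x, halt z' x]; ring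
  have hrs : ∀ (s : F) x z, β x (s • z) = s * β x z := fun s x z => by
    rw [halt (s • z) x, hls, halt z x]; ring
  have hrsub : ∀ x z z', β x (z - z') = β x z - β x z' := fun x z z' => by
    rw [sub_eq_add_neg, hr', ← neg_one_smul F z', hrs]; ring
  -- singular against orthogonal
  have s1 : ∀ a b, RatV F₀ a → RatV F₀ b → Q a = 0 → polar Q a b = 0 → β a b ∈ F₀ := by
    intro a b ha hb hQa hab
    by_cases ha0 : a = 0
    · have := hls 0 a b
      rw [zero_smul, zero_mul] at this
      rw [ha0, this]; exact F₀.zero_mem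
    obtain ⟨a₁, ha₁, hQa₁, haa₁, -⟩ := h.exists_partner (k := 0) ha hQa ![] (fun j => j.elim0) (fun j => j.elim0)
      (by simpa [Matrix.range_empty] using ha0)
    obtain ⟨d, hd⟩ : ∃ d, d = b - polar Q b a₁ • a := ⟨_, rfl⟩
    have hdr : RatV F₀ d := hd ▸ hb.sub (ha.smul (h.polar_mem hb ha₁))
    have had : polar Q a d = 0 := by rw [hd, polar_sub_right, polar_smul_right', polar_self', hQa, hab]; ring
    have e1 : β a b = β a d := by rw [hd, hrsub, hrs, hself]; ring
    obtain ⟨e, f, he, hf, hQe, hQf, hef, hperp⟩ := h.exists_pair ![a, d] (fun j => by fin_cases j <;> simp [ha, hdr])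
      (by omega)
    have hae := hperp 0
    have hde := hperp 1
    simp only [Matrix.cons_val_zero, Matrix.cons_val_one, Matrix.head_cons] at hae hde
    have k1 := hβ a (d + e - Q d • f) ha (fun i => F₀.sub_mem (F₀.add_mem (hdr i) (he i))
      (F₀.mul_mem (h.rat d hdr) (hf i))) hQa
      (by rw [CfsgLib.Geometry.map_sub', CfsgLib.Geometry.map_add', CfsgLib.Geometry.map_smul', polar_smul_right', polar_add_left, hQe, hQf,
        hde.1, hde.2, hef]; ring)
      (by rw [polar_sub_right, polar_add_right, polar_smul_right', had, hae.1, hae.2]; ring)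
    rw [hrsub, hr', hrs] at k1
    have k2 := hβ a e ha he hQa hQe hae.1
    have k3 := hβ a f ha hf hQa hQf hae.2
    rw [e1, show β a d = (β a d + β a e - Q d * β a f) - β a e + Q d * β a f by ring]
    exact F₀.add_mem (F₀.sub_mem k1 k2) (F₀.mul_mem (h.rat d hdr) k3)
  have s2 := hs2 s1
  have s3 : ∀ a z, RatV F₀ a → RatV F₀ z → Q a = 0 → β a z ∈ F₀ := by
    intro a z ha hz hQa
    by_cases ha0 : a = 0
    · have := hls 0 a z
      rw [zero_smul, zero_mul] at this
      rw [ha0, this]; exact F₀.zero_mem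
    obtain ⟨f, hf, hQf, haf, -⟩ := h.exists_partner (k := 0) ha hQa ![] (fun j => j.elim0) (fun j => j.elim0)
      (by simpa [Matrix.range_empty] using ha0)
    have k := s1 a (z - polar Q a z • f) ha (hz.sub (hf.smul (h.polar_mem ha hz))) hQa
      (by rw [polar_sub_right, polar_smul_right', haf, mul_one, sub_self])
    rw [hrsub, hrs] at k
    rw [show β a z = (β a z - polar Q a z * β a f) + polar Q a z * β a f by ring]
    exact F₀.add_mem k (F₀.mul_mem (h.polar_mem ha hz) (s2 a f ha hf hQa hQf haf))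
  intro x z hx hz
  obtain ⟨e, f, he, hf, hQe, hQf, hef, hperp⟩ := h.exists_pair ![x] (fun j => by fin_cases j; simp [hx]) (by omega)
  have hxe := hperp 0
  simp only [Matrix.cons_val_zero] at hxe
  have k1 := s3 (x + e + (-(Q x)) • f) z (fun i => F₀.add_mem (F₀.add_mem (hx i) (he i))
    (F₀.mul_mem (F₀.neg_mem (h.rat x hx)) (hf i))) hz
    (by rw [CfsgLib.Geometry.map_add', CfsgLib.Geometry.map_add', CfsgLib.Geometry.map_smul', polar_smul_right', polar_add_left, hQe, hQf, hxe.1,
      hxe.2, hef]; ring)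
  rw [hl, hl, hls] at k1
  rw [show β x z = (β x z + β e z + -(Q x) * β f z) - β e z + Q x * β f z by ring]
  exact F₀.add_mem (F₀.sub_mem k1 (s3 e z he hz hQe)) (F₀.mul_mem (h.rat x hx) (s3 f z hf hz hQf))

include h h2 hn in
/-- An alternating map with rational values on orthogonal singular pairs has rational values. -/
theorem form_rational (β : (ι → F) → (ι → F) → F) (hl : ∀ x x' z, β (x + x') z = β x z + β x' z)
    (hls : ∀ (s : F) x z, β (s • x) z = s * β x z) (halt : ∀ x z, β z x = -β x z)
    (hβ : ∀ a b, RatV F₀ a → RatV F₀ b → Q a = 0 → Q b = 0 → polar Q a b = 0 → β a b ∈ F₀) :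
    ∀ x z, RatV F₀ x → RatV F₀ z → β x z ∈ F₀ := by
  have hr' : ∀ x z z', β x (z + z') = β x z + β x z' := fun x z z' => by
    rw [halt (z + z') x, hl, halt z x, halt z' x]; ring
  have hrsub : ∀ x z z', β x (z - z') = β x z - β x z' := fun x z z' => by
    rw [halt (z - z') x, sub_eq_add_neg z z', hl, ← neg_one_smul F z', hls, halt z x, halt z' x]; ring
  refine form_rational_of h hn β hl hls halt (fun x => ?_) (fun s1 => ?_) hβ
  · have h0 : 2 * β x x = 0 := by linear_combination halt x x
    exact (mul_eq_zero.1 h0).resolve_left h2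
  -- hyperbolic pairs
  · intro a f ha hf hQa hQf haf
    obtain ⟨c, d, hc, hd, hQc, hQd, hcd, hperp⟩ := h.exists_pair ![a, f] (fun j => by fin_cases j <;> simp [ha, hf])
      (by omega)
    have hac := hperp 0
    have hfc := hperp 1
    simp only [Matrix.cons_val_zero, Matrix.cons_val_one, Matrix.head_cons] at hac hfc
    have key : ∀ c d, RatV F₀ c → RatV F₀ d → Q c = 0 → Q d = 0 → polar Q c d = 1 → polar Q a c = 0 → polar Q a d = 0 →
        polar Q f c = 0 → polar Q f d = 0 → β a f - β c d ∈ F₀ := by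
      intro c d hc hd hQc hQd hcd hac had hfc hfd
      have k := s1 (a + c) (f - d) (fun i => F₀.add_mem (ha i) (hc i)) (hf.sub hd)
        (by rw [CfsgLib.Geometry.map_add', hQa, hQc, hac]; ring)
        (by rw [polar_add_left, polar_sub_right, polar_sub_right, haf, had, QuadraticMap.polar_comm Q c f, hfc, hcd]; ring)
      rw [hl, hrsub, hrsub] at k
      have k1 := hβ a d ha hd hQa hQd had
      have k2 := hβ c f hc hf hQc hQf (by rw [QuadraticMap.polar_comm]; exact hfc)
      rw [show β a f - β c d = (β a f - β a d + (β c f - β c d)) + β a d - β c f by ring]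
      exact F₀.sub_mem (F₀.add_mem k k1) k2
    have k1 := key c d hc hd hQc hQd hcd hac.1 hac.2 hfc.1 hfc.2
    have k2 := key d c hd hc hQd hQc (by rw [QuadraticMap.polar_comm]; exact hcd) hac.2 hac.1 hfc.2 hfc.1
    rw [halt c d] at k2
    have k3 := F₀.mul_mem (F₀.inv_mem (natCast_mem F₀ 2)) (F₀.add_mem k1 k2)
    rw [Nat.cast_ofNat, show β a f - β c d + (β a f - -β c d) = 2 * β a f by ring, ← mul_assoc,
      inv_mul_cancel₀ h2, one_mul] at k3
    exact k3

include h hn in
/-- A proper overgroup of the rational root elements is rational up to scalars, given the two local facts. -/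
theorem rat_dichotomy_of (hst : ∀ u w, RatV F₀ u → RatV F₀ w → SiegIn Q M u w) (hle : M ≤ siegelGroup Q)
    (hdet : ∀ a b u w, RatV F₀ a → RatV F₀ b → Q a = 0 → Q b = 0 → polar Q a b = 0 → Q u = 0 → Q w = 0 →
      polar Q u w = 0 → (∀ t ∈ F₀, SiegIn Q M u (t • w)) → rootDet Q a b u w ∉ F₀ → siegelGroup Q ≤ M)
    (hform : ∀ u w : ι → F, (∀ a b, RatV F₀ a → RatV F₀ b → Q a = 0 → Q b = 0 → polar Q a b = 0 →
      rootDet Q a b u w ∈ F₀) → ∀ x z, RatV F₀ x → RatV F₀ z → rootDet Q x z u w ∈ F₀) :
    siegelGroup Q ≤ M ∨ ∀ g ∈ M, ∃ c : F, c ≠ 0 ∧ ∀ v, RatV F₀ v → RatV F₀ (c • g v) := by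
  by_cases htop : siegelGroup Q ≤ M
  · exact Or.inl htop
  refine Or.inr fun g hg => ?_
  have hgo := siegelGroup_le_orth (hle hg)
  have hω : ∀ a₁ b₁, RatV F₀ a₁ → RatV F₀ b₁ → Q a₁ = 0 → Q b₁ = 0 → polar Q a₁ b₁ = 0 →
      ∀ x z, RatV F₀ x → RatV F₀ z → rootDet Q x z (g a₁) (g b₁) ∈ F₀ := by
    intro a₁ b₁ ha₁ hb₁ hQa₁ hQb₁ hab₁
    refine hform (g a₁) (g b₁) fun a b ha hb hQa hQb hab => ?_
    by_contra hδ
    refine htop (hdet a b _ _ ha hb hQa hQb hab (by rw [mem_orth.1 hgo, hQa₁])
      (by rw [mem_orth.1 hgo, hQb₁]) (by rw [orth_polar hgo, hab₁]) (fun t ht => ?_) hδ)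
    have := (hst a₁ (t • b₁) ha₁ (hb₁.smul ht)).conj hg hgo
    rwa [map_smul] at this
  have hη : ∀ a₁ b₁, RatV F₀ a₁ → RatV F₀ b₁ → Q a₁ = 0 → Q b₁ = 0 → polar Q a₁ b₁ = 0 → ∀ x, RatV F₀ x →
      RatV F₀ (polar Q x (g a₁) • g b₁ - polar Q x (g b₁) • g a₁) := by
    intro a₁ b₁ ha₁ hb₁ hQa₁ hQb₁ hab₁ x hx
    refine h.mem_of_dual fun z hz => ?_
    have := hω a₁ b₁ ha₁ hb₁ hQa₁ hQb₁ hab₁ x z hx hz
    rw [polar_sub_left, polar_smul_left', polar_smul_left', QuadraticMap.polar_comm Q (g b₁) z,
      QuadraticMap.polar_comm Q (g a₁) z]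
    exact this
  have hline : ∀ a, RatV F₀ a → Q a = 0 → ∀ x, RatV F₀ x → RatV F₀ (polar Q x (g a) • g a) := by
    intro a ha hQa x hx
    obtain ⟨b, c, hb, hc, hQb, hQc, hbc, hperp⟩ := h.exists_pair ![a] (fun j => by fin_cases j; simp [ha]) (by omega)
    have hab := hperp 0
    simp only [Matrix.cons_val_zero] at hab
    have hy := hη a c ha hc hQa hQc hab.2 x hx
    have := hη a b ha hb hQa hQb hab.1 _ hy
    simp only [polar_sub_left, polar_smul_left', orth_polar hgo, polar_self', hQa, QuadraticMap.polar_comm Q c a,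
      hab.1, hab.2, QuadraticMap.polar_comm Q c b, hbc, QuadraticMap.polar_comm Q (g c) (g a)] at this
    convert (RatV.smul this (F₀.neg_mem F₀.one_mem)) using 1
    module
  have hscal : ∀ a, RatV F₀ a → Q a = 0 → a ≠ 0 → ∃ s : F, s ≠ 0 ∧ s * s ∈ F₀ ∧ RatV F₀ (s • g a) := by
    intro a ha hQa ha0
    obtain ⟨x, hx, hne⟩ : ∃ x, RatV F₀ x ∧ polar Q x (g a) ≠ 0 := by
      by_contra hc
      push Not at hc
      exact ha0 (g.map_eq_zero_iff.1 (h.eq_zero fun u hu => by rw [QuadraticMap.polar_comm]; exact hc u hu))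
    refine ⟨_, hne, ?_, hline a ha hQa x hx⟩
    have := h.polar_mem hx (hline a ha hQa x hx)
    rwa [polar_smul_right'] at this
  obtain ⟨a, f, ha, hf, hQa, hQf, haf, -⟩ := h.exists_pair (k := 0) ![] (fun j => j.elim0) (by omega)
  have ha0 : a ≠ 0 := fun e => by rw [e, polar_zero_left] at haf; exact zero_ne_one haf
  obtain ⟨s, hs0, hs2, hsa⟩ := hscal a ha hQa ha0
  have hnear : ∀ b, RatV F₀ b → Q b = 0 → polar Q a b = 1 → RatV F₀ (s • g b) := by
    intro b hb hQb hab
    have hb0 : b ≠ 0 := fun e => by rw [e, polar_zero_right] at hab; exact zero_ne_one hab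
    obtain ⟨u, hu0, hu2, hub⟩ := hscal b hb hQb hb0
    have hsu : s * u ∈ F₀ := by
      have := h.polar_mem hsa hub
      rwa [polar_smul_left', polar_smul_right', orth_polar hgo, hab, mul_one] at this
    have : s • g b = (s * u / (u * u)) • (u • g b) := by
      rw [smul_smul]; congr 1; field_simp
    rw [this]
    exact hub.smul (F₀.div_mem hsu hu2)
  refine ⟨s, hs0, fun v hv => ?_⟩
  obtain ⟨z, hz⟩ : ∃ z, z = v - polar Q v f • a - polar Q v a • f := ⟨_, rfl⟩
  have hzr : RatV F₀ z := hz ▸ (hv.sub (ha.smul (h.polar_mem hv hf))).sub (hf.smul (h.polar_mem hv ha))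
  have hza : polar Q a z = 0 := by
    rw [hz, polar_sub_right, polar_sub_right, polar_smul_right', polar_smul_right', polar_self', hQa, haf,
      QuadraticMap.polar_comm Q a v]; ring
  have hzf : polar Q f z = 0 := by
    rw [hz, polar_sub_right, polar_sub_right, polar_smul_right', polar_smul_right', polar_self', hQf,
      QuadraticMap.polar_comm Q f a, haf, QuadraticMap.polar_comm Q f v]; ring
  have k := hnear (f + z + (-(Q z)) • a)
    (fun i => F₀.add_mem (F₀.add_mem (hf i) (hzr i)) (F₀.mul_mem (F₀.neg_mem (h.rat z hzr)) (ha i)))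
    (by rw [CfsgLib.Geometry.map_add', CfsgLib.Geometry.map_add', CfsgLib.Geometry.map_smul', polar_smul_right', polar_add_left, hQa, hQf, hzf,
      QuadraticMap.polar_comm Q f a, haf, QuadraticMap.polar_comm Q z a, hza]; ring)
    (by rw [polar_add_right, polar_add_right, polar_smul_right', haf, hza, polar_self', hQa]; ring)
  have kf := hnear f hf hQf haf
  have e : s • g v = (s • g (f + z + (-(Q z)) • a) - s • g f + Q z • (s • g a)) + polar Q v f • (s • g a) +
      polar Q v a • (s • g f) := by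
    have hv' : v = z + polar Q v f • a + polar Q v a • f := by rw [hz]; abel
    conv_lhs => rw [hv']
    simp only [map_add, map_smul, smul_add]
    module
  rw [e]
  exact fun i => F₀.add_mem (F₀.add_mem (F₀.add_mem (F₀.sub_mem (k i) (kf i)) (F₀.mul_mem (h.rat z hzr) (hsa i)))
    (F₀.mul_mem (h.polar_mem hv hf) (hsa i))) (F₀.mul_mem (h.polar_mem hv ha) (kf i))

include h hst hr hcard h2 hn in
/-- A proper overgroup of the rational root elements is rational up to scalars. -/
theorem rat_dichotomy (hle : M ≤ siegelGroup Q) :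
    siegelGroup Q ≤ M ∨ ∀ g ∈ M, ∃ c : F, c ≠ 0 ∧ ∀ v, RatV F₀ v → RatV F₀ (c • g v) :=
  rat_dichotomy_of h hn hst hle
    (fun _ _ _ _ ha hb hQa hQb hab hQu hQw huw hy hδ =>
      top_of_det h hst hr hcard h2 hn ha hb hQa hQb hab hQu hQw huw hy hδ)
    (fun u w hβ => form_rational h h2 hn (fun x z => rootDet Q x z u w)
      (fun x x' z => by simp only [rootDet, polar_add_left]; ring)
      (fun t x z => by simp only [rootDet, polar_smul_left']; ring)
      (fun x z => by simp only [rootDet]; ring) hβ)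

end CfsgLib.OrthMax
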