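import Cfsg.Agent.Lib.AschbacherOrth.OddRows
import Cfsg.Agent.Lib.AschbacherOrth.Proper
import Cfsg.Agent.Lib.Maximal.SubfieldFinal
import Cfsg.Agent.Lib.OrthMax.SubfieldOdd

/-! Subfield groups are maximal in the odd-dimensional orthogonal groups of dimension at least 7. -/

set_option autoImplicit false
open Cfsg CfsgLib CfsgLib.AschbacherOrth

namespace CfsgLib.OrthMax

/-- A subfield group of prime index is maximal in `Ω(2m+1, q)`. -/
theorem subfield_maximal_odd {F : Type*} [Field F] [Fintype F] (hodd : Odd (Fintype.card F)) (m : ℕ) (hm : 3 ≤ m) (F₀ : Subfield F) (r : ℕ) (hr : r.Prime) (hcard : Fintype.card F = Nat.card F₀ ^ r) (P : Matrix.GeneralLinearGroup (Unit ⊕ (Fin m ⊕ Fin m)) F) (hP : Cfsg.Geo.IsQuadFormRationalStructure (Cfsg.quadFormOdd m F) F₀ P) : Cfsg.Geo.IsMaximalIn (Cfsg.Geo.omegaGL (Cfsg.quadFormOdd m F)) (Cfsg.Geo.subfieldSubgroup F₀ P ⊓ Cfsg.Geo.omegaGL (Cfsg.quadFormOdd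 m F)) := by
  classical
  have h2 := two_ne_of_odd hodd
  obtain ⟨Q, hQc, hQ, -⟩ := exists_std_odd h2 m
  rw [← hQc] at hP ⊢
  have hι : 7 ≤ Fintype.card (Unit ⊕ (Fin m ⊕ Fin m)) := by simp; omega
  have h5 : 5 ≤ Fintype.card (Unit ⊕ (Fin m ⊕ Fin m)) := by omega
  have hn : 5 ≤ Module.finrank F ((Unit ⊕ (Fin m ⊕ Fin m)) → F) := by simpa using h5
  have hC := fun g => OrthMax.mem_commutator_iff_siegelGroup hQ hn (Q := Q) g
  have hF : F₀ ≠ ⊤ := fun e => by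
    obtain ⟨μ, hμ⟩ := Maximal.exists_notMem_subfield hr hcard
    exact hμ (e ▸ trivial)
  refine ⟨lt_of_le_of_ne inf_le_right fun h => not_subfield hQ h5 hF P
    (siegelIn_of_omega_le hQ h5 (inf_eq_right.1 h)), fun M hHM hMK => ?_⟩
  set N := (M.comap (Geometry.orthToGL Q) ⊓ commutator (Geometry.orth Q)).map (Geometry.orth Q).subtype
  have hNle : N ≤ Geometry.siegelGroup Q := by
    rintro _ ⟨g, hg, rfl⟩; exact (hC g).1 hg.2
  let e : ((Unit ⊕ (Fin m ⊕ Fin m)) → F) ≃ₗ[F] ((Unit ⊕ (Fin m ⊕ Fin m)) → F) := LinearEquiv.ofLinear (Matrix.toLin' (P : Matrix (Unit ⊕ (Fin m ⊕ Fin m)) (Unit ⊕ (Fin m ⊕ Fin m)) F))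
    (Matrix.toLin' ((P⁻¹ : Matrix.GeneralLinearGroup (Unit ⊕ (Fin m ⊕ Fin m)) F) : Matrix (Unit ⊕ (Fin m ⊕ Fin m)) (Unit ⊕ (Fin m ⊕ Fin m)) F))
    (by rw [← Matrix.toLin'_mul, ← Units.val_mul, mul_inv_cancel, Units.val_one, Matrix.toLin'_one])
    (by rw [← Matrix.toLin'_mul, ← Units.val_mul, inv_mul_cancel, Units.val_one, Matrix.toLin'_one])
  have he : ∀ v, e v = (P : Matrix (Unit ⊕ (Fin m ⊕ Fin m)) (Unit ⊕ (Fin m ⊕ Fin m)) F).mulVec v := fun v => Matrix.toLin'_apply _ v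
  have hes : ∀ v, e.symm v = ((P⁻¹ : Matrix.GeneralLinearGroup (Unit ⊕ (Fin m ⊕ Fin m)) F) : Matrix (Unit ⊕ (Fin m ⊕ Fin m)) (Unit ⊕ (Fin m ⊕ Fin m)) F).mulVec v := fun v =>
    Matrix.toLin'_apply _ v
  obtain ⟨Q', hQ'⟩ : ∃ Q' : QuadraticForm F ((Unit ⊕ (Fin m ⊕ Fin m)) → F), ∀ v, Q' v = Q (e v) := ⟨Q.comp e.toLinearMap, fun v => rfl⟩
  have hpol : ∀ u v, QuadraticMap.polar ⇑Q' u v = QuadraticMap.polar ⇑Q (e u) (e v) := fun u v => by
    simp [QuadraticMap.polar, hQ']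
  have hrat : OrthMax.RatQ Q' F₀ := by
    refine ⟨?_, fun u hu => ?_⟩
    · have key : ∀ u, (∀ v, QuadraticMap.polar ⇑Q' u v = 0) → u = 0 := fun u hu =>
        e.map_eq_zero_iff.1 (hQ.1 _ fun y => by
          rw [← e.apply_symm_apply y]
          exact (hpol _ _).symm.trans (hu _))
      exact ⟨key, fun u hu => key u fun v => by rw [QuadraticMap.polar_comm]; exact hu v⟩
    · rw [hQ', he]; exact hP u hu
  have hconj : ∀ (u w : (Unit ⊕ (Fin m ⊕ Fin m)) → F) (h1 : Q' u = 0) (h2 : QuadraticMap.polar ⇑Q' u w = 0),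
      e * Geometry.siegel Q' u w h1 h2 * e⁻¹ =
        Geometry.siegel Q (e u) (e w) (by rw [← hQ']; exact h1) (by rw [← hpol]; exact h2) := fun u w h1 h2 =>
    LinearEquiv.ext fun x => by
      show e (Geometry.siegel Q' u w h1 h2 (e.symm x)) = _
      simp only [Geometry.siegel_apply, hpol, hQ', LinearEquiv.apply_symm_apply, map_add, map_sub, map_smul]
  have hmem : ∀ g : Geometry.orth Q, Geometry.orthToGL Q g ∈ Geo.subfieldSubgroup F₀ P ↔
      ∃ c : F, c ≠ 0 ∧ ∀ v, Maximal.RatV F₀ v →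
        Maximal.RatV F₀ (c • e.symm ((g : ((Unit ⊕ (Fin m ⊕ Fin m)) → F) ≃ₗ[F] ((Unit ⊕ (Fin m ⊕ Fin m)) → F)) (e v))) := by
    intro g
    rw [Maximal.mem_subfieldSubgroup_iff]
    have hX : ∀ (c : F) (v : (Unit ⊕ (Fin m ⊕ Fin m)) → F), Matrix.mulVec (c • ((P⁻¹ * Geometry.orthToGL Q g * P :
        Matrix.GeneralLinearGroup (Unit ⊕ (Fin m ⊕ Fin m)) F) : Matrix (Unit ⊕ (Fin m ⊕ Fin m)) (Unit ⊕ (Fin m ⊕ Fin m)) F)) v = c • e.symm ((g : ((Unit ⊕ (Fin m ⊕ Fin m)) → F) ≃ₗ[F] ((Unit ⊕ (Fin m ⊕ Fin m)) → F)) (e v)) := by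
      intro c v
      rw [Matrix.smul_mulVec, Units.val_mul, Units.val_mul, ← Matrix.mulVec_mulVec, ← Matrix.mulVec_mulVec,
        Geometry.orthToGL_mulVec, hes, he]
    refine exists_congr fun c => and_congr_right fun hc => ⟨fun hr' v hv => hX c v ▸ hr'.mulVec hv,
      fun hr' i j => ?_⟩
    have := hr' _ (Maximal.ratV_single j F₀.one_mem) i
    rwa [← hX, Matrix.mulVec_single_one] at this
  set N' := N.comap (MulAut.conj e).toMonoidHom with hN'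
  have hN'le : N' ≤ Geometry.siegelGroup Q' := by
    have hsub : Geometry.siegelGroup Q ≤ (Geometry.siegelGroup Q').map (MulAut.conj e).toMonoidHom := by
      rw [Geometry.siegelGroup, Subgroup.closure_le]
      rintro _ ⟨z, w, hz, hw, rfl⟩
      refine ⟨Geometry.siegel Q' (e.symm z) (e.symm w) (by rw [hQ', e.apply_symm_apply]; exact hz)
        (by rw [hpol, e.apply_symm_apply, e.apply_symm_apply]; exact hw), Geometry.siegel_mem _ _ _ _, ?_⟩
      show e * _ * e⁻¹ = _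
      rw [hconj]
      simp
    intro x hx
    obtain ⟨y, hy, hye⟩ := hsub (hNle hx)
    exact (MulAut.conj e).injective hye ▸ hy
  have hst : ∀ u w, Maximal.RatV F₀ u → Maximal.RatV F₀ w → OrthMax.SiegIn Q' N' u w := by
    intro u w hu hw h1 h3
    show e * Geometry.siegel Q' u w h1 h3 * e⁻¹ ∈ N
    rw [hconj]
    have hg := Geometry.siegel_mem (e u) (e w) (show Q (e u) = 0 by rw [← hQ']; exact h1)
      (show QuadraticMap.polar ⇑Q (e u) (e w) = 0 by rw [← hpol]; exact h3)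
    refine ⟨⟨_, Geometry.siegelGroup_le_orth hg⟩, ⟨hHM ⟨(hmem _).2 ⟨1, one_ne_zero, fun v hv => ?_⟩, ?_⟩, (hC _).2 hg⟩, rfl⟩
    · have hv' : e.symm (Geometry.siegel Q (e u) (e w) (by rw [← hQ']; exact h1) (by rw [← hpol]; exact h3) (e v)) =
          Geometry.siegel Q' u w h1 h3 v := by
        rw [LinearEquiv.symm_apply_eq, ← hconj u w h1 h3]
        show e (Geometry.siegel Q' u w h1 h3 (e.symm (e v))) = _
        rw [LinearEquiv.symm_apply_apply]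
      rw [one_smul, hv', Geometry.siegel_apply]
      exact ((Maximal.RatV.sub (fun i => F₀.add_mem (hv i) (F₀.mul_mem (hrat.polar_mem hv hu) (hw i)))
        (hu.smul (hrat.polar_mem hv hw))).sub (hu.smul (F₀.mul_mem (hrat.rat w hw) (hrat.polar_mem hv hu))))
    · rw [Geometry.omegaGL_eq_map]
      exact Subgroup.mem_map_of_mem _ ((hC _).2 hg)
  rcases OrthMax.rat_dichotomy hrat hst hr hcard h2 hι hN'le with htop | hall
  · refine Or.inr (le_antisymm hMK ?_)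
    rw [Geometry.omegaGL_eq_map]
    rintro _ ⟨g, hg, rfl⟩
    have htopN : Geometry.siegelGroup Q ≤ N := by
      rw [Geometry.siegelGroup, Subgroup.closure_le]
      rintro _ ⟨z, w, hz, hw, rfl⟩
      have := htop (Geometry.siegel_mem (e.symm z) (e.symm w) (show Q' (e.symm z) = 0 by
        rw [hQ', e.apply_symm_apply]; exact hz)
        (show QuadraticMap.polar ⇑Q' (e.symm z) (e.symm w) = 0 by
          rw [hpol, e.apply_symm_apply, e.apply_symm_apply]; exact hw))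
      simpa [hN', hconj] using this
    obtain ⟨g', hg', he'⟩ := htopN ((hC g).1 hg)
    rw [← Subtype.ext he']
    exact hg'.1
  · refine Or.inl (le_antisymm (fun x hx => ?_) hHM)
    have hm' := hMK hx
    rw [Geometry.omegaGL_eq_map] at hm'
    obtain ⟨g, hg, rfl⟩ := hm'
    refine ⟨(hmem g).2 ?_, by rw [Geometry.omegaGL_eq_map]; exact Subgroup.mem_map_of_mem _ hg⟩
    obtain ⟨c, hc, hcv⟩ := hall (e⁻¹ * (g : ((Unit ⊕ (Fin m ⊕ Fin m)) → F) ≃ₗ[F] ((Unit ⊕ (Fin m ⊕ Fin m)) → F)) * e) (by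
      show e * (e⁻¹ * (g : ((Unit ⊕ (Fin m ⊕ Fin m)) → F) ≃ₗ[F] ((Unit ⊕ (Fin m ⊕ Fin m)) → F)) * e) * e⁻¹ ∈ N
      rw [show e * (e⁻¹ * (g : ((Unit ⊕ (Fin m ⊕ Fin m)) → F) ≃ₗ[F] ((Unit ⊕ (Fin m ⊕ Fin m)) → F)) * e) * e⁻¹ = g by group]
      exact ⟨g, ⟨hx, hg⟩, rfl⟩)
    exact ⟨c, hc, hcv⟩

end CfsgLib.OrthMax
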