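import Cfsg.Agent.Lib.OrthMax.TwoTop
import Cfsg.Agent.Lib.OrthMax.DecompMax

/-! Stabilisers of orthogonal decompositions into planes are maximal in `Ω(Q)`. -/

set_option autoImplicit false
set_option linter.unusedSectionVars false
set_option linter.unusedVariables false
set_option linter.unusedSimpArgs false
set_option linter.deprecated false
set_option linter.style.haveILetI false

namespace CfsgLib.OrthMax

open QuadraticMap CfsgLib.Geometry

variable {F V κ : Type*} [Field F] [Finite F] [AddCommGroup V] [Module F V] [FiniteDimensional F V]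
variable [Fintype κ] [DecidableEq κ]
variable {Q : QuadraticForm F V} {M : Subgroup (V ≃ₗ[F] V)} {D : κ → Submodule F V}

/-- Two singular-line lemma input: among three ratios two square classes agree. -/
theorem square_ratio {a b c : F} (ha : a ≠ 0) (hb : b ≠ 0) (hc : c ≠ 0) :
    IsSquare (a * b) ∨ IsSquare (a * c) ∨ IsSquare (b * c) := by
  by_cases h1 : IsSquare (a * b)
  · exact Or.inl h1
  by_cases h2 : IsSquare (a * c)
  · exact Or.inr (Or.inl h2)
  refine Or.inr (Or.inr ?_)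
  obtain ⟨r, hr⟩ := CfsgLib.Geometry.isSquare_mul_of_not h1 h2
  exact ⟨r / a, by rw [div_mul_div_comm, ← hr]; field_simp⟩

/-- A singular product of two reflections is a root element. -/
theorem siegIn_of_rel {x r : V} (hQx : Q x ≠ 0) (hr : Q r = 0) (hxr : polar Q r x = 0) (h : Rel Q M x (x + r)) :
    SiegIn Q M r ((Q x)⁻¹ • x) := by
  intro he hw
  have hQ' : Q (x + r) = Q x := by rw [CfsgLib.Geometry.map_add', hr, QuadraticMap.polar_comm, hxr]; ring
  have hQ0 : Q (x + r) ≠ 0 := by rw [hQ']; exact hQx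
  convert h hQx hQ0 using 1
  refine LinearEquiv.ext fun v => ?_
  rw [siegel_apply, LinearEquiv.mul_apply, refl_apply, refl_apply, CfsgLib.Geometry.map_smul', polar_smul_right', hQ']
  simp only [polar_sub_left, polar_smul_left', polar_add_left, polar_add_right, polar_self', hxr]
  match_scalars <;> field_simp <;> ring

namespace TwoCtx

variable (c : TwoCtx Q D M)

include c in
theorem mem_of_keeps {m : V ≃ₗ[F] V} (hm : KeepsParts D m) {l : κ} {a : V} (ha : a ∈ D l) : ∃ i, m a ∈ D i :=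
  (hm l).imp fun i hi => hi a ha

include c in
theorem other_of_notMem {x : V} (hx : ∀ l, x ∉ D l) :
    ∃ j o, j ≠ o ∧ prPart c.two.parts j x ≠ 0 ∧ prPart c.two.parts o x ≠ 0 := by
  obtain ⟨i⟩ : Nonempty κ := Fintype.card_pos_iff.1 (by have := c.seven; omega)
  obtain ⟨j, -, hj⟩ := other_component c.two.parts (hx i)
  obtain ⟨o, hoj, ho⟩ := other_component c.two.parts (hx j)
  exact ⟨j, o, hoj.symm, hj, ho⟩

include c in
theorem seed_core {x a : V} {l : κ} (ha : a ∈ D l) (hQa : Q a ≠ 0) (hxa : Q x = Q a) (hR : Rel Q M x a)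
    {m : V ≃ₗ[F] V} (hm : m ∈ M) (hmk : KeepsParts D m) {p : κ} (hxp : prPart c.two.parts p x ≠ 0)
    (hout : prPart c.two.parts p (m x - x) = 0) (hsp : Spare (h := c.two.parts) (m x - x) p)
    (hperp : polar Q x (m x - x) = 0) (hne : m x - x ≠ 0) : Seed (h := c.two.parts) M := by
  have hmo := c.mem_orth' hm
  have hQx : Q x ≠ 0 := by rw [hxa]; exact hQa
  have hQm : Q (m a) = Q a := mem_orth.1 hmo a
  obtain ⟨i, hi⟩ := c.mem_of_keeps hmk ha
  have h1 : Rel Q M x (m x) :=
    (hR.trans hQa (c.rel_parts ha hi hQm)).trans (by rw [hQm]; exact hQa) (hR.symm.conj hm hmo)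
  obtain ⟨r, hr⟩ : ∃ r, r = m x - x := ⟨_, rfl⟩
  have hmx : m x = x + r := by rw [hr]; abel
  rw [← hr] at hout hsp hperp hne
  have hQr : Q r = 0 := by
    have h2 := mem_orth.1 hmo x
    rw [hmx, CfsgLib.Geometry.map_add', hperp] at h2
    linear_combination h2
  refine ⟨r, (Q x)⁻¹ • x, p, hQr, hne, by rw [polar_smul_right', QuadraticMap.polar_comm, hperp, mul_zero],
    siegIn_of_rel hQx hQr (by rw [QuadraticMap.polar_comm]; exact hperp) (hmx ▸ h1), hout, ?_, hsp⟩
  rw [map_smul]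
  exact fun e => hxp ((smul_eq_zero.1 e).resolve_left (inv_ne_zero hQx))

include c in
/-- A vanishing component outside `p` leaves enough reflections. -/
theorem spare_of_free {y : V} {p q : κ} (hqp : q ≠ p) (hq : prPart c.two.parts q y = 0) :
    Spare (h := c.two.parts) y p := by
  refine ⟨fun u _ => ?_, fun j o hoj hj ho => ⟨j, o, q, q, hoj, hj, ho, fun e => hj (e ▸ hq), fun e => ho (e ▸ hq), hqp,
    fun e => hj (e ▸ hq), fun e => ho (e ▸ hq), hqp, ?_⟩⟩
  · obtain ⟨d, hd, hQd⟩ := c.two.exists_value q u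
    exact ⟨q, hqp, d, hd, hQd, c.perp_pr hd hq⟩
  · obtain ⟨d, hd, hQd⟩ := c.two.exists_value q (1 : F)
    obtain ⟨d', hd', hQd'⟩ := c.two.exists_value q (-1 : F)
    exact ⟨d, hd, d', hd', by rw [hQd]; exact one_ne_zero, by rw [hQd', hQd], c.perp_pr hd hq, c.perp_pr hd' hq⟩

include c in
/-- Three components are enough. -/
theorem seed_of_three {x a : V} {l : κ} (ha : a ∈ D l) (hQa : Q a ≠ 0) (hxa : Q x = Q a) (hR : Rel Q M x a)
    {j o p : κ} (hjo : j ≠ o) (hjp : j ≠ p) (hop : o ≠ p) (hxj : prPart c.two.parts j x ≠ 0)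
    (hxo : prPart c.two.parts o x ≠ 0) (hxp : prPart c.two.parts p x ≠ 0) : Seed (h := c.two.parts) M := by
  classical
  have h := c.two.parts
  obtain ⟨b, hb, b', hb', hub, hvb, hQb, hQb'⟩ :=
    c.two.exists_opp_pair c.iso (h.pr_mem j x) (h.pr_mem o x) hxj hxo
  have hb'0 : Q b' ≠ 0 := by rw [hQb']; exact neg_ne_zero.2 hQb
  have hxb : polar Q x b = 1 := by rw [← h.polar_pr' hb]; exact hub
  have hxb' : polar Q x b' = 1 := by rw [← h.polar_pr' hb']; exact hvb
  by_cases hz : ∃ q, prPart h q x = 0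
  · obtain ⟨q, hq⟩ := hz
    have hqj : q ≠ j := fun e => hxj (e ▸ hq)
    have hqo : q ≠ o := fun e => hxo (e ▸ hq)
    obtain ⟨d, hd, hQd⟩ := c.two.exists_value q (Q b)
    obtain ⟨d', hd', hQd'⟩ := c.two.exists_value q (-Q b)
    have hd0 : Q d ≠ 0 := by rw [hQd]; exact hQb
    have hd'0 : Q d' ≠ 0 := by rw [hQd']; exact neg_ne_zero.2 hQb
    have hm := c.four_mem hb hb' hd hd' hQb hb'0 hd0 hd'0 ⟨Q b * Q b, by rw [hQb', hQd, hQd']; ring⟩
    have hmx : (refl Q b hQb * refl Q b' hb'0 * refl Q d hd0 * refl Q d' hd'0) x - x = (Q b)⁻¹ • (b' - b) := by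
      show refl Q b hQb (refl Q b' hb'0 (refl Q d hd0 (refl Q d' hd'0 x))) - x = _
      rw [c.four_apply hb hb' hd hd' hjo hqj hqo hqj hqo hQb hb'0 hd0 hd'0 (c.perp_pr hd hq)
        (c.perp_pr hd' hq), hxb, hxb', hQb', inv_neg]
      module
    refine c.seed_core ha hQa hxa hR hm (((c.keeps_refl hb hQb).mul (c.keeps_refl hb' hb'0)).mul (c.keeps_refl hd hd0) |>.mul (c.keeps_refl hd' hd'0))
      (p := p) hxp ?_ ?_ ?_ ?_
    · rw [hmx, map_smul, map_sub, h.pr_other hjp hb, h.pr_other hop hb']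
      simp
    · refine c.spare_of_free (q := q) (fun e => hxp (e ▸ hq)) ?_
      rw [hmx, map_smul, map_sub, h.pr_other hqj.symm hb, h.pr_other hqo.symm hb']
      simp
    · rw [hmx, polar_smul_right', polar_sub_right, hxb, hxb']; ring
    · rw [hmx]
      intro e
      have h1 := congrArg (prPart h j) e
      rw [map_smul, map_sub, h.pr_other hjo.symm hb', h.pr_of_mem hb, map_zero, zero_sub, smul_neg, neg_eq_zero,
        smul_eq_zero] at h1
      exact h1.elim (inv_ne_zero hQb) (fun e' => hQb (by rw [e', QuadraticMap.map_zero]))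
  push Not at hz
  by_cases hsq : IsSquare (-1 : F)
  · -- two reflections suffice
    obtain ⟨i, hi⟩ := hsq
    have hi0 : i ≠ 0 := fun e => by simp [e] at hi
    have hQs : Q (i • b') = Q b := by rw [CfsgLib.Geometry.map_smul', hQb']; linear_combination Q b * hi
    have hQs0 : Q (i • b') ≠ 0 := by rw [hQs]; exact hQb
    have hm := c.pair_mem hb ((D o).smul_mem i hb') hQb hQs0 hQs
    have hmx : (refl Q b hQb * refl Q (i • b') hQs0) x - x = (Q b)⁻¹ • (b' - b) := by
      show refl Q b hQb (refl Q (i • b') hQs0 x) - x = _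
      rw [refl_apply Q (i • b'), refl_apply Q b, polar_sub_left, polar_smul_left', polar_smul_left', polar_smul_right',
        hxb, hxb', hQs, h.orth o j hjo.symm b' hb' b hb]
      match_scalars <;> first | linear_combination (Q b)⁻¹ * hi | ring
    obtain ⟨k, hk⟩ := exists_notMem_finset ({j, o, p} : Finset κ) (Finset.card_le_three.trans_lt (by have := c.seven; omega))
    simp only [Finset.mem_insert, Finset.mem_singleton, not_or] at hk
    refine c.seed_core ha hQa hxa hR hm ((c.keeps_refl hb hQb).mul (c.keeps_refl ((D o).smul_mem i hb') hQs0))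
      (p := p) hxp ?_ ?_ ?_ ?_
    · rw [hmx, map_smul, map_sub, h.pr_other hjp hb, h.pr_other hop hb']
      simp
    · refine c.spare_of_free (q := k) hk.2.2 ?_
      rw [hmx, map_smul, map_sub, h.pr_other (Ne.symm hk.1) hb, h.pr_other (Ne.symm hk.2.1) hb']
      simp
    · rw [hmx, polar_smul_right', polar_sub_right, hxb, hxb']; ring
    · rw [hmx]
      intro e
      have h1 := congrArg (prPart h j) e
      rw [map_smul, map_sub, h.pr_other hjo.symm hb', h.pr_of_mem hb, map_zero, zero_sub, smul_neg, neg_eq_zero,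
        smul_eq_zero] at h1
      exact h1.elim (inv_ne_zero hQb) (fun e' => hQb (by rw [e', QuadraticMap.map_zero]))
  obtain ⟨k, hk⟩ := exists_notMem_finset ({j, o, p} : Finset κ) (Finset.card_le_three.trans_lt (by have := c.seven; omega))
  obtain ⟨k', hk'⟩ := exists_notMem_finset ({j, o, p, k} : Finset κ) (Finset.card_le_four.trans_lt (by have := c.seven; omega))
  simp only [Finset.mem_insert, Finset.mem_singleton, not_or] at hk hk'
  obtain ⟨d, hd, d', hd', hud, hvd, hQd, hQd'⟩ :=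
    c.two.exists_opp_pair c.iso (h.pr_mem k x) (h.pr_mem k' x) (hz k) (hz k')
  have hd'0 : Q d' ≠ 0 := by rw [hQd']; exact neg_ne_zero.2 hQd
  have hxd : polar Q x d = 1 := by rw [← h.polar_pr' hd]; exact hud
  have hxd' : polar Q x d' = 1 := by rw [← h.polar_pr' hd']; exact hvd
  have hm := c.four_mem hb hb' hd hd' hQb hb'0 hQd hd'0 ⟨Q b * Q d, by rw [hQb', hQd']; ring⟩
  have hmx : (refl Q b hQb * refl Q b' hb'0 * refl Q d hQd * refl Q d' hd'0) x - x =
      (Q b)⁻¹ • (b' - b) + (Q d)⁻¹ • (d' - d) := by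
    show refl Q b hQb (refl Q b' hb'0 (refl Q d hQd (refl Q d' hd'0 x))) - x = _
    simp only [refl_apply, polar_sub_left, polar_smul_left', hxd, hxd', hxb, hxb', h.orth k' k hk'.2.2.2 d' hd' d hd,
      h.orth k' o hk'.2.1 d' hd' b' hb', h.orth k o hk.2.1 d hd b' hb', h.orth k' j hk'.1 d' hd' b hb,
      h.orth k j hk.1 d hd b hb, h.orth o j hjo.symm b' hb' b hb, hQb', hQd', inv_neg, mul_zero, sub_zero, mul_one]
    module
  refine c.seed_core ha hQa hxa hR hm (((c.keeps_refl hb hQb).mul (c.keeps_refl hb' hb'0)).mul (c.keeps_refl hd hQd) |>.mul (c.keeps_refl hd' hd'0))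
    (p := p) hxp ?_ ?_ ?_ ?_
  · rw [hmx, map_add, map_smul, map_smul, map_sub, map_sub, h.pr_other hjp hb, h.pr_other hop hb',
      h.pr_other hk.2.2 hd, h.pr_other hk'.2.2.1 hd']
    simp
  · -- components of opposite classes
    rw [hmx]
    set r := (Q b)⁻¹ • (b' - b) + (Q d)⁻¹ • (d' - d) with hr
    have hne2 : ∀ {i l : κ}, i ≠ l → ∀ {u : V}, u ∈ D i → prPart h l u = 0 := fun {i l} hil {u} hu => h.pr_other hil hu
    have hrj : prPart h j r = (-(Q b)⁻¹) • b := by
      rw [hr, map_add, map_smul, map_smul, map_sub, map_sub, h.pr_of_mem hb, hne2 hjo.symm hb', hne2 hk.1 hd, hne2 hk'.1 hd']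
      module
    have hro : prPart h o r = (Q b)⁻¹ • b' := by
      rw [hr, map_add, map_smul, map_smul, map_sub, map_sub, h.pr_of_mem hb', hne2 hjo hb, hne2 hk.2.1 hd, hne2 hk'.2.1 hd']
      module
    have hrk : prPart h k r = (-(Q d)⁻¹) • d := by
      rw [hr, map_add, map_smul, map_smul, map_sub, map_sub, h.pr_of_mem hd, hne2 (Ne.symm hk.1) hb,
        hne2 (Ne.symm hk.2.1) hb', hne2 hk'.2.2.2 hd']
      module
    have hrk' : prPart h k' r = (Q d)⁻¹ • d' := by
      rw [hr, map_add, map_smul, map_smul, map_sub, map_sub, h.pr_of_mem hd', hne2 (Ne.symm hk'.1) hb,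
        hne2 (Ne.symm hk'.2.1) hb', hne2 (Ne.symm hk'.2.2.2) hd]
      module
    obtain ⟨w, hw, hw0, hdw⟩ := c.two.exists_perp (l := k) d
    obtain ⟨ψ, hψd, hψ⟩ := c.two.exists_sim_between c.iso hd hQd hd'
    have hQw : Q w ≠ 0 := fun e => hw0 (c.two.perp_singular hd hw hQd hdw e)
    have hψQ : ∀ v ∈ D k, Q (ψ v) = -1 * Q v := fun v hv => by
      rw [(hψ v hv).2, hQd']; field_simp
    have hww : polar Q d' (ψ w) = 0 := by
      rw [← hψd, TwoParts.polar_sim hψQ hd hw, hdw, mul_zero]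
    have hrw : polar Q r w = 0 := by rw [← h.polar_pr' hw, hrk, polar_smul_left', hdw, mul_zero]
    have hrw' : polar Q r (ψ w) = 0 := by rw [← h.polar_pr' (hψ w hw).1, hrk', polar_smul_left', hww, mul_zero]
    refine ⟨fun u hu => ?_, fun _ _ _ _ _ => ⟨j, o, k, k', hjo.symm, ?_, ?_, hk.1, hk.2.1, hk.2.2, hk'.1, hk'.2.1, hk'.2.2.1,
      w, hw, ψ w, (hψ w hw).1, hQw, by rw [hψQ w hw]; ring, hrw, hrw'⟩⟩
    · -- either sign of `Q w` is the class of `u`
      rcases square_ratio hu hQw (neg_ne_zero.2 hQw) with e | e | e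
      · obtain ⟨s, hs⟩ := e
        refine ⟨k, hk.2.2, (s / Q w) • w, (D k).smul_mem _ hw, ?_, by rw [polar_smul_right', hrw, mul_zero]⟩
        rw [CfsgLib.Geometry.map_smul']; field_simp; linear_combination -hs
      · obtain ⟨s, hs⟩ := e
        refine ⟨k', hk'.2.2.1, (s / Q w) • ψ w, (D k').smul_mem _ (hψ w hw).1, ?_,
          by rw [polar_smul_right', hrw', mul_zero]⟩
        rw [CfsgLib.Geometry.map_smul', hψQ w hw]; field_simp; linear_combination hs
      · obtain ⟨s, hs⟩ := e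
        exact absurd ⟨s / Q w, by field_simp; linear_combination hs⟩ hsq
    · rw [hrj]; exact smul_ne_zero (neg_ne_zero.2 (inv_ne_zero hQb)) fun e => hQb (by rw [e, QuadraticMap.map_zero])
    · rw [hro]; exact smul_ne_zero (inv_ne_zero hQb) fun e => hb'0 (by rw [e, QuadraticMap.map_zero])
  · rw [hmx, polar_add_right, polar_smul_right', polar_smul_right', polar_sub_right, polar_sub_right, hxb, hxb', hxd, hxd']
    ring
  · rw [hmx]
    intro e
    have h1 := congrArg (prPart h j) e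
    rw [map_add, map_smul, map_smul, map_sub, map_sub, h.pr_other hjo.symm hb', h.pr_of_mem hb,
      h.pr_other hk'.1 hd', h.pr_other hk.1 hd, map_zero, zero_sub, smul_neg, sub_zero, smul_zero, add_zero,
      neg_eq_zero, smul_eq_zero] at h1
    exact h1.elim (inv_ne_zero hQb) (fun e' => hQb (by rw [e', QuadraticMap.map_zero]))

include c in
/-- A reflection pair with a vector outside the parts gives a seed. -/
theorem seed_of_rel {x a : V} {l : κ} (ha : a ∈ D l) (hQa : Q a ≠ 0) (hxa : Q x = Q a) (hR : Rel Q M x a)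
    (hx : ∀ i, x ∉ D i) : Seed (h := c.two.parts) M := by
  classical
  have h := c.two.parts
  obtain ⟨j, o, hjo, hj, ho⟩ := c.other_of_notMem hx
  by_cases h3 : ∃ p, p ≠ j ∧ p ≠ o ∧ prPart h p x ≠ 0
  · obtain ⟨p, hpj, hpo, hp⟩ := h3
    exact c.seed_of_three ha hQa hxa hR hjo hpj.symm hpo.symm hj ho hp
  push Not at h3
  obtain ⟨p, hp⟩ := exists_notMem_finset ({j, o} : Finset κ) (Finset.card_le_two.trans_lt (by have := c.seven; omega))
  obtain ⟨q, hq⟩ := exists_notMem_finset ({j, o, p} : Finset κ) (Finset.card_le_three.trans_lt (by have := c.seven; omega))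
  simp only [Finset.mem_insert, Finset.mem_singleton, not_or] at hp hq
  set u := prPart h j x
  set v := prPart h o x
  have hu : u ∈ D j := h.pr_mem j x
  have hv : v ∈ D o := h.pr_mem o x
  have hxuv : x = u + v := h.ext_pr fun i => by
    rw [map_add]
    by_cases hij : i = j
    · subst hij; rw [h.pr_of_mem hu, h.pr_other hjo.symm hv, add_zero]
    by_cases hio : i = o
    · subst hio; rw [h.pr_of_mem hv, h.pr_other hjo hu, zero_add]
    rw [h3 i hij hio, h.pr_other (Ne.symm hij) hu, h.pr_other (Ne.symm hio) hv, add_zero]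
  -- a second position of the first component
  obtain ⟨u', hu', hQu', huu', hu'u, hne⟩ : ∃ u' ∈ D j, Q u' = Q u ∧ polar Q u u' ≠ 0 ∧
      u' ∉ Submodule.span F {u} ∧ Q (u - u') ≠ 0 := by
    by_cases hQu : Q u = 0
    · obtain ⟨f, hf, hQf, huf⟩ := h.exists_partner_in hu hj hQu
      refine ⟨f, hf, by rw [hQf, hQu], by rw [huf]; exact one_ne_zero, fun hm => ?_, ?_⟩
      · obtain ⟨k, rfl⟩ := Submodule.mem_span_singleton.1 hm
        rw [polar_smul_right', polar_self', hQu, mul_zero, mul_zero] at huf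
        exact zero_ne_one huf
      · rw [CfsgLib.Geometry.map_sub', hQu, hQf, huf]; simp
    · obtain ⟨f, hf, hQf, huf, hfu⟩ := c.two.exists_nonperp hu hj hQu
      refine ⟨f, hf, hQf, huf, hfu, fun e => ?_⟩
      have h1 : polar Q u (u - f) = 0 := by
        rw [CfsgLib.Geometry.map_sub', hQf] at e
        rw [polar_sub_right, polar_self']; linear_combination e
      have h2 := c.two.perp_singular hu ((D j).sub_mem hu hf) hQu h1 e
      exact hfu (Submodule.mem_span_singleton.2 ⟨1, by rw [one_smul]; exact sub_eq_zero.1 h2⟩)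
  obtain ⟨g, hg, hgk, hgo, -, hgfix⟩ :=
    exists_part_swap h c.rank c.iso (fun i => (c.two.two i).ge) (i := o) (j := p) (Ne.symm hp.2)
  have hgM := c.stab g hg hgk
  obtain ⟨d, hd, hQd⟩ := c.two.exists_value q (Q (u - u'))
  have hd0 : Q d ≠ 0 := by rw [hQd]; exact hne
  have hm2 := c.pair_mem ((D j).sub_mem hu hu') hd hne hd0 hQd
  have hru : refl Q (u - u') hne u = u' := by
    rw [refl_apply, show polar Q u (u - u') = Q (u - u') by
      rw [polar_sub_right, polar_self', CfsgLib.Geometry.map_sub', hQu']; ring, inv_mul_cancel₀ hne, one_smul, sub_sub_cancel]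
  set m := refl Q (u - u') hne * refl Q d hd0 * g
  have hm : m ∈ M := mul_mem hm2 hgM
  have hmk : KeepsParts D m := ((c.keeps_refl ((D j).sub_mem hu hu') hne).mul (c.keeps_refl hd hd0)).mul hgk
  set v' := g v
  have hv' : v' ∈ D p := hgo v hv
  have hmx : m x = u' + v' := by
    show refl Q (u - u') hne (refl Q d hd0 (g x)) = _
    rw [hxuv, map_add, hgfix j hjo (Ne.symm hp.1) u hu, map_add, map_add,
      refl_eq_self Q d hd0 (h.orth j q (Ne.symm hq.1) u hu d hd), hru,
      refl_eq_self Q d hd0 (h.orth p q (Ne.symm hq.2.2) v' hv' d hd),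
      refl_eq_self Q (u - u') hne (h.orth p j hp.1 v' hv' _ ((D j).sub_mem hu hu'))]
  have hmo := c.mem_orth' hm
  have hQx : Q x ≠ 0 := by rw [hxa]; exact hQa
  obtain ⟨z, hz⟩ : ∃ z, z = refl Q x hQx (m x) := ⟨_, rfl⟩
  obtain ⟨μ, hμ⟩ : ∃ μ, μ = (Q x)⁻¹ * polar Q u' u := ⟨_, rfl⟩
  have hze : z = (u' - μ • u) + (-μ) • v + v' := by
    rw [hz, refl_apply, hmx, show polar Q (u' + v') x = polar Q u' u by
      rw [hxuv, polar_add_left, polar_add_right, polar_add_right, h.orth j o hjo u' hu' v hv,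
        h.orth p j hp.1 v' hv' u hu, h.orth p o hp.2 v' hv' v hv]; ring, ← hμ, hxuv]
    module
  obtain ⟨i, hi⟩ := c.mem_of_keeps hmk ha
  have hxm : Rel Q M x (m x) :=
    (hR.trans hQa (c.rel_parts ha hi (mem_orth.1 hmo a))).trans (by rw [mem_orth.1 hmo]; exact hQa) (hR.symm.conj hm hmo)
  have hQmx : Q (m x) ≠ 0 := by rw [mem_orth.1 hmo]; exact hQx
  have hzx : Rel Q M z x := by
    intro hQz hQx'
    have h1 := hxm hQx hQmx
    have h2 : refl Q z hQz = refl Q x hQx * refl Q (m x) hQmx * refl Q x hQx := by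
      have := refl_conj Q (refl_mem_orth Q x hQx) (m x) hQmx
      rw [inv_eq_of_mul_eq_one_right (refl_mul_self Q x hQx)] at this
      rw [this]
      simp only [hz]
    rw [h2, mul_assoc, refl_mul_self, mul_one]
    exact h1
  have hQz : Q z = Q a := by rw [hz, mem_orth.1 (refl_mem_orth Q x hQx), mem_orth.1 hmo, hxa]
  have hμ0 : μ ≠ 0 := hμ ▸ mul_ne_zero (inv_ne_zero hQx) (by rw [QuadraticMap.polar_comm]; exact huu')
  refine c.seed_of_three ha hQa hQz (hzx.trans hQx hR) hjo (Ne.symm hp.1) (Ne.symm hp.2) ?_ ?_ ?_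
  · rw [hze, map_add, map_add, map_smul, h.pr_of_mem ((D j).sub_mem hu' ((D j).smul_mem _ hu)),
      h.pr_other hjo.symm hv, h.pr_other hp.1 hv', smul_zero, add_zero, add_zero]
    exact fun e => hu'u (Submodule.mem_span_singleton.2 ⟨μ, (sub_eq_zero.1 e).symm⟩)
  · rw [hze, map_add, map_add, map_smul, h.pr_other hjo ((D j).sub_mem hu' ((D j).smul_mem _ hu)),
      h.pr_of_mem hv, h.pr_other hp.2 hv', add_zero, zero_add]
    exact smul_ne_zero (neg_ne_zero.2 hμ0) ho
  · rw [hze, map_add, map_add, map_smul, h.pr_other (Ne.symm hp.1) ((D j).sub_mem hu' ((D j).smul_mem _ hu)),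
      h.pr_other (Ne.symm hp.2) hv, h.pr_of_mem hv', smul_zero, zero_add, zero_add]
    exact fun e => ho (g.map_eq_zero_iff.1 e)

/-- No reflection pair joins a part to an outside vector. -/
def NoRel (Q : QuadraticForm F V) (M : Subgroup (V ≃ₗ[F] V)) (D : κ → Submodule F V) : Prop :=
  ∀ (x a : V) (l : κ), a ∈ D l → Q a ≠ 0 → Q x = Q a → Rel Q M x a → ∃ i, x ∈ D i

include c in
theorem keeps_of_point (hno : NoRel Q M D) {m : V ≃ₗ[F] V} (hm : m ∈ M) {i l : κ} {a : V} (ha : a ∈ D i)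
    (hQa : Q a ≠ 0) (hma : m a ∈ D l) : KeepsParts D m := by
  have hmo := c.mem_orth' hm
  have hpart : ∀ (k : κ), ∀ a' ∈ D k, Q a' = Q a → ∃ i', m a' ∈ D i' := fun k a' ha' hQ =>
    hno (m a') (m a) l hma (by rw [mem_orth.1 hmo]; exact hQa) (by rw [mem_orth.1 hmo, mem_orth.1 hmo, hQ])
      ((c.rel_parts ha' ha hQ.symm).conj hm hmo)
  intro k
  obtain ⟨a₁, ha₁, b₁, hb₁, hQa₁, hQb₁, hab, hba⟩ := c.two.exists_rot_pair k hQa
  obtain ⟨i₁, hi₁⟩ := hpart k a₁ ha₁ hQa₁
  obtain ⟨i₂, hi₂⟩ := hpart k b₁ hb₁ hQb₁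
  have he : i₁ = i₂ := by
    by_contra hne
    exact hab (by rw [← orth_polar hmo]; exact c.two.parts.orth i₁ i₂ hne _ hi₁ _ hi₂)
  subst he
  refine ⟨i₁, fun v hv => ?_⟩
  obtain ⟨s, t, rfl⟩ := c.two.indep_span ha₁ hb₁ (fun e => hQa (by rw [← hQa₁, e, QuadraticMap.map_zero])) hba hv
  rw [map_add, map_smul, map_smul]
  exact (D i₁).add_mem ((D i₁).smul_mem _ hi₁) ((D i₁).smul_mem _ hi₂)

omit [Fintype κ] [DecidableEq κ] in
theorem inv_apply' (g : V ≃ₗ[F] V) (v : V) : g⁻¹ v = g.symm v := rfl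

include c in
/-- Images of non-singular part vectors have full support. -/
theorem no_zero (hno : NoRel Q M D) {g : V ≃ₗ[F] V} (hg : g ∈ M) (hgk : ¬ KeepsParts D g) {k : κ} {a : V}
    (ha : a ∈ D k) (hQa : Q a ≠ 0) (o : κ) : prPart c.two.parts o (g a) ≠ 0 := by
  intro hzero
  have h := c.two.parts
  obtain ⟨ρ, hρ, hρD, hρfix, hρ1, ⟨v₀, hv₀, hρ2⟩, -⟩ := c.exists_rot o
  obtain ⟨m, hm⟩ : ∃ m, m = g⁻¹ * ρ * g := ⟨_, rfl⟩
  have hmM : m ∈ M := hm ▸ mul_mem (mul_mem (inv_mem hg) hρ) hg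
  have hma : ∀ v, g (m v) = ρ (g v) := fun v => by rw [hm]; show g (g.symm (ρ (g v))) = _; rw [g.apply_symm_apply]
  have hmk : KeepsParts D m := c.keeps_of_point hno hmM (l := k) ha hQa (by
    have : m a = a := g.injective (by rw [hma, hρfix _ hzero])
    rwa [this])
  have hρdiff : ∀ w, ρ w - w ∈ D o := fun w => by
    have h1 : ρ w - w = ρ (prPart h o w) - prPart h o w := by
      have h2 := hρfix (w - prPart h o w) (by rw [map_sub, h.pr_of_mem (h.pr_mem o w), sub_self])
      rw [map_sub] at h2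
      linear_combination (norm := module) h2
    rw [h1]; exact (D o).sub_mem (hρD _ (h.pr_mem o w)) (h.pr_mem o w)
  let P : Submodule F V := (D o).map g.symm.toLinearMap
  have hP : ∀ v, v ∈ P ↔ g v ∈ D o := fun v => by
    constructor
    · rintro ⟨w, hw, rfl⟩; simpa using hw
    · exact fun hv => ⟨g v, hv, by simp⟩
  have hmP : ∀ v, m v - v ∈ P := fun v => (hP _).2 (by rw [map_sub, hma]; exact hρdiff _)
  have hPfix : ∀ v ∈ P, m v = v → v = 0 := fun v hv e => by
    have h1 := hρ1 (g v) ((hP v).1 hv) (by rw [← hma, e])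
    exact g.map_eq_zero_iff.1 h1
  have hPdim : Module.finrank F P = 2 := by rw [← c.two.two o]; exact LinearEquiv.finrank_map_eq g.symm (D o)
  choose σ hσ using hmk
  have hmo := c.mem_orth' hmM
  have hmsq : ∃ v, m (m v) ≠ v := ⟨g.symm v₀, fun e => hρ2 (by
    have := congrArg g e
    rwa [hma, hma, g.apply_symm_apply] at this)⟩
  have hσinj : Function.Injective σ := by
    intro i j e
    by_contra hij
    obtain ⟨v, hv, hQv⟩ := c.two.exists_value i (1 : F)
    have hv0 : v ≠ 0 := fun e => one_ne_zero (α := F) (by rw [← hQv, e, QuadraticMap.map_zero])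
    have hmap : (D j).map m.toLinearMap = D (σ j) := Submodule.eq_of_le_of_finrank_le
      (by rintro _ ⟨w, hw, rfl⟩; exact hσ j w hw) (by rw [LinearEquiv.finrank_map_eq, c.two.two, c.two.two])
    have hm' : m v ∈ (D j).map m.toLinearMap := by rw [hmap, ← e]; exact hσ i v hv
    obtain ⟨w, hw, hwv⟩ := hm'
    rw [show w = v from m.injective hwv] at hw
    exact hv0 (by rw [← h.pr_of_mem hv, h.pr_other (Ne.symm hij) hw])
  obtain ⟨i, hiP⟩ : ∃ i, ∀ v ∈ P, v ∈ D i := by
    by_cases hmove : ∃ i, σ i ≠ i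
    · exfalso
      obtain ⟨i, hi⟩ := hmove
      obtain ⟨j, hj⟩ : ∃ j, j = σ i := ⟨_, rfl⟩
      have hji : j ≠ i := hj ▸ hi
      have hcomp : ∀ v ∈ D i, prPart h i (m v - v) = -v ∧ prPart h j (m v - v) = m v := fun v hv => by
        have hmj : m v ∈ D j := by rw [hj]; exact hσ i v hv
        rw [map_sub, map_sub, h.pr_other hji hmj, h.pr_of_mem hv, h.pr_other hji.symm hv, h.pr_of_mem hmj]
        simp
      let φ : D i →ₗ[F] P := LinearMap.codRestrict P ((m.toLinearMap - LinearMap.id).comp (D i).subtype) (fun v => hmP v)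
      have hφi : Function.Injective φ := by
        refine (injective_iff_map_eq_zero φ).2 fun v hv => Subtype.ext ?_
        have h1 : m (v : V) - v = 0 := congrArg Subtype.val hv
        have h2 := (hcomp v v.2).1
        rw [h1, map_zero] at h2
        simpa using h2.symm
      have hφs := (LinearMap.injective_iff_surjective_of_finrank_eq_finrank (f := φ) (by rw [c.two.two, hPdim])).1 hφi
      have hrep : ∀ x, ∃ v ∈ D i, m x - x = m v - v := fun x => by
        obtain ⟨v, hv⟩ := hφs ⟨_, hmP x⟩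
        exact ⟨v, v.2, (congrArg Subtype.val hv).symm⟩
      obtain ⟨x₀, hx₀, hx₀0⟩ : ∃ x ∈ D j, x ≠ 0 := by
        obtain ⟨v, hv, hQv⟩ := c.two.exists_value j (1 : F)
        exact ⟨v, hv, fun e => one_ne_zero (α := F) (by rw [← hQv, e, QuadraticMap.map_zero])⟩
      have hσj : σ j ≠ j := fun e => hji (hσinj (e.trans hj)).symm.symm
      have hσji : σ j = i := by
        by_contra hne
        obtain ⟨v, hv, he⟩ := hrep x₀
        have h1 := congrArg (prPart h i) he
        rw [(hcomp v hv).1, map_sub, h.pr_other hne (hσ j x₀ hx₀), h.pr_other hji hx₀, sub_zero] at h1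
        have h2 := congrArg (prPart h j) he
        rw [(hcomp v hv).2, map_sub, h.pr_other hσj (hσ j x₀ hx₀), h.pr_of_mem hx₀, neg_eq_zero.1 h1.symm, map_zero,
          zero_sub, neg_eq_zero] at h2
        exact hx₀0 h2
      have hsq : ∀ x, ∀ l, x ∈ D l → m (m x) = x := by
        intro x l hx
        obtain ⟨v, hv, he⟩ := hrep x
        have h1 := congrArg (prPart h i) he
        have h2 := congrArg (prPart h j) he
        rw [(hcomp v hv).1] at h1
        rw [(hcomp v hv).2] at h2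
        by_cases hli : l = i
        · subst hli
          obtain ⟨w, hw⟩ : ∃ w, w = -m x := ⟨_, rfl⟩
          have hwD : w ∈ D j := hw ▸ (D j).neg_mem (hj ▸ hσ l x hx)
          obtain ⟨v', hv', he'⟩ := hrep w
          have h2' := congrArg (prPart h j) he'
          rw [(hcomp v' hv').2, map_sub, h.pr_of_mem hwD, h.pr_other (Ne.symm hji) (hσji ▸ hσ j w hwD), zero_sub,
            hw, neg_neg] at h2'
          have h1' := congrArg (prPart h l) he'
          rw [(hcomp v' hv').1, map_sub, h.pr_other hji hwD, h.pr_of_mem (hσji ▸ hσ j w hwD), sub_zero,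
            ← m.injective h2'] at h1'
          rw [hw, map_neg] at h1'
          exact neg_inj.1 h1'
        by_cases hlj : l = j
        · subst hlj
          rw [map_sub, h.pr_other hli hx, h.pr_of_mem (hσji ▸ hσ l x hx), sub_zero] at h1
          rw [map_sub, h.pr_other (Ne.symm hji) (hσji ▸ hσ l x hx), h.pr_of_mem hx, zero_sub] at h2
          rw [h1, map_neg, ← h2, neg_neg]
        by_cases hll : σ l = l
        · have h3 := congrArg (prPart h l) he
          rw [map_sub, map_sub, h.pr_of_mem (hll ▸ hσ l x hx), h.pr_of_mem hx, h.pr_other (Ne.symm hlj) (hj ▸ hσ i v hv),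
            h.pr_other (Ne.symm hli) hv, sub_zero] at h3
          rw [sub_eq_zero.1 h3, sub_eq_zero.1 h3]
        · have h3 := congrArg (prPart h l) he
          rw [map_sub, map_sub, h.pr_other hll (hσ l x hx), h.pr_of_mem hx, h.pr_other (Ne.symm hlj) (hj ▸ hσ i v hv),
            h.pr_other (Ne.symm hli) hv, sub_zero, zero_sub, neg_eq_zero] at h3
          rw [h3, map_zero, map_zero]
      obtain ⟨v, hv⟩ := hmsq
      refine hv ?_
      conv_rhs => rw [← h.sum_pr v]
      conv_lhs => rw [← h.sum_pr v, map_sum, map_sum]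
      exact Finset.sum_congr rfl fun l _ => hsq _ l (h.pr_mem l v)
    push Not at hmove
    have hin : ∀ l, ∀ x ∈ D l, m x - x ∈ D l := fun l x hx =>
      (D l).sub_mem (by have := hσ l x hx; rwa [hmove l] at this) hx
    obtain ⟨i, x, hx, hxi⟩ : ∃ i, ∃ x ∈ D i, m x - x ≠ 0 := by
      by_contra hc
      push Not at hc
      obtain ⟨v, hv⟩ := hmsq
      refine hv ?_
      have : m v = v := by
        conv_rhs => rw [← h.sum_pr v]
        conv_lhs => rw [← h.sum_pr v, map_sum]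
        exact Finset.sum_congr rfl fun l _ => sub_eq_zero.1 (hc l _ (h.pr_mem l v))
      rw [this, this]
    by_cases hsec : ∃ l, l ≠ i ∧ ∃ y ∈ D l, m y - y ≠ 0
    · exfalso
      obtain ⟨l, hli, y, hy, hyl⟩ := hsec
      set a₁ := m x - x
      set a₂ := m y - y
      have ha₁ : a₁ ∈ D i := hin i x hx
      have ha₂ : a₂ ∈ D l := hin l y hy
      have hi12 : LinearIndependent F ![a₁, a₂] := (LinearIndependent.pair_iff' hxi).2 fun r hr =>
        hyl (by rw [← h.pr_of_mem ha₂, ← hr, map_smul, h.pr_other (Ne.symm hli) ha₁, smul_zero])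
      have hspan : Submodule.span F ({a₁, a₂} : Set V) = P := by
        refine Submodule.eq_of_le_of_finrank_le (Submodule.span_le.2 ?_) ?_
        · rintro z (rfl | rfl)
          · exact hmP x
          · exact hmP y
        · have h2 := finrank_span_eq_card hi12
          rw [Matrix.range_cons, Matrix.range_cons, Matrix.range_empty, Set.union_empty, Set.singleton_union,
            Fintype.card_fin] at h2
          rw [hPdim, h2]
      have hline : ∀ (l₁ l₂ : κ), l₂ ≠ l₁ → ∀ b₁ ∈ D l₁, ∀ b₂ ∈ D l₂, b₁ ≠ 0 →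
          Submodule.span F ({b₁, b₂} : Set V) = P → m b₁ = -b₁ := by
        intro l₁ l₂ hne b₁ hb₁ b₂ hb₂ hb0 hsp
        have hb₁P : b₁ ∈ P := hsp ▸ Submodule.subset_span (by simp)
        have hQb : Q b₁ ≠ 0 := fun e => by
          have h0 : g b₁ = 0 := (Submodule.mem_bot F).1 (h.nd o ▸ (⟨(hP b₁).1 hb₁P, mem_polarPerp.2 fun z hz => by
            obtain ⟨s, t, hst⟩ := Submodule.mem_span_pair.1 (hsp.symm ▸ ((hP (g.symm z)).2 (by simpa using hz)) :
              g.symm z ∈ Submodule.span F ({b₁, b₂} : Set V))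
            rw [← g.apply_symm_apply z, orth_polar (c.mem_orth' hg), ← hst, polar_add_left, polar_smul_left',
              polar_smul_left', polar_self', e, h.orth l₂ l₁ hne b₂ hb₂ b₁ hb₁]
            ring⟩ : g b₁ ∈ D o ⊓ polarPerp Q (D o)))
          exact hb0 (g.map_eq_zero_iff.1 h0)
        obtain ⟨s, t, hst⟩ := Submodule.mem_span_pair.1 (hsp.symm ▸ P.add_mem (hmP b₁) hb₁P :
          m b₁ - b₁ + b₁ ∈ Submodule.span F ({b₁, b₂} : Set V))
        rw [sub_add_cancel] at hst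
        have h3 := congrArg (prPart h l₁) hst
        rw [map_add, map_smul, map_smul, h.pr_of_mem hb₁, h.pr_other hne hb₂, smul_zero, add_zero,
          h.pr_of_mem (by have := hσ l₁ b₁ hb₁; rwa [hmove l₁] at this)] at h3
        have h4 := mem_orth.1 hmo b₁
        rw [← h3, CfsgLib.Geometry.map_smul'] at h4
        have hs1 : s ≠ 1 := fun e => hb0 (hPfix b₁ hb₁P (by rw [← h3, e, one_smul]))
        rcases mul_self_eq_one_iff.1 (mul_right_cancel₀ hQb (h4.trans (one_mul _).symm)) with e | e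
        · exact absurd e hs1
        · rw [← h3, e, neg_one_smul]
      have h1 := hline i l hli a₁ ha₁ a₂ ha₂ hxi hspan
      have h2 := hline l i (Ne.symm hli) a₂ ha₂ a₁ ha₁ hyl (by rw [Set.pair_comm]; exact hspan)
      obtain ⟨v, hv⟩ := hmsq
      refine hv ?_
      obtain ⟨s, t, hst⟩ := Submodule.mem_span_pair.1 (hspan.symm ▸ hmP v : m v - v ∈ Submodule.span F ({a₁, a₂} : Set V))
      rw [← sub_add_cancel (m v) v, ← hst, map_add, map_add, map_smul, map_smul, h1, h2]
      linear_combination (norm := module) -hst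
    push Not at hsec
    refine ⟨i, fun v hv => ?_⟩
    let ψ : P →ₗ[F] P := LinearMap.codRestrict P ((m.toLinearMap - LinearMap.id).comp P.subtype) (fun w => hmP w)
    have hψi : Function.Injective ψ := (injective_iff_map_eq_zero ψ).2 fun w hw => Subtype.ext
      (hPfix w w.2 (sub_eq_zero.1 (congrArg Subtype.val hw)))
    obtain ⟨w, hw⟩ := LinearMap.injective_iff_surjective.1 hψi ⟨v, hv⟩
    have h1 : v = m (w : V) - w := (congrArg Subtype.val hw).symm
    rw [h1, ← h.sum_pr (w : V), map_sum, ← Finset.sum_sub_distrib]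
    refine (D i).sum_mem fun l _ => ?_
    by_cases hl : l = i
    · rw [hl]; exact hin i _ (h.pr_mem i _)
    · rw [hsec l hl _ (h.pr_mem l _)]; exact (D i).zero_mem
  obtain ⟨a', ha', hQa'⟩ := c.two.exists_value o (1 : F)
  refine hgk (c.keeps_of_point hno hg (hiP _ ⟨a', ha', rfl⟩) (l := o) ?_ ?_)
  · rw [LinearEquiv.coe_coe, ← mem_orth.1 (c.mem_orth' hg), g.apply_symm_apply, hQa']; exact one_ne_zero
  · simpa using ha'

include c in
theorem inv_not_keeps (hno : NoRel Q M D) {g : V ≃ₗ[F] V} (hg : g ∈ M) (hgk : ¬ KeepsParts D g) :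
    ¬ KeepsParts D g⁻¹ := fun hk => by
  obtain ⟨i⟩ : Nonempty κ := Fintype.card_pos_iff.1 (by have := c.seven; omega)
  obtain ⟨a, ha, hQa⟩ := c.two.exists_value i (1 : F)
  obtain ⟨l, hl⟩ := c.mem_of_keeps hk ha
  refine hgk (c.keeps_of_point hno hg hl (l := i) ?_ ?_)
  · rw [mem_orth.1 (c.mem_orth' (inv_mem hg)), hQa]; exact one_ne_zero
  · show g (g.symm a) ∈ D i; rwa [g.apply_symm_apply]

include c in
/-- Two perpendicular vectors of equal value are impossible. -/
theorem no_pair (hno : NoRel Q M D) {g : V ≃ₗ[F] V} (hg : g ∈ M) (hgk : ¬ KeepsParts D g) {k i l : κ} {a b b' : V}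
    (ha : a ∈ D k) (hQa : Q a ≠ 0) (hil : i ≠ l) (hb : b ∈ D i) (hb' : b' ∈ D l) (hQb : Q b ≠ 0) (hQ : Q b' = Q b)
    (hgb : polar Q (g a) b = 0) (hgb' : polar Q (g a) b' = 0) : False := by
  classical
  have h := c.two.parts
  have hQb' : Q b' ≠ 0 := by rw [hQ]; exact hQb
  obtain ⟨m, hm⟩ : ∃ m, m = g⁻¹ * (refl Q b hQb * refl Q b' hQb') * g := ⟨_, rfl⟩
  have hmM : m ∈ M := hm ▸ mul_mem (mul_mem (inv_mem hg) (c.pair_mem hb hb' hQb hQb' hQ)) hg
  have hmv : ∀ v, m v - v = (-((Q b)⁻¹ * polar Q (g v) b)) • g.symm b + (-((Q b')⁻¹ * polar Q (g v) b')) • g.symm b' := by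
    intro v
    apply g.injective
    rw [map_sub, map_add, map_smul, map_smul, g.apply_symm_apply, g.apply_symm_apply, hm]
    show g (g.symm (refl Q b hQb (refl Q b' hQb' (g v)))) - g v = _
    rw [g.apply_symm_apply, refl_apply Q b', refl_apply Q b, polar_sub_left, polar_smul_left',
      h.orth l i hil.symm b' hb' b hb]
    module
  have hmk : KeepsParts D m := c.keeps_of_point hno hmM (l := k) ha hQa (by
    have := hmv a
    rw [hgb, hgb', mul_zero, mul_zero, neg_zero, zero_smul, zero_smul, add_zero, sub_eq_zero] at this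
    rwa [this])
  have hfull : ∀ o, prPart h o (g.symm b) ≠ 0 := fun o =>
    c.no_zero hno (inv_mem hg) (c.inv_not_keeps hno hg hgk) hb hQb o
  have hsupp : ∀ p : κ, ∀ v ∈ D p, ∃ q, ∀ o, o ≠ p → o ≠ q → prPart h o (m v - v) = 0 := fun p v hv => by
    obtain ⟨q, hq⟩ := hmk p
    exact ⟨q, fun o ho ho' => by rw [map_sub, h.pr_other (Ne.symm ho') (hq v hv), h.pr_other (Ne.symm ho) hv, sub_zero]⟩
  obtain ⟨p₁, hp₁, hx⟩ := h.exists_polar_in (x := b) (l := i)
    (by rw [h.pr_of_mem hb]; exact fun e => hQb (by rw [e, QuadraticMap.map_zero])) 1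
  have hxmem : g.symm b ∈ Submodule.span F (Set.range fun pv : Σ p : κ, D p => m (pv.2 : V) - pv.2) := by
    have h1 := hmv (g.symm p₁)
    rw [g.apply_symm_apply, hx, h.orth i l hil p₁ hp₁ b' hb', mul_zero, neg_zero, zero_smul, add_zero, mul_one] at h1
    have h2 : g.symm b = (-Q b) • (m (g.symm p₁) - g.symm p₁) := by rw [h1, smul_smul, neg_mul_neg, mul_inv_cancel₀ hQb, one_smul]
    rw [h2]
    refine Submodule.smul_mem _ _ ?_
    rw [← h.sum_pr (g.symm p₁), map_sum, ← Finset.sum_sub_distrib]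
    exact Submodule.sum_mem _ fun p _ => Submodule.subset_span ⟨⟨p, ⟨_, h.pr_mem p _⟩⟩, rfl⟩
  set W : (Σ p : κ, D p) → V := fun pv => m (pv.2 : V) - pv.2
  obtain ⟨x₁, x₂, hmem⟩ : ∃ x₁ x₂, g.symm b ∈ Submodule.span F ({W x₁, W x₂} : Set V) := by
    obtain ⟨x₁, hx₁⟩ : ∃ x₁, W x₁ ≠ 0 := by
      by_contra hc
      push Not at hc
      refine hfull i ?_
      have h0 : Submodule.span F (Set.range W) = ⊥ := Submodule.span_eq_bot.2 (by rintro _ ⟨x, rfl⟩; exact hc x)
      rw [h0, Submodule.mem_bot] at hxmem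
      rw [hxmem, map_zero]
    by_cases hind : ∃ x₂, W x₂ ∉ Submodule.span F {W x₁}
    · obtain ⟨x₂, hx₂⟩ := hind
      refine ⟨x₁, x₂, ?_⟩
      have hli : LinearIndependent F ![W x₁, W x₂] :=
        (LinearIndependent.pair_iff' hx₁).2 fun r hr => hx₂ (Submodule.mem_span_singleton.2 ⟨r, hr⟩)
      have hrange : ∀ x, W x ∈ Submodule.span F ({g.symm b, g.symm b'} : Set V) := fun x => by
        show m (x.2 : V) - x.2 ∈ _
        rw [hmv]
        exact Submodule.mem_span_pair.2 ⟨_, _, rfl⟩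
      have heq : Submodule.span F ({W x₁, W x₂} : Set V) = Submodule.span F ({g.symm b, g.symm b'} : Set V) := by
        refine Submodule.eq_of_le_of_finrank_le (Submodule.span_le.2 ?_) ?_
        · rintro z (rfl | rfl) <;> exact hrange _
        · have h2 := finrank_span_eq_card hli
          rw [Matrix.range_cons, Matrix.range_cons, Matrix.range_empty, Set.union_empty, Set.singleton_union,
            Fintype.card_fin] at h2
          rw [h2]
          exact finrank_pair_le _ _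
      rw [heq]; exact Submodule.subset_span (by simp)
    · push Not at hind
      refine ⟨x₁, x₁, Submodule.span_mono (by simp) ((Submodule.span_le.2 ?_ : Submodule.span F (Set.range W) ≤ Submodule.span F {W x₁}) hxmem)⟩
      rintro _ ⟨x, rfl⟩; exact hind x
  obtain ⟨q₁, hq₁⟩ := hsupp x₁.1 _ x₁.2.2
  obtain ⟨q₂, hq₂⟩ := hsupp x₂.1 _ x₂.2.2
  obtain ⟨o, ho⟩ := exists_notMem_finset ({x₁.1, q₁, x₂.1, q₂} : Finset κ)
    (Finset.card_le_four.trans_lt (by have := c.seven; omega))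
  simp only [Finset.mem_insert, Finset.mem_singleton, not_or] at ho
  obtain ⟨s, t, hst⟩ := Submodule.mem_span_pair.1 hmem
  refine hfull o ?_
  rw [← hst, map_add, map_smul, map_smul, hq₁ o ho.1 ho.2.1, hq₂ o ho.2.2.1 ho.2.2.2]
  simp

include c in
/-- Few components of an image are non-singular. -/
theorem few_nonsingular (hno : NoRel Q M D) {g : V ≃ₗ[F] V} (hg : g ∈ M) (hgk : ¬ KeepsParts D g) {k : κ} {a : V}
    (ha : a ∈ D k) (hQa : Q a ≠ 0) {S : Finset κ} (hS : ∀ l ∈ S, Q (prPart c.two.parts l (g a)) ≠ 0) : S.card ≤ 2 := by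
  classical
  by_contra hc
  push Not at hc
  obtain ⟨l₁, l₂, l₃, h1, h2, h3, h12, h13, h23⟩ := Finset.two_lt_card_iff.1 hc
  have h := c.two.parts
  have key : ∀ l ∈ S, ∃ b ∈ D l, Q b ≠ 0 ∧ polar Q (g a) b = 0 := fun l hl => by
    obtain ⟨w, hw, hw0, hpw⟩ := c.two.exists_perp (l := l) (prPart h l (g a))
    exact ⟨w, hw, fun e => hw0 (c.two.perp_singular (h.pr_mem l _) hw (hS l hl) hpw e),
      by rw [← h.polar_pr' hw]; exact hpw⟩
  obtain ⟨b₁, hb₁, hQ₁, hp₁⟩ := key l₁ h1
  obtain ⟨b₂, hb₂, hQ₂, hp₂⟩ := key l₂ h2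
  obtain ⟨b₃, hb₃, hQ₃, hp₃⟩ := key l₃ h3
  have fin : ∀ (i l : κ) (b b' : V), i ≠ l → b ∈ D i → b' ∈ D l → Q b ≠ 0 → Q b' ≠ 0 → polar Q (g a) b = 0 →
      polar Q (g a) b' = 0 → IsSquare (Q b * Q b') → False := by
    intro i l b b' hil hb hb' hQb hQb' hp hp' ⟨r, hr⟩
    refine c.no_pair hno hg hgk ha hQa hil hb ((D l).smul_mem (r / Q b') hb') hQb ?_ hp
      (by rw [polar_smul_right', hp', mul_zero])
    rw [CfsgLib.Geometry.map_smul', div_mul_div_comm, ← hr]; field_simp
  rcases square_ratio hQ₁ hQ₂ hQ₃ with e | e | e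
  · exact fin l₁ l₂ b₁ b₂ h12 hb₁ hb₂ hQ₁ hQ₂ hp₁ hp₂ e
  · exact fin l₁ l₃ b₁ b₃ h13 hb₁ hb₃ hQ₁ hQ₃ hp₁ hp₃ e
  · exact fin l₂ l₃ b₂ b₃ h23 hb₂ hb₃ hQ₂ hQ₃ hp₂ hp₃ e

include c in
/-- Without outside reflection pairs a part meets a singular line. -/
theorem seed_of_noRel (hno : NoRel Q M D) {g : V ≃ₗ[F] V} (hg : g ∈ M) (hgk : ¬ KeepsParts D g) :
    Seed (h := c.two.parts) M := by
  classical
  have h := c.two.parts
  obtain ⟨k⟩ : Nonempty κ := Fintype.card_pos_iff.1 (by have := c.seven; omega)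
  -- three directions of one part with singular images in a common part
  obtain ⟨a₁, a₂, a₃, l, ha₁, ha₂, ha₃, hQ1, hQ2, hQ3, h21, h31, h32, hl⟩ : ∃ a₁ a₂ a₃ l, a₁ ∈ D k ∧ a₂ ∈ D k ∧
      a₃ ∈ D k ∧ Q a₁ ≠ 0 ∧ Q a₂ ≠ 0 ∧ Q a₃ ≠ 0 ∧ a₂ ∉ Submodule.span F {a₁} ∧ a₃ ∉ Submodule.span F {a₁} ∧
      a₃ ∉ Submodule.span F {a₂} ∧ ∀ a ∈ ({a₁, a₂, a₃} : Set V), Q (prPart h l (g a)) = 0 := by
    let S : V → Finset κ := fun a => Finset.univ.filter fun l => Q (prPart h l (g a)) ≠ 0
    have hS : ∀ a ∈ D k, Q a ≠ 0 → (S a).card ≤ 2 := fun a ha hQa =>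
      c.few_nonsingular hno hg hgk ha hQa fun l hl => (Finset.mem_filter.1 hl).2
    obtain ⟨a₁, ha₁, a₂, ha₂, hQ₁, hQ₂, -, h21⟩ := c.two.exists_rot_pair k (one_ne_zero (α := F))
    obtain ⟨a₃, ha₃, hQ₃, h31, h32⟩ : ∃ a₃ ∈ D k, Q a₃ = 1 ∧ a₃ ∉ Submodule.span F {a₁} ∧ a₃ ∉ Submodule.span F {a₂} := by
      obtain ⟨T₁, hT₁c, hT₁c', hT₁⟩ := exists_line_points (Q := Q) a₁ (one_ne_zero (α := F))
      obtain ⟨T₂, hT₂c, hT₂c', hT₂⟩ := exists_line_points (Q := Q) a₂ (one_ne_zero (α := F))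
      have hu := Finset.card_union_le T₁ T₂
      have hT : (T₁ ∪ T₂).card ≤ 2 ∨ ((T₁ ∪ T₂).card ≤ 4 ∧ 3 ≤ Nat.card F) := by
        by_cases h3 : 3 ≤ Nat.card F
        · exact Or.inr ⟨by omega, h3⟩
        · have h2 : (2 : F) = 0 := two_eq_zero_of_card (by have := Finite.one_lt_card (α := F); omega)
          have := hT₁c' h2
          have := hT₂c' h2
          exact Or.inl (by omega)
      obtain ⟨x, hx, hQx, hxT⟩ := c.two.exists_value_avoid k (one_ne_zero (α := F)) (T₁ ∪ T₂) hT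
      rw [Finset.mem_union] at hxT
      exact ⟨x, hx, hQx, fun e => hxT (Or.inl (hT₁ x hQx e)), fun e => hxT (Or.inr (hT₂ x hQx e))⟩
    have hQ1 : Q a₁ ≠ 0 := by rw [hQ₁]; exact one_ne_zero
    have hQ2 : Q a₂ ≠ 0 := by rw [hQ₂]; exact one_ne_zero
    have hQ3 : Q a₃ ≠ 0 := by rw [hQ₃]; exact one_ne_zero
    rcases c.two.fld with hF | ⟨-, han⟩
    swap
    · obtain ⟨l, hl⟩ := exists_notMem_finset (S a₁) (by
        have := hS a₁ ha₁ hQ1
        have := c.seven
        omega)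
      simp only [S, Finset.mem_filter, Finset.mem_univ, true_and, not_not] at hl
      exact absurd (han l _ (h.pr_mem l _) hl) (c.no_zero hno hg hgk ha₁ hQ1 l)
    obtain ⟨a₄, ha₄, hQ4, h41, h42, h43⟩ : ∃ a₄ ∈ D k, Q a₄ ≠ 0 ∧ a₄ ∉ Submodule.span F {a₁} ∧
        a₄ ∉ Submodule.span F {a₂} ∧ a₄ ∉ Submodule.span F {a₃} := by
      by_cases h2 : (2 : F) = 0
      · obtain ⟨T₁, -, hc₁, hT₁⟩ := exists_line_points (Q := Q) a₁ (one_ne_zero (α := F))
        obtain ⟨T₂, -, hc₂, hT₂⟩ := exists_line_points (Q := Q) a₂ (one_ne_zero (α := F))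
        obtain ⟨T₃, -, hc₃, hT₃⟩ := exists_line_points (Q := Q) a₃ (one_ne_zero (α := F))
        have := hc₁ h2
        have := hc₂ h2
        have := hc₃ h2
        have := Finset.card_union_le (T₁ ∪ T₂) T₃
        have := Finset.card_union_le T₁ T₂
        obtain ⟨x, hx, hQx, hxT⟩ := c.two.exists_value_avoid k (one_ne_zero (α := F)) (T₁ ∪ T₂ ∪ T₃)
          (Or.inr ⟨by omega, by omega⟩)
        simp only [Finset.mem_union, not_or] at hxT
        exact ⟨x, hx, by rw [hQx]; exact one_ne_zero, fun e => hxT.1.1 (hT₁ x hQx e), fun e => hxT.1.2 (hT₂ x hQx e),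
          fun e => hxT.2 (hT₃ x hQx e)⟩
      · obtain ⟨ν, hν⟩ : ∃ ν : F, ¬ IsSquare ν := FiniteField.exists_nonsquare (fun e => h2 (by
          haveI := ringChar.of_eq e
          exact CharTwo.two_eq_zero))
        obtain ⟨x, hx, hQx⟩ := c.two.exists_value k ν
        have hν0 : ν ≠ 0 := fun e => hν ⟨0, by rw [e, mul_zero]⟩
        have hout : ∀ a, Q a = 1 → x ∉ Submodule.span F {a} := fun a ha e => by
          obtain ⟨t, rfl⟩ := Submodule.mem_span_singleton.1 e
          rw [CfsgLib.Geometry.map_smul', ha, mul_one] at hQx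
          exact hν ⟨t, hQx.symm⟩
        exact ⟨x, hx, by rw [hQx]; exact hν0, hout a₁ hQ₁, hout a₂ hQ₂, hout a₃ hQ₃⟩
    obtain ⟨l, hl⟩ : ∃ l, (if l ∈ S a₁ then 1 else 0) + (if l ∈ S a₂ then 1 else 0) + (if l ∈ S a₃ then 1 else 0) +
        (if l ∈ S a₄ then 1 else 0) ≤ 1 := by
      by_contra hcon
      push Not at hcon
      have hsum : ∑ _l : κ, 2 ≤ ∑ l : κ, ((if l ∈ S a₁ then 1 else 0) + (if l ∈ S a₂ then 1 else 0) +
          (if l ∈ S a₃ then 1 else 0) + (if l ∈ S a₄ then 1 else 0)) := Finset.sum_le_sum fun l _ => hcon l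
      simp only [Finset.sum_add_distrib, Finset.sum_boole, Finset.sum_const, Finset.card_univ, smul_eq_mul, Nat.cast_id,
        Finset.filter_univ_mem] at hsum
      have := hS a₁ ha₁ hQ1
      have := hS a₂ ha₂ hQ2
      have := hS a₃ ha₃ hQ3
      have := hS a₄ ha₄ hQ4
      have := c.seven
      omega
    have hsing : ∀ a, l ∉ S a → Q (prPart h l (g a)) = 0 := fun a ha => by simpa [S] using ha
    by_cases e1 : l ∈ S a₁
    · simp only [e1, if_true] at hl
      refine ⟨a₂, a₃, a₄, l, ha₂, ha₃, ha₄, hQ2, hQ3, hQ4, h32, h42, h43, ?_⟩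
      rintro a (rfl | rfl | rfl) <;> refine hsing _ fun e => ?_ <;> simp only [e, if_true] at hl <;> omega
    by_cases e2 : l ∈ S a₂
    · simp only [e2, if_true] at hl
      refine ⟨a₁, a₃, a₄, l, ha₁, ha₃, ha₄, hQ1, hQ3, hQ4, h31, h41, h43, ?_⟩
      rintro a (rfl | rfl | rfl) <;> refine hsing _ fun e => ?_ <;> simp only [e, if_true] at hl <;> omega
    by_cases e3 : l ∈ S a₃
    · simp only [e3, if_true] at hl
      refine ⟨a₁, a₂, a₄, l, ha₁, ha₂, ha₄, hQ1, hQ2, hQ4, h21, h41, h42, ?_⟩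
      rintro a (rfl | rfl | rfl) <;> refine hsing _ fun e => ?_ <;> simp only [e, if_true] at hl <;> omega
    refine ⟨a₁, a₂, a₃, l, ha₁, ha₂, ha₃, hQ1, hQ2, hQ3, h21, h31, h32, ?_⟩
    rintro a (rfl | rfl | rfl) <;> exact hsing _ (by assumption)
  let L : V → V := fun a => prPart h l (g a)
  have hL0 : ∀ a ∈ D k, Q a ≠ 0 → L a ≠ 0 := fun a ha hQa => c.no_zero hno hg hgk ha hQa l
  have hpair : ∀ a b, a ∈ D k → b ∈ D k → Q a ≠ 0 → b ∉ Submodule.span F {a} →
      (∃ t : F, L b = t • L a) → ∃ f ∈ D k, f ≠ 0 ∧ Q f = 0 ∧ prPart h l (g f) = 0 := by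
    rintro a b ha hb hQa hba ⟨t, ht⟩
    have hfD := (D k).sub_mem hb ((D k).smul_mem t ha)
    have hf0 : prPart h l (g (b - t • a)) = 0 := by
      rw [map_sub, map_smul, map_sub, map_smul]; exact sub_eq_zero.2 ht
    exact ⟨b - t • a, hfD, fun e => hba (Submodule.mem_span_singleton.2 ⟨t, (sub_eq_zero.1 e).symm⟩),
      by_contra fun hQf => c.no_zero hno hg hgk hfD hQf l hf0, hf0⟩
  obtain ⟨f, hf, hf0, hQf, hgf⟩ : ∃ f ∈ D k, f ≠ 0 ∧ Q f = 0 ∧ prPart h l (g f) = 0 := by
    have hm : ∀ a, L a ∈ D l := fun a => h.pr_mem l _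
    by_cases e2 : L a₂ ∈ Submodule.span F {L a₁}
    · obtain ⟨t, ht⟩ := Submodule.mem_span_singleton.1 e2
      exact hpair a₁ a₂ ha₁ ha₂ hQ1 h21 ⟨t, ht.symm⟩
    by_cases e3 : L a₃ ∈ Submodule.span F {L a₁}
    · obtain ⟨t, ht⟩ := Submodule.mem_span_singleton.1 e3
      exact hpair a₁ a₃ ha₁ ha₃ hQ1 h31 ⟨t, ht.symm⟩
    obtain ⟨t, ht⟩ := c.plane_singular (hm a₁) (hm a₂) (hm a₃) (hL0 a₁ ha₁ hQ1) (hl a₁ (by simp))
      (hl a₂ (by simp)) (hl a₃ (by simp)) e2 e3
    exact hpair a₂ a₃ ha₂ ha₃ hQ2 h32 ⟨t, ht⟩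
  obtain ⟨e₀, he₀, hfe, he₀f⟩ := c.two.exists_dual hf hf0
  have hLe : prPart h l (g e₀) ≠ 0 := fun e => by
    obtain ⟨s, t, hst⟩ := c.two.indep_span hf he₀ hf0 he₀f ha₁
    exact hL0 a₁ ha₁ hQ1 (by
      show prPart h l (g a₁) = 0
      rw [← hst, map_add, map_smul, map_smul, map_add, map_smul, map_smul, hgf, e, smul_zero, smul_zero, add_zero])
  obtain ⟨ρ, hρ, hρD, hρfix, hρ1, -, -⟩ := c.exists_rot l
  obtain ⟨ν, hν, hνD, hνfix, hν1, -, hνe⟩ := c.exists_rot k
  obtain ⟨μ, hμ⟩ := hνe f hf hQf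
  have hμ1 : μ ≠ 1 := fun e => hf0 (hν1 f hf (by rw [hμ, e, one_smul]))
  obtain ⟨v, hv⟩ : ∃ v, v = g.symm ((μ - 1) • prPart h l (g e₀)) := ⟨_, rfl⟩
  have hgo := c.mem_orth' hg
  have hfv : polar Q f v = 0 := by
    rw [← orth_polar hgo, hv, g.apply_symm_apply, polar_smul_right', c.perp_pr (h.pr_mem l _) hgf, mul_zero]
  have hfnv : polar Q f (-v) = 0 := by rw [polar_neg_right, hfv, neg_zero]
  let S := siegel Q f (-v) hQf hfnv
  have hSo : S ∈ Geometry.orth Q := siegel_mem_orth Q f (-v) hQf hfnv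
  -- `S` and `ν` agree on the preimage of the part
  have hagree : ∀ p, g p ∈ D l → ν p = S p := by
    intro p hp
    have hfp : polar Q f p = 0 := by rw [← orth_polar hgo]; exact c.perp_pr hp hgf
    have hpk : prPart h k p = polar Q e₀ p • f := by
      obtain ⟨s, t, hst⟩ := c.two.indep_span hf he₀ hf0 he₀f (h.pr_mem k p)
      have h1 : polar Q f (prPart h k p) = 0 := by rw [h.polar_pr hf, hfp]
      rw [← hst, polar_add_right, polar_smul_right', polar_smul_right', polar_self', hQf, hfe] at h1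
      have ht : t = 0 := by linear_combination h1
      rw [ht, zero_smul, add_zero] at hst
      have h2 : polar Q e₀ (prPart h k p) = polar Q e₀ p := h.polar_pr he₀ p
      rw [← hst, polar_smul_right', QuadraticMap.polar_comm Q e₀ f, hfe, mul_one] at h2
      rw [← hst, h2]
    have hνp : ν p = p + (μ - 1) • (polar Q e₀ p • f) := by
      have h1 := hνfix (p - prPart h k p) (by rw [map_sub, h.pr_of_mem (h.pr_mem k p), sub_self])
      rw [map_sub, hpk, map_smul, hμ] at h1
      linear_combination (norm := module) h1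
    have hpv : polar Q p v = (μ - 1) * polar Q e₀ p := by
      rw [← orth_polar hgo, hv, g.apply_symm_apply, polar_smul_right', h.polar_pr hp, orth_polar hgo, QuadraticMap.polar_comm]
    rw [hνp, siegel_apply, QuadraticMap.polar_comm Q p f, hfp, polar_neg_right, hpv]
    module
  obtain ⟨R, hR⟩ : ∃ R, R = g⁻¹ * ρ * g := ⟨_, rfl⟩
  have hRM : R ∈ M := hR ▸ mul_mem (mul_mem (inv_mem hg) hρ) hg
  have hRo := c.mem_orth' hRM
  have hgR : ∀ x, g (R x) = ρ (g x) := fun x => by rw [hR]; show g (g.symm (ρ (g x))) = _; rw [g.apply_symm_apply]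
  obtain ⟨N, hN⟩ : ∃ N, N = g * (S⁻¹ * ν) * g⁻¹ := ⟨_, rfl⟩
  have hNo : N ∈ Geometry.orth Q := hN ▸ mul_mem (mul_mem hgo (mul_mem (inv_mem hSo) (c.mem_orth' hν))) (inv_mem hgo)
  have hNfix : ∀ x ∈ D l, N x = x := fun x hx => by
    rw [hN]
    show g (S.symm (ν (g.symm x))) = x
    rw [hagree _ (by simpa using hx), S.symm_apply_apply, g.apply_symm_apply]
  have hcomm : ρ * N = N * ρ := LinearEquiv.ext fun x => by
    show ρ (N x) = N (ρ x)
    have hperp : prPart h l (N (x - prPart h l x)) = 0 := by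
      refine (Submodule.mem_bot F).1 (h.nd l ▸ (⟨h.pr_mem l _, mem_polarPerp.2 fun u hu => ?_⟩ : prPart h l (N (x - prPart h l x)) ∈ D l ⊓ polarPerp Q (D l)))
      rw [h.polar_pr hu, ← hNfix u hu, orth_polar hNo, ← h.polar_pr hu, map_sub, h.pr_of_mem (h.pr_mem l x), sub_self,
        polar_zero_right]
    have hx : x = prPart h l x + (x - prPart h l x) := by abel
    have h0 : prPart h l (x - prPart h l x) = 0 := by rw [map_sub, h.pr_of_mem (h.pr_mem l x), sub_self]
    rw [hx, map_add, map_add, map_add ρ, map_add N, hρfix _ hperp, hρfix _ h0, hNfix _ (h.pr_mem l x),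
      hNfix _ (hρD _ (h.pr_mem l x))]
  have hconj : ν * R * ν⁻¹ = S * R * S⁻¹ := by
    have h1 : (S⁻¹ * ν) * R = R * (S⁻¹ * ν) := by
      have e : S⁻¹ * ν = g⁻¹ * N * g := by rw [hN]; group
      rw [e, hR, show g⁻¹ * N * g * (g⁻¹ * ρ * g) = g⁻¹ * (N * ρ) * g by group, ← hcomm]
      group
    calc ν * R * ν⁻¹ = S * ((S⁻¹ * ν) * R) * ν⁻¹ := by group
      _ = S * (R * (S⁻¹ * ν)) * ν⁻¹ := by rw [h1]
      _ = S * R * S⁻¹ := by group
  have hRf : R⁻¹ f = f := by
    show R.symm f = f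
    rw [LinearEquiv.symm_apply_eq]
    exact g.injective (by rw [hgR, hρfix _ hgf])
  obtain ⟨w, hw⟩ : ∃ w, w = v - R⁻¹ v := ⟨_, rfl⟩
  have hfw : polar Q f w = 0 := by
    rw [hw, polar_sub_right, hfv]
    conv_lhs => rw [← hRf]
    rw [orth_polar (inv_mem hRo), hfv, sub_zero]
  have hSieg : SiegIn Q M f w := by
    intro he hw'
    have h1 : R⁻¹ * (ν * R * ν⁻¹) ∈ M := mul_mem (inv_mem hRM) (mul_mem (mul_mem hν hRM) (inv_mem hν))
    rw [hconj, show R⁻¹ * (S * R * S⁻¹) = (R⁻¹ * S * (R⁻¹)⁻¹) * S⁻¹ by group, siegel_conj (inv_mem hRo),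
      show S⁻¹ = siegel Q f v hQf hfv from inv_eq_of_mul_eq_one_right (by
        rw [siegel_mul]
        exact siegel_eq_one (0 : F) hQf _ (by simp)),
      siegel_congr _ _ hQf (show polar Q f (R⁻¹ (-v)) = 0 by
        conv_lhs => rw [← hRf]
        rw [orth_polar (inv_mem hRo), hfnv]) hRf rfl, siegel_mul] at h1
    convert h1 using 2
    rw [hw, map_neg]; abel
  have hgw : g w ∈ D l := by
    rw [hw, map_sub, hv, g.apply_symm_apply]
    refine (D l).sub_mem ((D l).smul_mem _ (h.pr_mem l _)) ?_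
    have hx : g.symm ((μ - 1) • prPart h l (g e₀)) = R (R⁻¹ (g.symm ((μ - 1) • prPart h l (g e₀)))) := by
      show _ = R (R.symm _); rw [R.apply_symm_apply]
    have h2 := congrArg g hx
    rw [g.apply_symm_apply, hgR] at h2
    have h3 : prPart h l (g (R⁻¹ (g.symm ((μ - 1) • prPart h l (g e₀))))) = g (R⁻¹ (g.symm ((μ - 1) • prPart h l (g e₀)))) := by
      set z := g (R⁻¹ (g.symm ((μ - 1) • prPart h l (g e₀))))
      have h4 := hρfix (z - prPart h l z) (by rw [map_sub, h.pr_of_mem (h.pr_mem l z), sub_self])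
      rw [map_sub, ← h2] at h4
      have h5 : z - prPart h l z ∈ D l := by
        rw [← h4]; exact (D l).sub_mem ((D l).smul_mem _ (h.pr_mem l _)) (hρD _ (h.pr_mem l _))
      have h6 := h.pr_of_mem h5
      rw [map_sub, h.pr_of_mem (h.pr_mem l z), sub_self] at h6
      exact (sub_eq_zero.1 h6.symm).symm
    rw [← h3]; exact h.pr_mem l _
  have hw0 : w ≠ 0 := fun e => by
    rw [hw, sub_eq_zero] at e
    have h1 := congrArg g (congrArg R e)
    rw [show R (R⁻¹ v) = v from R.apply_symm_apply v, hgR, hv, g.apply_symm_apply] at h1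
    have := hρ1 _ ((D l).smul_mem _ (h.pr_mem l _)) h1
    exact hLe ((smul_eq_zero.1 this).resolve_left (sub_ne_zero.2 hμ1))
  obtain ⟨p, hpk, hwp⟩ : ∃ p, p ≠ k ∧ prPart h p w ≠ 0 := by
    refine other_component h fun hwk => hw0 ?_
    obtain ⟨s, t, hst⟩ := c.two.indep_span hf he₀ hf0 he₀f hwk
    have h1 := hfw
    rw [← hst, polar_add_right, polar_smul_right', polar_smul_right', polar_self', hQf, hfe] at h1
    have ht : t = 0 := by linear_combination h1
    rw [ht, zero_smul, add_zero] at hst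
    have h2 : prPart h l (g w) = 0 := by rw [← hst, map_smul, map_smul, hgf, smul_zero]
    rw [h.pr_of_mem hgw] at h2
    exact g.map_eq_zero_iff.1 h2
  obtain ⟨q, hq⟩ := exists_notMem_finset ({k, p} : Finset κ) (Finset.card_le_two.trans_lt (by have := c.seven; omega))
  simp only [Finset.mem_insert, Finset.mem_singleton, not_or] at hq
  exact ⟨f, w, p, hQf, hf0, hfw, hSieg, h.pr_other hpk.symm hf, hwp,
    c.spare_of_free hq.2 (h.pr_other (Ne.symm hq.1) hf)⟩

include c in
/-- Stabilisers of orthogonal decompositions into planes. -/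
theorem decomp_two_stab_max (hne : ∃ g ∈ M, ¬ KeepsParts D g) : siegelGroup Q ≤ M := by
  refine c.top_of_seed ?_
  by_cases hno : NoRel Q M D
  · obtain ⟨g, hg, hgk⟩ := hne
    exact c.seed_of_noRel hno hg hgk
  · simp only [NoRel, not_forall, not_exists] at hno
    obtain ⟨x, a, l, ha, hQa, hxa, hR, hx⟩ := hno
    exact c.seed_of_rel ha hQa hxa hR hx

end TwoCtx

end CfsgLib.OrthMax
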