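import Cfsg.Agent.Lib.OrthMax.DecompBasic

/-! Two-dimensional parts of an orthogonal decomposition: values, similitudes, invariant additive subgroups. -/

set_option autoImplicit false
set_option linter.unusedSectionVars false
set_option linter.unusedVariables false
set_option linter.unusedSimpArgs false
set_option linter.deprecated false
set_option linter.style.haveILetI false

namespace CfsgLib.OrthMax

open QuadraticMap CfsgLib.Geometry

variable {F V κ : Type*} [Field F] [Finite F] [AddCommGroup V] [Module F V] [FiniteDimensional F V]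
variable [Fintype κ] [DecidableEq κ]
variable {Q : QuadraticForm F V} {M : Subgroup (V ≃ₗ[F] V)} {D : κ → Submodule F V}

/-- Parts of dimension two, over a field that is not too small. -/
structure TwoParts (Q : QuadraticForm F V) (D : κ → Submodule F V) : Prop where
  parts : OrthParts Q D
  two : ∀ l, Module.finrank F (D l) = 2
  fld : 7 ≤ Nat.card F ∨ (Nat.card F ≠ 3 ∧ ∀ l, ∀ v ∈ D l, Q v = 0 → v = 0)

theorem two_eq_zero_of_card {F : Type*} [Field F] [Finite F] (e : Nat.card F = 2) : (2 : F) = 0 := by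
  haveI := Fintype.ofFinite F
  rw [Nat.card_eq_fintype_card] at e
  have := FiniteField.cast_card_eq_zero F
  rwa [e, Nat.cast_ofNat] at this

/-- The vectors of given value on a line. -/
theorem exists_line_points [DecidableEq V] (v : V) {c : F} (hc : c ≠ 0) :
    ∃ T : Finset V, T.card ≤ 2 ∧ ((2 : F) = 0 → T.card ≤ 1) ∧ ∀ x, Q x = c → x ∈ Submodule.span F {v} → x ∈ T := by
  by_cases hx : ∃ x, Q x = c ∧ x ∈ Submodule.span F {v}
  · obtain ⟨x, hQx, hxv⟩ := hx
    refine ⟨{x, -x}, Finset.card_le_two, fun h2 => ?_, fun y hQy hyv => ?_⟩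
    · have h1 : (-1 : F) = 1 := by linear_combination -h2
      rw [← neg_one_smul F x, h1, one_smul]; simp
    obtain ⟨s, rfl⟩ := Submodule.mem_span_singleton.1 hxv
    obtain ⟨t, rfl⟩ := Submodule.mem_span_singleton.1 hyv
    rw [CfsgLib.Geometry.map_smul'] at hQx hQy
    have hQv : Q v ≠ 0 := fun e => hc (by rw [← hQx, e, mul_zero])
    rcases mul_self_eq_mul_self_iff.1 (mul_right_cancel₀ hQv (hQy.trans hQx.symm)) with e | e <;> subst e <;>
      simp [neg_smul]
  · push Not at hx
    exact ⟨∅, by simp, by simp, fun y hy hy' => absurd hy' (hx y hy)⟩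

namespace TwoParts

variable (h : TwoParts Q D)

include h in
theorem indep_span {l : κ} {a b : V} (ha : a ∈ D l) (hb : b ∈ D l) (ha0 : a ≠ 0) (hab : b ∉ Submodule.span F {a})
    {x : V} (hx : x ∈ D l) : ∃ s t : F, s • a + t • b = x := by
  have h1 : LinearIndependent F ![a, b] :=
    (LinearIndependent.pair_iff' ha0).2 fun c hc => hab (Submodule.mem_span_singleton.2 ⟨c, hc⟩)
  have h2 := finrank_span_eq_card h1
  rw [Matrix.range_cons, Matrix.range_cons, Matrix.range_empty, Set.union_empty, Set.singleton_union,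
    Fintype.card_fin] at h2
  have h3 : Submodule.span F ({a, b} : Set V) = D l := by
    refine Submodule.eq_of_le_of_finrank_le (Submodule.span_le.2 ?_) ?_
    · rintro y (rfl | rfl)
      · exact ha
      · exact hb
    · rw [h.two l, h2]
  exact Submodule.mem_span_pair.1 (h3.symm ▸ hx)

include h in
theorem eq_zero_of_polar {l : κ} {a b : V} (ha : a ∈ D l) (hb : b ∈ D l) (ha0 : a ≠ 0)
    (hab : b ∉ Submodule.span F {a}) {x : V} (hx : x ∈ D l) (h1 : polar Q a x = 0) (h2 : polar Q b x = 0) :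
    x = 0 := by
  refine (Submodule.mem_bot F).1 (h.parts.nd l ▸ (⟨hx, mem_polarPerp.2 fun u hu => ?_⟩ : x ∈ D l ⊓ polarPerp Q (D l)))
  obtain ⟨s, t, rfl⟩ := h.indep_span ha hb ha0 hab hu
  rw [polar_add_left, polar_smul_left', polar_smul_left', h1, h2, mul_zero, mul_zero, add_zero]

include h in
/-- The orthogonal of a non-singular vector of a part is not singular. -/
theorem perp_singular {l : κ} {u w : V} (hu : u ∈ D l) (hw : w ∈ D l) (hQu : Q u ≠ 0) (huw : polar Q u w = 0)
    (hQw : Q w = 0) : w = 0 := by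
  have hu0 : u ≠ 0 := fun e => hQu (by rw [e, QuadraticMap.map_zero])
  by_cases hd : w ∈ Submodule.span F {u}
  · obtain ⟨c, rfl⟩ := Submodule.mem_span_singleton.1 hd
    rw [CfsgLib.Geometry.map_smul'] at hQw
    rcases mul_eq_zero.1 hQw with e | e
    · rw [mul_self_eq_zero.1 e, zero_smul]
    · exact absurd e hQu
  · exact h.eq_zero_of_polar hu hw hu0 hd hw huw (by rw [polar_self', hQw, mul_zero])

include h in
theorem exists_perp {l : κ} (n : V) : ∃ d ∈ D l, d ≠ 0 ∧ polar Q n d = 0 := by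
  let f : D l →ₗ[F] F := (polarBilin Q n).comp (D l).subtype
  have h1 := LinearMap.finrank_range_add_finrank_ker f
  have h2 : Module.finrank F (LinearMap.range f) ≤ 1 := le_trans (Submodule.finrank_le _) (by simp)
  rw [h.two l] at h1
  haveI : Nontrivial (LinearMap.ker f) := Module.nontrivial_of_finrank_pos (R := F) (by omega)
  obtain ⟨d, hd⟩ := exists_ne (0 : LinearMap.ker f)
  exact ⟨(d : D l), (d : D l).2, fun e => hd (Subtype.ext (Subtype.ext e)), d.2⟩

include h in
/-- A vector pairing to one with a given one, independent of it. -/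
theorem exists_dual {l : κ} {b : V} (hb : b ∈ D l) (hb0 : b ≠ 0) :
    ∃ b₀ ∈ D l, polar Q b b₀ = 1 ∧ b₀ ∉ Submodule.span F {b} := by
  obtain ⟨p, hp, hpb⟩ := h.parts.exists_polar_in (x := b) (l := l) (by rwa [h.parts.pr_of_mem hb]) 1
  rw [QuadraticMap.polar_comm] at hpb
  by_cases hps : p ∈ Submodule.span F {b}
  swap
  · exact ⟨p, hp, hpb, hps⟩
  obtain ⟨w, hw, hw0, hbw⟩ := h.exists_perp (l := l) b
  refine ⟨p + w, (D l).add_mem hp hw, by rw [polar_add_right, hpb, hbw, add_zero], fun hm => hw0 ?_⟩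
  have := Submodule.sub_mem _ hm hps
  rw [add_sub_cancel_left] at this
  obtain ⟨k, rfl⟩ := Submodule.mem_span_singleton.1 this
  obtain ⟨m, rfl⟩ := Submodule.mem_span_singleton.1 hps
  rw [polar_smul_right'] at hpb hbw
  rcases mul_eq_zero.1 hbw with e | e
  · rw [e, zero_smul]
  · rw [e, mul_zero] at hpb; exact absurd hpb zero_ne_one

include h in
/-- Every value is taken in every part. -/
theorem exists_value (l : κ) (c : F) : ∃ v ∈ D l, Q v = c := by
  have hp : ∀ x y : D l, polar (Q.comp (D l).subtype) x y = polar Q (x : V) (y : V) := fun x y => by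
    simp [QuadraticMap.polar]
  have hl : ∀ x : D l, (∀ y : D l, polar Q (x : V) (y : V) = 0) → x = 0 := fun x hx => by
    have hm : (x : V) ∈ D l ⊓ polarPerp Q (D l) :=
      ⟨x.2, mem_polarPerp.2 fun y hy => by rw [QuadraticMap.polar_comm]; exact hx ⟨y, hy⟩⟩
    rw [h.parts.nd l, Submodule.mem_bot] at hm
    exact Subtype.ext hm
  have hQP : (polarBilin (Q.comp (D l).subtype)).Nondegenerate :=
    ⟨fun x hx => hl x fun y => (hp x y).symm.trans (hx y), fun y hy => hl y fun x =>
      by rw [QuadraticMap.polar_comm]; exact (hp x y).symm.trans (hy x)⟩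
  obtain ⟨a, ha⟩ := exists_represents hQP (h.two l).ge c
  exact ⟨a, a.2, ha⟩

include h in
/-- A prescribed non-zero value avoiding few vectors. -/
theorem exists_value_avoid (l : κ) {c : F} (hc : c ≠ 0) (T : Finset V)
    (hT : T.card ≤ 2 ∨ (T.card ≤ 4 ∧ 3 ≤ Nat.card F)) : ∃ x ∈ D l, Q x = c ∧ x ∉ T := by
  classical
  haveI := Fintype.ofFinite F
  obtain ⟨a, ha, hQa⟩ := h.exists_value l c
  have ha0 : a ≠ 0 := fun e => hc (by rw [← hQa, e, QuadraticMap.map_zero])
  obtain ⟨b, hb, hab, hbS⟩ := h.exists_dual ha ha0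
  by_contra hcon
  push Not at hcon
  obtain ⟨K, hK⟩ : ∃ K, K = Q b := ⟨_, rfl⟩
  have hQd : ∀ z : F, Q (b + z • a) = K + z + z * z * c := fun z => by
    rw [CfsgLib.Geometry.map_add', CfsgLib.Geometry.map_smul', polar_smul_right', QuadraticMap.polar_comm Q b a, hab, hQa, hK]
    ring
  let x : F → V := fun z => a - ((Q (b + z • a))⁻¹ * (1 + 2 * z * c)) • (b + z • a)
  have hd0 : ∀ z : F, b + z • a ≠ 0 := fun z e => hbS (Submodule.mem_span_singleton.2 ⟨-z, by
    rw [neg_smul]; exact (eq_neg_of_add_eq_zero_left e).symm⟩)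
  have hpd : ∀ z : F, polar Q a (b + z • a) = 1 + 2 * z * c := fun z => by
    rw [polar_add_right, polar_smul_right', hab, polar_self', hQa]; ring
  have hmem : ∀ z : F, Q (b + z • a) ≠ 0 → x z ∈ D l ∧ Q (x z) = c := fun z hz => by
    have e : x z = refl Q (b + z • a) hz a := by rw [refl_apply, hpd]
    refine ⟨(D l).sub_mem ha ((D l).smul_mem _ ((D l).add_mem hb ((D l).smul_mem _ ha))), ?_⟩
    rw [e, mem_orth.1 (refl_mem_orth Q _ hz), hQa]
  let S : Finset F := Finset.univ.filter fun z => Q (b + z • a) ≠ 0 ∧ 1 + 2 * z * c ≠ 0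
  have hinj : ∀ z ∈ S, ∀ z' ∈ S, x z = x z' → z = z' := by
    intro z hz z' hz' he
    simp only [S, Finset.mem_filter, Finset.mem_univ, true_and] at hz hz'
    obtain ⟨α, hα⟩ : ∃ α, α = (Q (b + z • a))⁻¹ * (1 + 2 * z * c) := ⟨_, rfl⟩
    obtain ⟨β, hβ⟩ : ∃ β, β = (Q (b + z' • a))⁻¹ * (1 + 2 * z' * c) := ⟨_, rfl⟩
    simp only [x, ← hα, ← hβ] at he
    have hα0 : α ≠ 0 := hα ▸ mul_ne_zero (inv_ne_zero hz.1) hz.2
    have h1 : (α - β) • b = (β * z' - α * z) • a := by linear_combination (norm := module) -he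
    by_cases e : α - β = 0
    · rw [e, zero_smul, eq_comm, smul_eq_zero, sub_eq_zero] at h1
      rcases h1 with h2 | h2
      · rw [← sub_eq_zero.1 e] at h2
        exact (mul_left_cancel₀ hα0 h2).symm
      · exact absurd h2 ha0
    · exact absurd (Submodule.mem_span_singleton.2 ⟨(α - β)⁻¹ * (β * z' - α * z), by
        rw [mul_smul, ← h1, smul_smul, inv_mul_cancel₀ e, one_smul]⟩) hbS
  have hne : ∀ z ∈ S, x z ≠ a := by
    intro z hz he
    simp only [S, Finset.mem_filter, Finset.mem_univ, true_and] at hz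
    simp only [x, sub_eq_self, smul_eq_zero] at he
    exact he.elim (mul_ne_zero (inv_ne_zero hz.1) hz.2) (hd0 z)
  have hsub : insert a (S.image x) ⊆ T := by
    intro y hy
    rcases Finset.mem_insert.1 hy with rfl | hy
    · exact hcon _ ha hQa
    · obtain ⟨z, hz, rfl⟩ := Finset.mem_image.1 hy
      simp only [S, Finset.mem_filter, Finset.mem_univ, true_and] at hz
      exact hcon _ (hmem z hz.1).1 (hmem z hz.1).2
  have hcardT : S.card + 1 ≤ T.card := by
    refine le_trans (le_of_eq ?_) (Finset.card_le_card hsub)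
    rw [Finset.card_insert_of_notMem, Finset.card_image_of_injOn (fun z hz z' hz' => hinj z hz z' hz')]
    intro hm
    obtain ⟨z, hz, he⟩ := Finset.mem_image.1 hm
    exact hne z hz he
  let S0 : Finset F := Finset.univ.filter fun z => Q (b + z • a) = 0
  let S1 : Finset F := Finset.univ.filter fun z => 1 + 2 * z * c = 0
  have hS : Fintype.card F ≤ S.card + S0.card + S1.card := by
    rw [← Finset.card_univ]
    refine le_trans (Finset.card_le_card (t := S ∪ S0 ∪ S1) fun z _ => ?_)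
      ((Finset.card_union_le _ _).trans (Nat.add_le_add_right (Finset.card_union_le _ _) _))
    simp only [S, S0, S1, Finset.mem_union, Finset.mem_filter, Finset.mem_univ, true_and]
    tauto
  have hS1 : S1.card ≤ 1 ∧ ((2 : F) = 0 → S1.card = 0) := by
    refine ⟨Finset.card_le_one.2 fun z hz z' hz' => ?_, fun h2 => Finset.card_eq_zero.2 ?_⟩
    · simp only [S1, Finset.mem_filter, Finset.mem_univ, true_and] at hz hz'
      by_cases h2 : (2 : F) = 0
      · rw [h2] at hz; simp at hz
      · exact mul_left_cancel₀ h2 (mul_right_cancel₀ hc (by linear_combination hz - hz'))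
    · refine Finset.filter_eq_empty_iff.2 fun z _ => ?_
      rw [h2]; simp
  have hS0 : S0.card ≤ 2 := by
    by_contra hlt
    push Not at hlt
    obtain ⟨z₁, z₂, z₃, h1, h2, h3, h12, h13, h23⟩ := Finset.two_lt_card_iff.1 hlt
    simp only [S0, Finset.mem_filter, Finset.mem_univ, true_and, hQd] at h1 h2 h3
    have e12 : 1 + (z₁ + z₂) * c = 0 :=
      (mul_eq_zero.1 (show (z₁ - z₂) * (1 + (z₁ + z₂) * c) = 0 by linear_combination h1 - h2)).resolve_left
        (sub_ne_zero.2 h12)
    have e13 : 1 + (z₁ + z₃) * c = 0 :=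
      (mul_eq_zero.1 (show (z₁ - z₃) * (1 + (z₁ + z₃) * c) = 0 by linear_combination h1 - h3)).resolve_left
        (sub_ne_zero.2 h13)
    exact h23 (mul_right_cancel₀ hc (by linear_combination e12 - e13))
  rcases h.fld with hq | ⟨hq, han⟩
  · rw [Nat.card_eq_fintype_card] at hq
    by_cases h2 : (2 : F) = 0
    · have := hS1.2 h2; omega
    · have := hS1.1; omega
  · have hS00 : S0.card = 0 := Finset.card_eq_zero.2 (Finset.filter_eq_empty_iff.2 fun z _ e =>
      hd0 z (han l _ ((D l).add_mem hb ((D l).smul_mem _ ha)) e))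
    rw [Nat.card_eq_fintype_card] at hq hT
    have h1lt := Fintype.one_lt_card (α := F)
    by_cases h2 : (2 : F) = 0
    · have := hS1.2 h2
      rcases hT with hT | hT <;> [omega; skip]
      have : Fintype.card F ≠ 2 := by omega
      have h4 : 4 ≤ Fintype.card F := by omega
      omega
    · have := hS1.1
      have h5 : 5 ≤ Fintype.card F := by
        have ho := FiniteField.odd_card_of_char_ne_two (F := F) fun hr => h2 (by
          haveI := ringChar.of_eq hr; exact CharTwo.two_eq_zero)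
        omega
      omega

include h in
/-- A vector of given value neither proportional nor orthogonal to a given one. -/
theorem exists_nonperp {l : κ} {v : V} (hv : v ∈ D l) (hv0 : v ≠ 0) {c : F} (hc : c ≠ 0) :
    ∃ a ∈ D l, Q a = c ∧ polar Q v a ≠ 0 ∧ a ∉ Submodule.span F {v} := by
  classical
  obtain ⟨w, hw, hw0, hvw⟩ := h.exists_perp (l := l) v
  have hperp : ∀ x ∈ D l, polar Q v x = 0 → x ∈ Submodule.span F {w} := fun x hx hvx => by
    by_contra hxw
    exact hv0 (h.eq_zero_of_polar hw hx hw0 hxw hv (by rw [QuadraticMap.polar_comm]; exact hvw)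
      (by rw [QuadraticMap.polar_comm]; exact hvx))
  obtain ⟨T₁, hT₁c, hT₁c', hT₁⟩ := exists_line_points (Q := Q) v hc
  obtain ⟨T₂, hT₂c, hT₂c', hT₂⟩ := exists_line_points (Q := Q) w hc
  have hT : (T₁ ∪ T₂).card ≤ 2 ∨ ((T₁ ∪ T₂).card ≤ 4 ∧ 3 ≤ Nat.card F) := by
    have hu := Finset.card_union_le T₁ T₂
    by_cases h3 : 3 ≤ Nat.card F
    · exact Or.inr ⟨by omega, h3⟩
    · have h2 : (2 : F) = 0 := two_eq_zero_of_card (by have := Finite.one_lt_card (α := F); omega)
      have := hT₁c' h2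
      have := hT₂c' h2
      exact Or.inl (by omega)
  obtain ⟨a, ha, hQa, haT⟩ := h.exists_value_avoid l hc (T₁ ∪ T₂) hT
  rw [Finset.mem_union] at haT
  exact ⟨a, ha, hQa, fun e => haT (Or.inr (hT₂ a hQa (hperp a ha e))), fun e => haT (Or.inl (hT₁ a hQa e))⟩

include h in
/-- Two vectors of a value, independent and not orthogonal. -/
theorem exists_rot_pair (l : κ) {c : F} (hc : c ≠ 0) :
    ∃ a ∈ D l, ∃ b ∈ D l, Q a = c ∧ Q b = c ∧ polar Q a b ≠ 0 ∧ b ∉ Submodule.span F {a} := by
  obtain ⟨a, ha, hQa⟩ := h.exists_value l c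
  obtain ⟨b, hb, hQb, hab, hbs⟩ := h.exists_nonperp ha (fun e => hc (by rw [← hQa, e, QuadraticMap.map_zero])) hc
  exact ⟨a, ha, b, hb, hQa, hQb, hab, hbs⟩

include h in
/-- A similitude of a part with a prescribed value. -/
theorem exists_sim {l : κ} {a ζ : V} (ha : a ∈ D l) (hQa : Q a ≠ 0) (hζ : ζ ∈ D l) :
    ∃ Φ : V →ₗ[F] V, Φ a = ζ ∧ ∀ x ∈ D l, Φ x ∈ D l ∧ Q (Φ x) = Q ζ / Q a * Q x := by
  have ha0 : a ≠ 0 := fun e => hQa (by rw [e, QuadraticMap.map_zero])
  obtain ⟨b, hb, hab, hbS⟩ := h.exists_dual ha ha0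
  obtain ⟨p, q, hpq⟩ := h.indep_span ha hb ha0 hbS hζ
  obtain ⟨L, N, hL, hN⟩ : ∃ L N, L = (Q a)⁻¹ ∧ N = Q b * (Q a)⁻¹ := ⟨_, _, rfl, rfl⟩
  let ι : F × F →ₗ[F] V :=
    (LinearMap.toSpanSingleton F V a).coprod (LinearMap.toSpanSingleton F V b)
  have hι : ∀ x ∈ D l, ∃ st : F × F, ι st = x := fun x hx => by
    obtain ⟨s, t, hst⟩ := h.indep_span ha hb ha0 hbS hx
    exact ⟨(s, t), by simpa [ι] using hst⟩
  have hker : LinearMap.ker ι = ⊥ := by
    rw [eq_bot_iff]
    rintro ⟨s, t⟩ he
    simp only [LinearMap.mem_ker, ι, LinearMap.coprod_apply, LinearMap.toSpanSingleton_apply] at he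
    by_cases ht : t = 0
    · subst ht
      rw [zero_smul, add_zero, smul_eq_zero] at he
      simp [he.resolve_right ha0]
    · exact absurd (Submodule.mem_span_singleton.2 ⟨-(t⁻¹ * s), by
        rw [eq_neg_of_add_eq_zero_left he |> fun e => (show b = t⁻¹ • (t • b) by rw [smul_smul, inv_mul_cancel₀ ht, one_smul])]
        rw [eq_neg_of_add_eq_zero_right he, smul_neg, smul_smul, neg_smul]⟩) hbS
  obtain ⟨ρ, hρ⟩ := ι.exists_leftInverse_of_injective hker
  let mlt : F × F →ₗ[F] V :=
    (LinearMap.toSpanSingleton F V ζ).coprod (LinearMap.toSpanSingleton F V ((-(q * N)) • a + (p + q * L) • b))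
  have hval : ∀ x ∈ D l, ∃ s t : F, x = s • a + t • b ∧
      (mlt ∘ₗ ρ) x = s • ζ + t • ((-(q * N)) • a + (p + q * L) • b) := fun x hx => by
    obtain ⟨⟨s, t⟩, rfl⟩ := hι x hx
    refine ⟨s, t, by simp [ι], ?_⟩
    rw [LinearMap.comp_apply, show ρ (ι (s, t)) = (s, t) from LinearMap.congr_fun hρ (s, t)]
    simp [mlt]
  refine ⟨mlt ∘ₗ ρ, ?_, fun x hx => ?_⟩
  · rw [LinearMap.comp_apply, show a = ι (1, 0) by simp [ι],
      show ρ (ι (1, 0)) = (1, 0) from LinearMap.congr_fun hρ (1, 0)]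
    simp [mlt]
  · obtain ⟨s, t, hxe, he⟩ := hval x hx
    rw [he]
    refine ⟨(D l).add_mem ((D l).smul_mem _ hζ) ((D l).smul_mem _ ((D l).add_mem ((D l).smul_mem _ ha)
      ((D l).smul_mem _ hb))), ?_⟩
    rw [hxe, ← hpq, hL, hN]
    simp only [CfsgLib.Geometry.map_add', CfsgLib.Geometry.map_smul', polar_add_left, polar_add_right, polar_smul_left', polar_smul_right',
      polar_self', hab, QuadraticMap.polar_comm Q b a, smul_add, smul_smul]
    field_simp
    ring

include h in
/-- A similitude from one part to another. -/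
theorem exists_sim_between (hiso : ∀ i j, ∃ e : D i ≃ₗ[F] D j, ∀ v : D i, Q (e v : V) = Q (v : V))
    {i j : κ} {a ζ : V} (ha : a ∈ D i) (hQa : Q a ≠ 0) (hζ : ζ ∈ D j) :
    ∃ Φ : V →ₗ[F] V, Φ a = ζ ∧ ∀ x ∈ D i, Φ x ∈ D j ∧ Q (Φ x) = Q ζ / Q a * Q x := by
  obtain ⟨e, he⟩ := hiso i j
  let E : V →ₗ[F] V := (D j).subtype ∘ₗ e.toLinearMap ∘ₗ LinearMap.codRestrict (D i) (prPart h.parts i) (h.parts.pr_mem i)
  have hE : ∀ x ∈ D i, E x ∈ D j ∧ Q (E x) = Q x := fun x hx => by
    refine ⟨(e _).2, ?_⟩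
    show Q (e _ : V) = Q x
    rw [he, LinearMap.codRestrict_apply, h.parts.pr_of_mem hx]
  obtain ⟨Φ, hΦa, hΦ⟩ := h.exists_sim (hE a ha).1 (by rw [(hE a ha).2]; exact hQa) hζ
  refine ⟨Φ ∘ₗ E, hΦa, fun x hx => ⟨(hΦ _ (hE x hx).1).1, ?_⟩⟩
  rw [LinearMap.comp_apply, (hΦ _ (hE x hx).1).2, (hE a ha).2, (hE x hx).2]

omit [Fintype κ] [DecidableEq κ] [FiniteDimensional F V] [Finite F] in
theorem polar_sim {Φ : V →ₗ[F] V} {P : Submodule F V} {r : F} (hΦ : ∀ x ∈ P, Q (Φ x) = r * Q x) {x y : V}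
    (hx : x ∈ P) (hy : y ∈ P) : polar Q (Φ x) (Φ y) = r * polar Q x y := by
  simp only [QuadraticMap.polar, ← map_add, hΦ _ (P.add_mem hx hy), hΦ x hx, hΦ y hy]
  ring

include h in
/-- Vectors of two parts with opposite values pairing to one with given ones. -/
theorem exists_opp_pair (hiso : ∀ i j, ∃ e : D i ≃ₗ[F] D j, ∀ v : D i, Q (e v : V) = Q (v : V))
    {j o : κ} {u v : V} (hu : u ∈ D j) (hv : v ∈ D o) (hu0 : u ≠ 0) (hv0 : v ≠ 0) :
    ∃ b ∈ D j, ∃ b' ∈ D o, polar Q u b = 1 ∧ polar Q v b' = 1 ∧ Q b ≠ 0 ∧ Q b' = -Q b := by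
  classical
  haveI := Fintype.ofFinite F
  by_cases hQv : Q v = 0
  · obtain ⟨a, ha, hQa, hua, -⟩ := h.exists_nonperp hu hu0 (one_ne_zero (α := F))
    obtain ⟨f, hf, hQf, hvf⟩ := h.parts.exists_partner_in hv hv0 hQv
    refine ⟨(polar Q u a)⁻¹ • a, (D j).smul_mem _ ha, f + (-((polar Q u a)⁻¹ * (polar Q u a)⁻¹ * 1)) • v,
      (D o).add_mem hf ((D o).smul_mem _ hv), ?_, ?_, ?_, ?_⟩
    · rw [polar_smul_right', inv_mul_cancel₀ hua]
    · rw [polar_add_right, polar_smul_right', hvf, polar_self', hQv]; ring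
    · rw [CfsgLib.Geometry.map_smul', hQa]
      exact mul_ne_zero (mul_ne_zero (inv_ne_zero hua) (inv_ne_zero hua)) one_ne_zero
    · rw [CfsgLib.Geometry.map_add', CfsgLib.Geometry.map_smul', CfsgLib.Geometry.map_smul', polar_smul_right',
        QuadraticMap.polar_comm Q f v, hvf, hQf, hQv, hQa]
      ring
  obtain ⟨v₁, hv₁, hQv₁, hvu, hn⟩ : ∃ x ∈ D j, Q x = -Q v ∧ x ∉ Submodule.span F {u} ∧ Q (u + x) ≠ 0 := by
    obtain ⟨T₁, hT₁c, hT₁c', hT₁⟩ := exists_line_points (Q := Q) u (neg_ne_zero.2 hQv)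
    rcases h.fld with hq | ⟨hq, han⟩
    · by_contra hcon
      push Not at hcon
      -- at most two bad vectors off the line
      obtain ⟨w, hw, hw0, huw⟩ := h.exists_perp (l := j) u
      have hbad : ∃ T₂ : Finset V, T₂.card ≤ 2 ∧
          ∀ x ∈ D j, Q x = -Q v → x ∉ Submodule.span F {u} → x ∈ T₂ := by
        by_cases hex : ∃ a ∈ D j, Q a = -Q v ∧ a ∉ Submodule.span F {u}
        swap
        · push Not at hex
          exact ⟨∅, by simp, fun x hx hx1 hx2 => absurd (hex x hx hx1) hx2⟩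
        obtain ⟨a, ha, hQa, hau⟩ := hex
        have h0 := hcon a ha hQa hau
        refine ⟨{a, a + (-(polar Q a w) * (Q w)⁻¹) • w}, Finset.card_le_two, fun x hx hQx hxu => ?_⟩
        have h1 := hcon x hx hQx hxu
        have hux : polar Q u (x - a) = 0 := by
          rw [CfsgLib.Geometry.map_add', hQa] at h0
          rw [CfsgLib.Geometry.map_add', hQx] at h1
          rw [polar_sub_right]
          linear_combination h1 - h0
        obtain ⟨k, hk⟩ : ∃ k : F, k • w = x - a := by
          refine Submodule.mem_span_singleton.1 ?_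
          by_contra hxw
          exact hu0 (h.eq_zero_of_polar hw ((D j).sub_mem hx ha) hw0 hxw hu
            (by rw [QuadraticMap.polar_comm]; exact huw) (by rw [QuadraticMap.polar_comm]; exact hux))
        have hxe : x = a + k • w := by rw [hk]; abel
        rw [hxe, CfsgLib.Geometry.map_add', CfsgLib.Geometry.map_smul', polar_smul_right', hQa] at hQx
        rcases mul_eq_zero.1 (show k * (k * Q w + polar Q a w) = 0 by linear_combination hQx) with e | e
        · rw [hxe, e, zero_smul, add_zero]; simp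
        by_cases hQw : Q w = 0
        · rw [hQw, mul_zero, zero_add] at e
          exfalso
          have hw' : polar Q w a = 0 := by rw [QuadraticMap.polar_comm]; exact e
          exact hw0 (h.eq_zero_of_polar hu ha hu0 hau hw huw (by rw [QuadraticMap.polar_comm]; exact hw'))
        · rw [hxe]
          refine Finset.mem_insert_of_mem (Finset.mem_singleton.2 ?_)
          congr 2
          field_simp
          linear_combination e
      obtain ⟨T₂, hT₂c, hT₂⟩ := hbad
      obtain ⟨x, hx, hQx, hxT⟩ := h.exists_value_avoid j (neg_ne_zero.2 hQv) (T₁ ∪ T₂)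
        (Or.inr ⟨(Finset.card_union_le _ _).trans (by omega), by omega⟩)
      rw [Finset.mem_union] at hxT
      by_cases hxu : x ∈ Submodule.span F {u}
      · exact hxT (Or.inl (hT₁ x hQx hxu))
      · exact hxT (Or.inr (hT₂ x hx hQx hxu))
    · obtain ⟨x, hx, hQx, hxT⟩ := h.exists_value_avoid j (neg_ne_zero.2 hQv) T₁ (Or.inl hT₁c)
      refine ⟨x, hx, hQx, fun e => hxT (hT₁ x hQx e), fun e => hxT (hT₁ x hQx ?_)⟩
      have h0 := han j _ ((D j).add_mem hu hx) e
      rw [eq_neg_of_add_eq_zero_right h0]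
      exact Submodule.neg_mem _ (Submodule.mem_span_singleton_self u)
  obtain ⟨Φ, hΦ₁, hΦ⟩ := h.exists_sim_between hiso hv₁ (by rw [hQv₁]; exact neg_ne_zero.2 hQv) hv
  have hr : ∀ x ∈ D j, Q (Φ x) = -1 * Q x := fun x hx => by rw [(hΦ x hx).2, hQv₁]; field_simp
  obtain ⟨d, hd, hd0, hnd⟩ := h.exists_perp (l := j) (u + v₁)
  have hQd : Q d ≠ 0 := fun e => hd0 (h.perp_singular ((D j).add_mem hu hv₁) hd hn hnd e)
  rw [polar_add_left] at hnd
  have hud : polar Q u d ≠ 0 := fun e =>
    hd0 (h.eq_zero_of_polar hu hv₁ hu0 hvu hd e (by linear_combination hnd - e))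
  refine ⟨(polar Q u d)⁻¹ • d, (D j).smul_mem _ hd, Φ ((polar Q u d)⁻¹ • d), (hΦ _ ((D j).smul_mem _ hd)).1,
    by rw [polar_smul_right', inv_mul_cancel₀ hud], ?_, ?_, ?_⟩
  · rw [← hΦ₁, polar_sim hr hv₁ ((D j).smul_mem _ hd), polar_smul_right',
      show polar Q v₁ d = -polar Q u d by linear_combination hnd]
    field_simp
  · rw [CfsgLib.Geometry.map_smul']
    exact mul_ne_zero (mul_ne_zero (inv_ne_zero hud) (inv_ne_zero hud)) hQd
  · rw [hr _ ((D j).smul_mem _ hd)]; ring

include h in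
/-- An additive subgroup of a part closed under all displacements of reflections contains the part. -/
theorem sweep_two {l : κ} (A : AddSubgroup V) (hA : ∀ x ∈ A, x ∈ D l)
    (hcl : ∀ b ∈ D l, Q b ≠ 0 → ∀ x ∈ A, ((Q b)⁻¹ * polar Q x b) • b ∈ A) {v : V} (hv : v ∈ A) (hv0 : v ≠ 0) :
    ∀ x ∈ D l, x ∈ A := by
  classical
  haveI := Fintype.ofFinite F
  obtain ⟨b, hb, hQb, hvb, hbS⟩ := h.exists_nonperp (hA v hv) hv0 (one_ne_zero (α := F))
  have hb0 : b ≠ 0 := fun e => one_ne_zero (α := F) (by rw [← hQb, e, QuadraticMap.map_zero])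
  obtain ⟨b₀, hb₀, hbb₀, hb₀S⟩ := h.exists_dual hb hb0
  let R : Subring F :=
    { carrier := {s | ∀ x ∈ A, s • x ∈ A}
      one_mem' := fun x hx => by rwa [one_smul]
      zero_mem' := fun x hx => by rw [zero_smul]; exact A.zero_mem
      mul_mem' := fun {s t} hs ht x hx => by rw [mul_smul]; exact hs _ (ht x hx)
      add_mem' := fun {s t} hs ht x hx => by rw [add_smul]; exact A.add_mem (hs x hx) (ht x hx)
      neg_mem' := fun {s} hs x hx => by rw [neg_smul]; exact A.neg_mem (hs x hx) }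
  have hinv : ∀ s : F, s ∈ R → s⁻¹ ∈ R := fun s hs => by
    by_cases hs0 : s = 0
    · rw [hs0, inv_zero]; exact R.zero_mem
    have h1 := FiniteField.pow_card_sub_one_eq_one s hs0
    have hq := Fintype.one_lt_card (α := F)
    rw [show Fintype.card F - 1 = Fintype.card F - 2 + 1 by omega, pow_succ] at h1
    rw [← eq_inv_of_mul_eq_one_left h1]
    exact R.pow_mem hs _
  obtain ⟨K, hK⟩ : ∃ K, K = Q b₀ := ⟨_, rfl⟩
  obtain ⟨Δ, hΔ⟩ : ∃ Δ, Δ = 1 - 4 * K := ⟨_, rfl⟩
  have hΔ0 : Δ ≠ 0 := fun e => by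
    have h2 := h.eq_zero_of_polar hb hb₀ hb0 hb₀S ((D l).sub_mem hb ((D l).smul_mem (2 : F) hb₀))
      (by rw [polar_sub_right, polar_smul_right', polar_self', hQb, hbb₀]; ring)
      (by rw [polar_sub_right, polar_smul_right', polar_self', QuadraticMap.polar_comm, hbb₀, ← hK]
          linear_combination e - hΔ)
    by_cases h2' : (2 : F) = 0
    · rw [h2', zero_smul, sub_zero] at h2; exact hb0 h2
    · exact hb₀S (Submodule.mem_span_singleton.2 ⟨(2 : F)⁻¹, by
        rw [sub_eq_zero.1 h2, smul_smul, inv_mul_cancel₀ h2', one_smul]⟩)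
  -- the scalar attached to two reflections
  have hscal : ∀ w : F, K + w + w * w ≠ 0 → Δ * (K + w + w * w)⁻¹ ∈ R := by
    intro w hD x hx
    obtain ⟨E, hE⟩ : ∃ E, E = K + w + w * w := ⟨_, rfl⟩
    obtain ⟨b', hb'e⟩ : ∃ b', b' = b₀ + w • b := ⟨_, rfl⟩
    have hb' : b' ∈ D l := hb'e ▸ (D l).add_mem hb₀ ((D l).smul_mem _ hb)
    have hQb' : Q b' = K + w + w * w := by
      rw [hb'e, CfsgLib.Geometry.map_add', CfsgLib.Geometry.map_smul', polar_smul_right', QuadraticMap.polar_comm Q b₀ b, hbb₀, hQb, hK]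
      ring
    have hbb' : polar Q b b' = 1 + 2 * w := by
      rw [hb'e, polar_add_right, polar_smul_right', hbb₀, polar_self', hQb]; ring
    have h1 := hcl b hb (by rw [hQb]; exact one_ne_zero) x hx
    have h2 := hcl b' hb' (by rw [hQb']; exact hD) x hx
    have h3 := hcl b hb (by rw [hQb]; exact one_ne_zero) _ h2
    have h4 := hcl b' hb' (by rw [hQb']; exact hD) _ h1
    have h5 := A.sub_mem (A.add_mem h3 h4) (A.add_mem (A.add_mem h1 h1) (A.add_mem h2 h2))
    obtain ⟨s, t, rfl⟩ := h.indep_span hb hb' hb0 (fun hm => hb₀S (by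
      have := Submodule.sub_mem _ hm (Submodule.smul_mem _ w (Submodule.mem_span_singleton_self b))
      rwa [hb'e, add_sub_cancel_right] at this)) (hA x hx)
    convert h5 using 1
    simp only [polar_add_left, polar_smul_left', polar_self', QuadraticMap.polar_comm Q b' b, hbb', hQb, hQb', hΔ,
      ← hE]
    rw [← hE] at hD
    match_scalars <;> field_simp <;> rw [hE] <;> ring
  have hKR : K ∈ R ∧ Δ ∈ R := by
    by_cases hK0 : K = 0
    · rw [hΔ, hK0, mul_zero, sub_zero]; exact ⟨R.zero_mem, R.one_mem⟩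
    have h1 := hscal 0 (by simpa using hK0)
    rw [add_zero, mul_zero, add_zero, hΔ, sub_mul, one_mul, mul_assoc, mul_inv_cancel₀ hK0, mul_one] at h1
    have h4 : (4 : F) ∈ R := by
      have := natCast_mem R 4
      simpa using this
    have h2 := hinv _ (show K⁻¹ ∈ R by simpa using R.add_mem h1 h4)
    rw [inv_inv] at h2
    exact ⟨h2, hΔ ▸ R.sub_mem R.one_mem (R.mul_mem h4 h2)⟩
  have hf : ∀ w : F, w + w * w ∈ R := fun w => by
    by_cases hD : K + w + w * w = 0
    · rw [show w + w * w = -K by linear_combination hD]; exact R.neg_mem hKR.1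
    have h1 := hinv _ (R.mul_mem (hinv _ hKR.2) (hscal w hD))
    rw [← mul_assoc, inv_mul_cancel₀ hΔ0, one_mul, inv_inv] at h1
    simpa [add_assoc] using R.sub_mem h1 hKR.1
  have hall : ∀ s : F, s ∈ R := by
    intro s
    by_cases h2 : (2 : F) = 0
    swap
    · have h1 := R.sub_mem (hf (s / 2 - 1 + 1)) (hf (s / 2 - 1))
      convert h1 using 1
      field_simp
      ring
    by_cases hl : ∃ t ∈ R, t ≠ 0 ∧ t ≠ 1
    · obtain ⟨t, ht, ht0, ht1⟩ := hl
      have htt : t - t * t ≠ 0 := fun e => ht1 (mul_left_cancel₀ ht0 (by linear_combination -e))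
      have h1 := R.mul_mem (hinv _ (R.sub_mem ht (R.mul_mem ht ht)))
        (R.sub_mem (hf (t * s)) (R.mul_mem (R.mul_mem ht ht) (hf s)))
      convert h1 using 1
      field_simp
      ring
    push Not at hl
    have h01 : ∀ t ∈ R, t = 0 ∨ t = 1 := fun t ht => by
      by_cases h0 : t = 0
      · exact Or.inl h0
      · exact Or.inr (hl t ht h0)
    by_cases hall2 : ∀ w : F, w = 0 ∨ w = 1
    · rcases hall2 s with rfl | rfl
      · exact R.zero_mem
      · exact R.one_mem
    push Not at hall2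
    obtain ⟨w₀, hw0, hw1⟩ := hall2
    have hone : ∀ w : F, w ≠ 0 → w ≠ 1 → w + w * w = 1 := fun w h0 h1 => by
      rcases h01 _ (hf w) with e | e
      · exact absurd ((mul_eq_zero.1 (show w * (w - 1) = 0 by linear_combination e - w * h2)).resolve_left h0)
          (sub_ne_zero.2 h1)
      · exact e
    rcases h.fld with hq | ⟨hq, han⟩
    · exfalso
      rw [Nat.card_eq_fintype_card] at hq
      have hsub : (Finset.univ : Finset F) ⊆ {0, 1, w₀, w₀ + 1} := fun w _ => by
        by_cases h0 : w = 0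
        · simp [h0]
        by_cases h1 : w = 1
        · simp [h1]
        rcases mul_eq_zero.1 (show (w - w₀) * (w + w₀ + 1) = 0 by
          linear_combination hone w h0 h1 - hone w₀ hw0 hw1) with e | e
        · simp [sub_eq_zero.1 e]
        · simp [show w = w₀ + 1 by linear_combination e - (w₀ + 1) * h2]
      have h1 := (Finset.card_le_card hsub).trans Finset.card_le_four
      rw [Finset.card_univ] at h1
      omega
    · exfalso
      have hz : ∀ z : F, K + z + z * z ≠ 0 := fun z e => by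
        refine hb₀S (Submodule.mem_span_singleton.2 ⟨-z, ?_⟩)
        have h0 := han l (b₀ + z • b) ((D l).add_mem hb₀ ((D l).smul_mem _ hb)) (by
          rw [CfsgLib.Geometry.map_add', CfsgLib.Geometry.map_smul', polar_smul_right', QuadraticMap.polar_comm Q b₀ b, hbb₀, hQb, ← hK]
          linear_combination e)
        rw [eq_neg_of_add_eq_zero_left h0, neg_smul]
      rcases h01 K hKR.1 with e | e
      · exact hz 0 (by rw [e]; ring)
      · exact hz w₀ (by rw [e]; linear_combination hone w₀ hw0 hw1 + h2)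
  have hbA : b ∈ A := by
    have h1 := hall (Q b * (polar Q v b)⁻¹) _ (hcl b hb (by rw [hQb]; exact one_ne_zero) v hv)
    rwa [smul_smul, show Q b * (polar Q v b)⁻¹ * ((Q b)⁻¹ * polar Q v b) = 1 by
      rw [hQb]; field_simp, one_smul] at h1
  intro x hx
  obtain ⟨s, t, rfl⟩ := h.indep_span (hA v hv) hb hv0 hbS hx
  exact A.add_mem (hall s v hv) (hall t b hbA)

end TwoParts

end CfsgLib.OrthMax
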