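import Cfsg.Agent.Lib.OrthMax.TwoPlane

/-! Orthogonal decompositions into planes: from one root element with a vanishing component to everything. -/

set_option autoImplicit false
set_option linter.unusedSectionVars false
set_option linter.unusedVariables false
set_option linter.unusedSimpArgs false
set_option linter.deprecated false
set_option linter.style.haveILetI false

namespace CfsgLib.OrthMax

open QuadraticMap CfsgLib.Geometry

variable {F V κ : Type*} [Field F] [Finite F] [AddCommGroup V] [Module F V] [FiniteDimensional F V]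
variable [Fintype κ] [DecidableEq κ]
variable {Q : QuadraticForm F V} {M : Subgroup (V ≃ₗ[F] V)} {D : κ → Submodule F V}

theorem KeepsParts.mul {g k : V ≃ₗ[F] V} (hg : KeepsParts D g) (hk : KeepsParts D k) : KeepsParts D (g * k) := fun i => by
  obtain ⟨j, hj⟩ := hk i
  obtain ⟨o, ho⟩ := hg j
  exact ⟨o, fun v hv => ho _ (hj v hv)⟩

theorem exists_notMem_finset (T : Finset κ) (h : T.card < Fintype.card κ) : ∃ q, q ∉ T := by
  by_contra hc
  push Not at hc
  rw [Finset.eq_univ_of_forall hc, Finset.card_univ] at h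
  exact lt_irrefl _ h

theorem siegel_neg_left {y v : V} (hy : Q y = 0) (h : SiegIn Q M y (-v)) : SiegIn Q M (-y) v := by
  intro he hw
  have hw' : polar Q y (-v) = 0 := by rwa [polar_neg_right, ← polar_neg_left]
  convert h hy hw' using 1
  refine LinearEquiv.ext fun x => ?_
  simp only [siegel_apply, polar_neg_right, polar_neg_left, QuadraticMap.map_neg]
  module

theorem root_self {y : V} (hy : Q y = 0) : RootIn Q M y y := fun t he hw => by
  rw [siegel_eq_one t he hw rfl]; exact one_mem M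

/-- Adding the first vectors of two root elements. -/
theorem siegIn_add_left {y y' v : V} (hy : Q y = 0) (hy' : Q y' = 0) (hyy : polar Q y y' = 0) (hyv : polar Q y v = 0)
    (hy'v : polar Q y' v = 0) (h1 : SiegIn Q M y v) (h2 : SiegIn Q M y' v)
    (h3 : SiegIn Q M y ((-Q v) • y')) : SiegIn Q M (y + y') v := by
  intro he hw
  have hw3 : polar Q y ((-Q v) • y') = 0 := by rw [polar_smul_right', hyy, mul_zero]
  have := mul_mem (mul_mem (h1 hy hyv) (h2 hy' hy'v)) (h3 hy hw3)
  convert this using 1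
  refine LinearEquiv.ext fun x => ?_
  rw [siegel_apply, LinearEquiv.mul_apply, LinearEquiv.mul_apply, siegel_apply, siegel_apply, siegel_apply]
  simp only [polar_add_left, polar_add_right, polar_sub_left, polar_sub_right, polar_smul_left', polar_smul_right', polar_self', hy, hy',
    CfsgLib.Geometry.map_smul', hyy, hyv, hy'v, QuadraticMap.polar_comm Q y' y, QuadraticMap.polar_comm Q v y,
    QuadraticMap.polar_comm Q v y']
  module

/-- Reflection pairs lying in `M`. -/
def Rel (Q : QuadraticForm F V) (M : Subgroup (V ≃ₗ[F] V)) (x y : V) : Prop :=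
  ∀ (hx : Q x ≠ 0) (hy : Q y ≠ 0), refl Q x hx * refl Q y hy ∈ M

theorem Rel.trans {x y z : V} (hy : Q y ≠ 0) (h : Rel Q M x y) (h' : Rel Q M y z) : Rel Q M x z := fun hx hz => by
  have := mul_mem (h hx hy) (h' hy hz)
  rwa [mul_assoc, ← mul_assoc (refl Q y hy), refl_mul_self, one_mul] at this

theorem Rel.symm {x y : V} (h : Rel Q M x y) : Rel Q M y x := fun hy hx => by
  have h1 : refl Q y hy * refl Q x hx = (refl Q x hx * refl Q y hy)⁻¹ := by
    rw [mul_inv_rev, inv_eq_of_mul_eq_one_right (refl_mul_self Q x hx), inv_eq_of_mul_eq_one_right (refl_mul_self Q y hy)]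
  rw [h1]; exact inv_mem (h hx hy)

theorem Rel.conj {x y : V} (h : Rel Q M x y) {m : V ≃ₗ[F] V} (hm : m ∈ M) (hmo : m ∈ Geometry.orth Q) :
    Rel Q M (m x) (m y) := fun hx hy => by
  have hx' : Q x ≠ 0 := by rwa [mem_orth.1 hmo] at hx
  have hy' : Q y ≠ 0 := by rwa [mem_orth.1 hmo] at hy
  have := mul_mem (mul_mem hm (h hx' hy')) (inv_mem hm)
  rwa [show m * (refl Q x hx' * refl Q y hy') * m⁻¹ = (m * refl Q x hx' * m⁻¹) * (m * refl Q y hy' * m⁻¹) by group,
    refl_conj Q hmo, refl_conj Q hmo] at this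

/-- All root groups joining a point to a part. -/
def RootPart (Q : QuadraticForm F V) (M : Subgroup (V ≃ₗ[F] V)) (D : κ → Submodule F V) (y : V) (p : κ) : Prop :=
  ∀ v ∈ D p, RootIn Q M y v

/-- Enough reflections off the part `p` fix `y`. -/
def Spare {h : OrthParts Q D} (y : V) (p : κ) : Prop :=
  (∀ c : F, c ≠ 0 → ∃ l, l ≠ p ∧ ∃ d ∈ D l, Q d = c ∧ polar Q y d = 0) ∧
    ∀ j o, o ≠ j → prPart h j y ≠ 0 → prPart h o y ≠ 0 → ∃ j' o' q q', o' ≠ j' ∧ prPart h j' y ≠ 0 ∧ prPart h o' y ≠ 0 ∧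
      q ≠ j' ∧ q ≠ o' ∧ q ≠ p ∧ q' ≠ j' ∧ q' ≠ o' ∧ q' ≠ p ∧
      ∃ d ∈ D q, ∃ d' ∈ D q', Q d ≠ 0 ∧ Q d' = -Q d ∧ polar Q y d = 0 ∧ polar Q y d' = 0

/-- A root element with a vanishing component in a part meeting the second vector. -/
def Seed {h : OrthParts Q D} (M : Subgroup (V ≃ₗ[F] V)) : Prop :=
  ∃ (y z : V) (p : κ), Q y = 0 ∧ y ≠ 0 ∧ polar Q y z = 0 ∧ SiegIn Q M y z ∧ prPart h p y = 0 ∧
    prPart h p z ≠ 0 ∧ Spare (h := h) y p

/-- The standing hypotheses. -/
structure TwoCtx (Q : QuadraticForm F V) (D : κ → Submodule F V) (M : Subgroup (V ≃ₗ[F] V)) : Prop where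
  two : TwoParts Q D
  le : M ≤ siegelGroup Q
  stab : ∀ g ∈ siegelGroup Q, KeepsParts D g → g ∈ M
  rank : 5 ≤ Module.finrank F V
  iso : ∀ i j, ∃ e : D i ≃ₗ[F] D j, ∀ v : D i, Q (e v : V) = Q (v : V)
  seven : 5 ≤ Fintype.card κ

namespace TwoCtx

variable (c : TwoCtx Q D M)

include c in
theorem mem_orth' {m : V ≃ₗ[F] V} (hm : m ∈ M) : m ∈ Geometry.orth Q := siegelGroup_le_orth (c.le hm)

include c in
theorem keeps_refl {i : κ} {a : V} (ha : a ∈ D i) (hQa : Q a ≠ 0) : KeepsParts D (refl Q a hQa) :=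
  c.two.parts.keeps_of_local (l := i) (refl_mem_orth Q a hQa) fun v hv =>
    refl_eq_self Q a hQa (by rw [QuadraticMap.polar_comm]; exact mem_polarPerp.1 hv a ha)

include c in
theorem pair_mem {i j : κ} {a b : V} (ha : a ∈ D i) (hb : b ∈ D j) (hQa : Q a ≠ 0) (hQb : Q b ≠ 0)
    (hab : Q b = Q a) : refl Q a hQa * refl Q b hQb ∈ M := by
  have hR : reflGroup Q = Geometry.orth Q := reflGroup_eq_orth c.two.parts.gram (Or.inl (by have := c.rank; omega))
  let g : Geometry.orth Q := oRefl Q a hQa * oRefl Q b hQb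
  have hg : (g : V ≃ₗ[F] V) ∈ siegelGroup Q := by
    refine (mem_commutator_iff_siegelGroup c.two.parts.gram c.rank g).1
      ((mem_commutator_orth_iff c.two.parts.gram hR g).2 ?_)
    show orthInvariant c.two.parts.gram hR (oRefl Q a hQa * oRefl Q b hQb) = 1
    rw [map_mul, orthInvariant_oRefl, orthInvariant_oRefl, Prod.mk_mul_mk]
    refine Prod.ext ?_ (show Multiplicative.ofAdd (1 : ZMod 2) * Multiplicative.ofAdd 1 = 1 by decide)
    show sqMk _ * sqMk _ = 1
    rw [← sqMk_mul, sqMk_eq_one_iff]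
    exact ⟨Q a, by rw [hab]⟩
  exact c.stab _ hg ((c.keeps_refl ha hQa).mul (c.keeps_refl hb hQb))

include c in
theorem four_mem {i j i' j' : κ} {a b a' b' : V} (ha : a ∈ D i) (hb : b ∈ D j) (ha' : a' ∈ D i') (hb' : b' ∈ D j')
    (hQa : Q a ≠ 0) (hQb : Q b ≠ 0) (hQa' : Q a' ≠ 0) (hQb' : Q b' ≠ 0)
    (hs : IsSquare (Q a * Q b * Q a' * Q b')) :
    refl Q a hQa * refl Q b hQb * refl Q a' hQa' * refl Q b' hQb' ∈ M := by
  have hR : reflGroup Q = Geometry.orth Q := reflGroup_eq_orth c.two.parts.gram (Or.inl (by have := c.rank; omega))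
  let g : Geometry.orth Q := oRefl Q a hQa * oRefl Q b hQb * oRefl Q a' hQa' * oRefl Q b' hQb'
  have hg : (g : V ≃ₗ[F] V) ∈ siegelGroup Q := by
    refine (mem_commutator_iff_siegelGroup c.two.parts.gram c.rank g).1
      ((mem_commutator_orth_iff c.two.parts.gram hR g).2 ?_)
    show orthInvariant c.two.parts.gram hR (oRefl Q a hQa * oRefl Q b hQb * oRefl Q a' hQa' * oRefl Q b' hQb') = 1
    rw [map_mul, map_mul, map_mul, orthInvariant_oRefl, orthInvariant_oRefl, orthInvariant_oRefl, orthInvariant_oRefl,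
      Prod.mk_mul_mk, Prod.mk_mul_mk, Prod.mk_mul_mk]
    refine Prod.ext ?_ (show Multiplicative.ofAdd (1 : ZMod 2) * Multiplicative.ofAdd 1 * Multiplicative.ofAdd 1 *
      Multiplicative.ofAdd 1 = 1 by decide)
    show sqMk _ * sqMk _ * sqMk _ * sqMk _ = 1
    rw [← sqMk_mul, ← sqMk_mul, ← sqMk_mul, sqMk_eq_one_iff]
    exact hs
  exact c.stab _ hg
    ((((c.keeps_refl ha hQa).mul (c.keeps_refl hb hQb)).mul (c.keeps_refl ha' hQa')).mul (c.keeps_refl hb' hQb'))

include c in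
theorem rel_parts {i j : κ} {a b : V} (ha : a ∈ D i) (hb : b ∈ D j) (hab : Q b = Q a) : Rel Q M a b :=
  fun hQa hQb => c.pair_mem ha hb hQa hQb hab

include c in
theorem perp_pr {l : κ} {a y : V} (ha : a ∈ D l) (hy : prPart c.two.parts l y = 0) : polar Q y a = 0 := by
  rw [← c.two.parts.polar_pr' ha, hy, polar_zero_left]

include c in
/-- The second vectors filling a part. -/
theorem rootPart_of_seed {y z : V} {p : κ} (hy : Q y = 0) (hyz : polar Q y z = 0)
    (hS : SiegIn Q M y z) (hy0 : prPart c.two.parts p y = 0) (hzp : prPart c.two.parts p z ≠ 0)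
    (hsp : Spare (h := c.two.parts) y p) : RootPart Q M D y p := by
  have h := c.two.parts
  have hyp : ∀ v ∈ D p, polar Q y v = 0 := fun v hv => c.perp_pr hv hy0
  let A : AddSubgroup V :=
    { carrier := {v | v ∈ D p ∧ SiegIn Q M y v}
      zero_mem' := ⟨(D p).zero_mem, SiegIn.zero y⟩
      add_mem' := fun {v w} hv hw => ⟨(D p).add_mem hv.1 hw.1, hv.2.add hw.2 hy (hyp v hv.1) (hyp w hw.1)⟩
      neg_mem' := fun {v} hv => ⟨(D p).neg_mem hv.1, hv.2.neg hy (hyp v hv.1)⟩ }
  have hdiff : ∀ w, polar Q y w = 0 → SiegIn Q M y w → ∀ m ∈ M, m y = y → m w - w ∈ D p → m w - w ∈ A := by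
    intro w hw hSw m hm hmy hmem
    refine ⟨hmem, ?_⟩
    have h1 := hSw.conj hm (c.mem_orth' hm)
    rw [hmy] at h1
    rw [sub_eq_add_neg]
    exact h1.add (hSw.neg hy hw) hy (by rw [← hmy, orth_polar (c.mem_orth' hm), hw]) (by rw [polar_neg_right, hw, neg_zero])
  obtain ⟨a, ha, b, hb, hQa, hQb, hab, hba⟩ := c.two.exists_rot_pair p (one_ne_zero (α := F))
  have hQa0 : Q a ≠ 0 := by rw [hQa]; exact one_ne_zero
  have hQb0 : Q b ≠ 0 := by rw [hQb]; exact one_ne_zero
  have hm := c.pair_mem ha hb hQa0 hQb0 (by rw [hQa, hQb])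
  have hz₀ : refl Q a hQa0 (refl Q b hQb0 z) - z =
      (-((Q a)⁻¹ * polar Q (refl Q b hQb0 z) a)) • a + (-((Q b)⁻¹ * polar Q z b)) • b := by
    rw [refl_apply Q a, refl_apply Q b]; module
  have hne : refl Q a hQa0 (refl Q b hQb0 z) - z ≠ 0 := by
    intro e
    rw [hz₀] at e
    have ha0 : a ≠ 0 := fun e' => hQa0 (by rw [e', QuadraticMap.map_zero])
    have h1 : (Q b)⁻¹ * polar Q z b = 0 := by
      by_contra h1
      refine hba (Submodule.mem_span_singleton.2 ⟨-((Q b)⁻¹ * polar Q z b)⁻¹ * ((Q a)⁻¹ * polar Q (refl Q b hQb0 z) a), ?_⟩)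
      have : ((Q a)⁻¹ * polar Q (refl Q b hQb0 z) a) • a = -(((Q b)⁻¹ * polar Q z b) • b) := by
        linear_combination (norm := module) -e
      rw [mul_smul, this, smul_neg, neg_smul, neg_neg, smul_smul, inv_mul_cancel₀ h1, one_smul]
    rw [h1, neg_zero, zero_smul, add_zero, smul_eq_zero, neg_eq_zero] at e
    have h2 := e.resolve_right ha0
    have hzb : polar Q z b = 0 := (mul_eq_zero.1 h1).resolve_left (inv_ne_zero hQb0)
    rw [refl_apply, h1, zero_smul, sub_zero] at h2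
    have hza : polar Q z a = 0 := (mul_eq_zero.1 h2).resolve_left (inv_ne_zero hQa0)
    exact hzp (c.two.eq_zero_of_polar ha hb ha0 hba (h.pr_mem p z)
      (by rw [h.polar_pr ha, QuadraticMap.polar_comm, hza]) (by rw [h.polar_pr hb, QuadraticMap.polar_comm, hzb]))
  have hA0 : refl Q a hQa0 (refl Q b hQb0 z) - z ∈ A := by
    refine hdiff z hyz hS _ hm ?_ (?_ : refl Q a hQa0 (refl Q b hQb0 z) - z ∈ D p)
    · show refl Q a hQa0 (refl Q b hQb0 y) = y
      rw [refl_eq_self Q b hQb0 (hyp b hb), refl_eq_self Q a hQa0 (hyp a ha)]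
    · rw [hz₀]; exact (D p).add_mem ((D p).smul_mem _ ha) ((D p).smul_mem _ hb)
  have hall := c.two.sweep_two A (fun v hv => hv.1) ?_ hA0 hne
  · intro v hv t
    exact (hall _ ((D p).smul_mem t hv)).2
  intro e he hQe x hx
  obtain ⟨q, hq, d, hd, hQd, hyd⟩ := hsp.1 (Q e) hQe
  have hQd0 : Q d ≠ 0 := by rw [hQd]; exact hQe
  have hme : refl Q e hQe (refl Q d hQd0 x) - x = -(((Q e)⁻¹ * polar Q x e) • e) := by
    rw [refl_eq_self Q d hQd0 (h.orth p q (Ne.symm hq) x hx.1 d hd), refl_apply]; module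
  have h1 := hdiff x (hyp x hx.1) hx.2 _ (c.pair_mem he hd hQe hQd0 hQd) (by
      show refl Q e hQe (refl Q d hQd0 y) = y
      rw [refl_eq_self Q d hQd0 hyd, refl_eq_self Q e hQe (hyp e he)])
    (show refl Q e hQe (refl Q d hQd0 x) - x ∈ D p by rw [hme]; exact (D p).neg_mem ((D p).smul_mem _ he))
  rw [show (refl Q e hQe * refl Q d hQd0) x - x = refl Q e hQe (refl Q d hQd0 x) - x from rfl, hme] at h1
  simpa using A.neg_mem h1

include c in
/-- Two orthogonal points with root groups to a common part are joined. -/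
theorem root_join {y y' : V} {p : κ} (hy : Q y = 0) (hy' : Q y' = 0) (hyy : polar Q y y' = 0)
    (h1 : RootPart Q M D y p) (h2 : RootPart Q M D y' p) (hyp : prPart c.two.parts p y = 0)
    (hy'p : prPart c.two.parts p y' = 0) : RootIn Q M y' y := by
  obtain ⟨u, hu, v, hv, hQu, hQv, huv, -⟩ := c.two.exists_rot_pair p (one_ne_zero (α := F))
  have hg : siegel Q y v hy (c.perp_pr hv hyp) ∈ M := (h1 v hv).one hy _
  have hd := (h2 u hu).diff (d := (-polar Q u v) • y) hg (siegel_mem_orth Q y v hy _) hy' (c.perp_pr hu hy'p) ?_ ?_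
  · have h3 := hd.smul (-polar Q u v)⁻¹
    rwa [smul_smul, inv_mul_cancel₀ (neg_ne_zero.2 huv), one_smul] at h3
  · rw [siegel_apply, QuadraticMap.polar_comm Q y' y, hyy, c.perp_pr hv hy'p]; module
  · rw [siegel_apply, QuadraticMap.polar_comm Q u y, c.perp_pr hu hyp]; module

include c in
/-- The difference of two such points. -/
theorem root_sub {y y' : V} {p : κ} (hy : Q y = 0) (hy' : Q y' = 0) (hyy : polar Q y y' = 0)
    (h1 : RootPart Q M D y p) (h2 : RootPart Q M D y' p) (hyp : prPart c.two.parts p y = 0)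
    (hy'p : prPart c.two.parts p y' = 0) : RootPart Q M D (y' - y) p := by
  intro v hv t
  have hny : Q (-y) = 0 := by rw [QuadraticMap.map_neg, hy]
  have hyv : polar Q y (t • v) = 0 := c.perp_pr ((D p).smul_mem t hv) hyp
  have hy'v : polar Q y' (t • v) = 0 := c.perp_pr ((D p).smul_mem t hv) hy'p
  have hj : RootIn Q M y' (-y) := by simpa using (c.root_join hy hy' hyy h1 h2 hyp hy'p).smul (-1)
  rw [sub_eq_add_neg]
  refine siegIn_add_left hy' hny (by rw [polar_neg_right, QuadraticMap.polar_comm, hyy, neg_zero]) hy'v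
    (by rw [polar_neg_left, hyv, neg_zero]) (h2 v hv t) (siegel_neg_left hy ?_) (hj _)
  simpa using h1 v hv (-t)

include c in
theorem rootPart_image {y : V} {p : κ} (hR : RootPart Q M D y p) {m : V ≃ₗ[F] V} (hm : m ∈ M)
    (hfix : ∀ v ∈ D p, m v = v) : RootPart Q M D (m y) p := fun v hv t => by
  have := ((hR v hv) t).conj hm (c.mem_orth' hm)
  rwa [map_smul, hfix v hv] at this

include c in
/-- Moving the part of the second vectors. -/
theorem rootPart_swap {y : V} {p q : κ} (hR : RootPart Q M D y p) (hyp : prPart c.two.parts p y = 0)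
    (hyq : prPart c.two.parts q y = 0) : RootPart Q M D y q := by
  by_cases hpq : p = q
  · rwa [← hpq]
  have h := c.two.parts
  obtain ⟨g, hg, hgk, hgp, hgq, hgfix⟩ := exists_part_swap h c.rank c.iso (fun l => (c.two.two l).ge) (i := p) (j := q) hpq
  have hgM := c.stab g hg hgk
  have hgy : g y = y := by
    conv_lhs => rw [← h.sum_pr y, map_sum]
    conv_rhs => rw [← h.sum_pr y]
    refine Finset.sum_congr rfl fun l _ => ?_
    by_cases hl : l = p
    · rw [hl, hyp, map_zero]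
    by_cases hl' : l = q
    · rw [hl', hyq, map_zero]
    exact hgfix l hl hl' _ (h.pr_mem l y)
  intro v hv t
  have h1 := ((hR (g v) (hgq v hv)) t).conj (inv_mem hgM) (inv_mem (siegelGroup_le_orth hg))
  have e1 : g⁻¹ y = y := by show g.symm y = y; rw [LinearEquiv.symm_apply_eq, hgy]
  have e2 : g⁻¹ (t • g v) = t • v := by show g.symm (t • g v) = t • v; rw [LinearEquiv.symm_apply_eq, map_smul]
  rwa [e1, e2] at h1

include c in
/-- The displacement of four reflections. -/
theorem four_apply {i j i' j' : κ} {b b' d d' : V} (hb : b ∈ D i) (hb' : b' ∈ D j) (hd : d ∈ D i') (hd' : d' ∈ D j')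
    (hij : i ≠ j) (hii : i' ≠ i) (hij' : i' ≠ j) (hji : j' ≠ i) (hjj : j' ≠ j)
    (hQb : Q b ≠ 0) (hQb' : Q b' ≠ 0) (hQd : Q d ≠ 0) (hQd' : Q d' ≠ 0) {x : V}
    (hxd : polar Q x d = 0) (hxd' : polar Q x d' = 0) :
    refl Q b hQb (refl Q b' hQb' (refl Q d hQd (refl Q d' hQd' x))) =
      x - ((Q b)⁻¹ * polar Q x b) • b - ((Q b')⁻¹ * polar Q x b') • b' := by
  rw [refl_eq_self Q d' hQd' hxd', refl_eq_self Q d hQd hxd, refl_apply Q b' hQb', refl_apply Q b hQb, polar_sub_left,
    polar_smul_left', QuadraticMap.polar_comm Q b' b, c.two.parts.orth i j hij b hb b' hb']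
  module

include c in
/-- Reducing the support to two parts. -/
theorem exists_small {y : V} {p : κ} (hy : Q y = 0) (hy0 : y ≠ 0) (hR : RootPart Q M D y p)
    (hp : prPart c.two.parts p y = 0) (hsp : Spare (h := c.two.parts) y p) :
    ∃ r j o, Q r = 0 ∧ r ≠ 0 ∧ j ≠ o ∧ p ≠ j ∧ p ≠ o ∧ RootPart Q M D r p ∧
      ∀ l, l ≠ j → l ≠ o → prPart c.two.parts l r = 0 := by
  classical
  have h := c.two.parts
  obtain ⟨j, hj⟩ : ∃ j, prPart h j y ≠ 0 := by
    by_contra hc
    push Not at hc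
    exact hy0 (h.ext_pr fun l => by rw [hc l, map_zero])
  by_cases h3 : ∃ o, o ≠ j ∧ prPart h o y ≠ 0
  swap
  · push Not at h3
    have hjp : p ≠ j := fun e => hj (e ▸ hp)
    obtain ⟨o, ho⟩ := exists_notMem_finset ({j, p} : Finset κ) (Finset.card_le_two.trans_lt (by have := c.seven; omega))
    simp only [Finset.mem_insert, Finset.mem_singleton, not_or] at ho
    exact ⟨y, j, o, hy, hy0, Ne.symm ho.1, hjp, Ne.symm ho.2, hR, fun l hl _ => h3 l hl⟩
  obtain ⟨o, hoj, ho⟩ := h3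
  obtain ⟨j, o, q, q', hoj, hj, ho, hqj, hqo, hqp, hq'j, hq'o, hq'p, d₀, hd₀, d₀', hd₀', hd₀0, hQd₀, hyd₀, hyd₀'⟩ :=
    hsp.2 j o hoj hj ho
  have hjp : p ≠ j := fun e => hj (e ▸ hp)
  have hop : p ≠ o := fun e => ho (e ▸ hp)
  obtain ⟨b, hb, b', hb', hub, hvb, hQb, hQb'⟩ :=
    c.two.exists_opp_pair c.iso (h.pr_mem j y) (h.pr_mem o y) hj ho
  have hb'0 : Q b' ≠ 0 := by rw [hQb']; exact neg_ne_zero.2 hQb
  obtain ⟨d, hd, hd0, hyd, hdd⟩ : ∃ d, d ∈ D q ∧ Q d ≠ 0 ∧ polar Q y d = 0 ∧ d = d₀ := ⟨d₀, hd₀, hd₀0, hyd₀, rfl⟩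
  obtain ⟨d', hd', hd'0, hyd', hdd'⟩ : ∃ d', d' ∈ D q' ∧ Q d' ≠ 0 ∧ polar Q y d' = 0 ∧ d' = d₀' :=
    ⟨d₀', hd₀', by rw [hQd₀]; exact neg_ne_zero.2 hd₀0, hyd₀', rfl⟩
  have hm := c.four_mem hb hb' hd hd' hQb hb'0 hd0 hd'0 ⟨Q b * Q d, by rw [hQb', hdd, hdd', hQd₀]; ring⟩
  set m := refl Q b hQb * refl Q b' hb'0 * refl Q d hd0 * refl Q d' hd'0
  have hyb : polar Q y b = 1 := by rw [← h.polar_pr' hb]; exact hub
  have hyb' : polar Q y b' = 1 := by rw [← h.polar_pr' hb']; exact hvb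
  have hmy : m y = y + (Q b)⁻¹ • (b' - b) := by
    show refl Q b hQb (refl Q b' hb'0 (refl Q d hd0 (refl Q d' hd'0 y))) = _
    rw [c.four_apply hb hb' hd hd' hoj.symm hqj hqo hq'j hq'o hQb hb'0 hd0 hd'0 hyd hyd', hyb, hyb', hQb', inv_neg]
    module
  have hfix : ∀ v ∈ D p, m v = v := fun v hv => by
    show refl Q b hQb (refl Q b' hb'0 (refl Q d hd0 (refl Q d' hd'0 v))) = v
    rw [refl_eq_self Q d' hd'0 (h.orth p q' (Ne.symm hq'p) v hv d' hd'), refl_eq_self Q d hd0 (h.orth p q (Ne.symm hqp) v hv d hd),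
      refl_eq_self Q b' hb'0 (h.orth p o hop v hv b' hb'), refl_eq_self Q b hQb (h.orth p j hjp v hv b hb)]
  have hpm : prPart h p (m y) = 0 := by
    rw [hmy, map_add, map_smul, map_sub, hp, h.pr_other hop.symm hb', h.pr_other hjp.symm hb]; simp
  have hyy : polar Q y (m y) = 0 := by
    rw [hmy, polar_add_right, polar_smul_right', polar_sub_right, hyb, hyb', polar_self', hy]; ring
  have hQm : Q (m y) = 0 := by rw [mem_orth.1 (c.mem_orth' hm), hy]
  have hR' := c.root_sub hy hQm hyy hR (c.rootPart_image hR hm hfix) hp hpm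
  refine ⟨m y - y, j, o, ?_, fun e => ?_, hoj.symm, hjp, hop, hR', fun l hlj hlo => ?_⟩
  · rw [CfsgLib.Geometry.map_sub', hQm, hy, QuadraticMap.polar_comm, hyy]; ring
  · have h1 := congrArg (prPart h j) e
    rw [hmy, add_sub_cancel_left, map_smul, map_sub, h.pr_other hoj hb', h.pr_of_mem hb, map_zero, zero_sub,
      smul_neg, neg_eq_zero, smul_eq_zero] at h1
    exact h1.elim (inv_ne_zero hQb) (fun e' => hQb (by rw [e', QuadraticMap.map_zero]))
  · rw [hmy, add_sub_cancel_left, map_smul, map_sub, h.pr_other (Ne.symm hlj) hb, h.pr_other (Ne.symm hlo) hb']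
    simp

include c in
/-- A singular vector of a part is full. -/
theorem top_of_single {e : V} {j p : κ} (he : e ∈ D j) (he0 : e ≠ 0) (hQe : Q e = 0) (hpj : p ≠ j)
    (hR : RootPart Q M D e p) : siegelGroup Q ≤ M := by
  have h := c.two.parts
  have hall : ∀ q, q ≠ j → RootPart Q M D e q := fun q hq =>
    c.rootPart_swap hR (h.pr_other hpj.symm he) (h.pr_other hq.symm he)
  have hfull : Full Q M e := by
    intro w he' hw
    have hmem : ∀ l, prPart h l w ∈ rootSpace Q M hQe := fun l => by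
      by_cases hl : l = j
      · subst hl
        have hp0 : polar Q e (prPart h l w) = 0 := by rw [h.polar_pr he]; exact hw
        have hwm : prPart h l w ∈ Submodule.span F {e} := by
          by_contra hne
          exact he0 (c.two.eq_zero_of_polar he (h.pr_mem l w) he0 hne he (by rw [polar_self', hQe, mul_zero])
            (by rw [QuadraticMap.polar_comm]; exact hp0))
        obtain ⟨k, hk⟩ := Submodule.mem_span_singleton.1 hwm
        exact ⟨hp0, hk ▸ (root_self hQe).smul k⟩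
      · exact ⟨h.orth j l (Ne.symm hl) e he _ (h.pr_mem l w), hall l hl _ (h.pr_mem l w)⟩
    have hsum : w ∈ rootSpace Q M hQe := h.sum_pr w ▸ Submodule.sum_mem _ fun l _ => hmem l
    exact hsum.2.one he' hw
  obtain ⟨f, hf, hQf, hef⟩ := h.exists_partner_in he he0 hQe
  obtain ⟨d, hd, hQd⟩ := c.two.exists_value p (-1 : F)
  have hQb : Q (e - f) = -1 := by rw [CfsgLib.Geometry.map_sub', hQe, hQf, hef]; ring
  have hQb0 : Q (e - f) ≠ 0 := by rw [hQb]; simp
  have hQd0 : Q d ≠ 0 := by rw [hQd]; simp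
  have hm := c.pair_mem ((D j).sub_mem he hf) hd hQb0 hQd0 (by rw [hQb, hQd])
  have hmf : (refl Q (e - f) hQb0 * refl Q d hQd0) e = f := by
    show refl Q (e - f) hQb0 (refl Q d hQd0 e) = f
    rw [refl_eq_self Q d hQd0 (h.orth j p hpj.symm e he d hd), refl_apply, hQb, polar_sub_right, polar_self', hQe,
      hef, inv_neg, inv_one]
    module
  exact siegelGroup_le_of_full h.gram hQe hQf hef hfull (hmf ▸ hfull.image hm (c.mem_orth' hm))

include c in
theorem plane_singular {l : κ} {e x x' : V} (he : e ∈ D l) (hx : x ∈ D l) (hx' : x' ∈ D l) (he0 : e ≠ 0)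
    (hQe : Q e = 0) (hQx : Q x = 0) (hQx' : Q x' = 0) (hxe : x ∉ Submodule.span F {e})
    (hx'e : x' ∉ Submodule.span F {e}) : ∃ t : F, x' = t • x := by
  obtain ⟨s, t, rfl⟩ := c.two.indep_span he hx he0 hxe hx'
  have hne : polar Q e x ≠ 0 := fun h0 => he0 (c.two.eq_zero_of_polar he hx he0 hxe he
    (by rw [polar_self', hQe, mul_zero]) (by rw [QuadraticMap.polar_comm]; exact h0))
  rw [CfsgLib.Geometry.map_add', CfsgLib.Geometry.map_smul', CfsgLib.Geometry.map_smul', hQe, hQx, polar_smul_left',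
    polar_smul_right'] at hQx'
  have h1 : s * t = 0 := (mul_eq_zero.1 (show s * t * polar Q e x = 0 by linear_combination hQx')).resolve_right hne
  rcases mul_eq_zero.1 h1 with h2 | h2
  · exact ⟨t, by rw [h2, zero_smul, zero_add]⟩
  · exact absurd (Submodule.mem_span_singleton.2 ⟨s, by rw [h2, zero_smul, add_zero]⟩) hx'e

include c in
/-- A rotation of a part: no fixed vector, preserving singular lines. -/
theorem exists_rot (l : κ) : ∃ ρ ∈ M, (∀ v ∈ D l, ρ v ∈ D l) ∧ (∀ v, prPart c.two.parts l v = 0 → ρ v = v) ∧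
    (∀ v ∈ D l, ρ v = v → v = 0) ∧ (∃ v ∈ D l, ρ (ρ v) ≠ v) ∧
    ∀ e ∈ D l, Q e = 0 → ∃ μ : F, ρ e = μ • e := by
  obtain ⟨a, ha, b, hb, hQa, hQb, hab, hba⟩ := c.two.exists_rot_pair l (one_ne_zero (α := F))
  have hQa0 : Q a ≠ 0 := by rw [hQa]; exact one_ne_zero
  have hQb0 : Q b ≠ 0 := by rw [hQb]; exact one_ne_zero
  have ha0 : a ≠ 0 := fun e => hQa0 (by rw [e, QuadraticMap.map_zero])
  have hb0 : b ≠ 0 := fun e => hQb0 (by rw [e, QuadraticMap.map_zero])
  have hindep : ∀ s t : F, s • a + t • b = 0 → s = 0 ∧ t = 0 := fun s t e => by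
    by_cases ht : t = 0
    · subst ht
      rw [zero_smul, add_zero, smul_eq_zero] at e
      exact ⟨e.resolve_right ha0, rfl⟩
    · exact absurd (Submodule.mem_span_singleton.2 ⟨-(t⁻¹ * s), by
        have h2 : t • b = (-s) • a := by linear_combination (norm := module) e
        rw [show b = t⁻¹ • (t • b) by rw [smul_smul, inv_mul_cancel₀ ht, one_smul], h2]; module⟩) hba
  refine ⟨_, c.pair_mem ha hb hQa0 hQb0 (by rw [hQa, hQb]), fun v hv => ?_, fun v hv => ?_, fun v hv hfix => ?_,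
    ⟨a, ha, fun e => ?_⟩, fun e he hQe => ?_⟩
  · show refl Q a hQa0 (refl Q b hQb0 v) ∈ D l
    rw [refl_apply, refl_apply Q b]
    exact (D l).sub_mem ((D l).sub_mem hv ((D l).smul_mem _ hb)) ((D l).smul_mem _ ha)
  · show refl Q a hQa0 (refl Q b hQb0 v) = v
    rw [refl_eq_self Q b hQb0 (c.perp_pr hb hv), refl_eq_self Q a hQa0 (c.perp_pr ha hv)]
  · have h1 : refl Q a hQa0 v = refl Q b hQb0 v := by
      conv_lhs => rw [show v = refl Q a hQa0 (refl Q b hQb0 v) from hfix.symm]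
      exact reflMap_reflMap Q hQa0 _
    rw [refl_apply, refl_apply, hQa, hQb] at h1
    obtain ⟨h2, h3⟩ := hindep (-((1 : F)⁻¹ * polar Q v a)) ((1 : F)⁻¹ * polar Q v b)
      (by linear_combination (norm := module) h1)
    simp at h2 h3
    exact c.two.eq_zero_of_polar ha hb ha0 hba hv (by rw [QuadraticMap.polar_comm]; exact h2)
      (by rw [QuadraticMap.polar_comm]; exact h3)
  · obtain ⟨s, hs⟩ : ∃ s, s = polar Q a b := ⟨_, rfl⟩
    change refl Q a hQa0 (refl Q b hQb0 (refl Q a hQa0 (refl Q b hQb0 a))) = a at e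
    simp only [refl_apply, hQa, hQb, inv_one, one_mul, polar_sub_left, polar_smul_left', polar_self',
      QuadraticMap.polar_comm Q b a, ← hs] at e
    have h2 := congrArg (fun w => w - a) e
    obtain ⟨h3, h4⟩ := hindep (s * s * s * s - 3 * (s * s)) (-(s * s * s) + 2 * s) (by
      simp only [sub_self] at h2
      linear_combination (norm := (match_scalars <;> ring)) h2)
    have hss : s * s = 2 := by
      have : s * (2 - s * s) = 0 := by linear_combination h4
      exact (sub_eq_zero.1 ((mul_eq_zero.1 this).resolve_left (hs ▸ hab))).symm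
    have h2' : (2 : F) = 0 := by linear_combination -h3 + (s * s - 1) * hss
    rw [h2'] at hss
    exact hab (hs ▸ mul_self_eq_zero.1 hss)
  · by_cases he0 : e = 0
    · exact ⟨1, by rw [he0, map_zero, smul_zero]⟩
    have hout : ∀ x ∈ D l, ∀ hx : Q x ≠ 0, refl Q x hx e ∉ Submodule.span F {e} := fun x hx hQx hm => by
      rw [refl_apply] at hm
      have h1 := Submodule.sub_mem _ (Submodule.mem_span_singleton_self e) hm
      rw [sub_sub_cancel] at h1
      obtain ⟨k, hk⟩ := Submodule.mem_span_singleton.1 h1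
      have hp : (Q x)⁻¹ * polar Q e x = 0 := by
        by_contra hne
        apply hQx
        have : x = ((Q x)⁻¹ * polar Q e x)⁻¹ • k • e := by rw [hk, smul_smul, inv_mul_cancel₀ hne, one_smul]
        rw [this, CfsgLib.Geometry.map_smul', CfsgLib.Geometry.map_smul', hQe, mul_zero, mul_zero]
      exact he0 (c.two.perp_singular hx he hQx (by
        rw [QuadraticMap.polar_comm]; exact (mul_eq_zero.1 hp).resolve_left (inv_ne_zero hQx)) hQe)
    have hQra : Q (refl Q a hQa0 e) = 0 := by rw [mem_orth.1 (refl_mem_orth Q a hQa0), hQe]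
    have hQrb : Q (refl Q b hQb0 e) = 0 := by rw [mem_orth.1 (refl_mem_orth Q b hQb0), hQe]
    have hma : refl Q a hQa0 e ∈ D l := by rw [refl_apply]; exact (D l).sub_mem he ((D l).smul_mem _ ha)
    have hmb : refl Q b hQb0 e ∈ D l := by rw [refl_apply]; exact (D l).sub_mem he ((D l).smul_mem _ hb)
    obtain ⟨t, ht⟩ := c.plane_singular he hma hmb he0 hQe hQra hQrb (hout a ha hQa0) (hout b hb hQb0)
    refine ⟨t, ?_⟩
    show refl Q a hQa0 (refl Q b hQb0 e) = t • e
    rw [ht, map_smul]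
    congr 1
    exact reflMap_reflMap Q hQa0 e

include c in
/-- A point of two-part support with a root group to a further part. -/
theorem top_of_small {y : V} {j o p : κ} (hy : Q y = 0) (hy0 : y ≠ 0) (hjo : j ≠ o) (hpj : p ≠ j) (hpo : p ≠ o)
    (hR : RootPart Q M D y p) (hsupp : ∀ l, l ≠ j → l ≠ o → prPart c.two.parts l y = 0) : siegelGroup Q ≤ M := by
  classical
  have h := c.two.parts
  set u := prPart h j y
  set v := prPart h o y
  have hu : u ∈ D j := h.pr_mem j y
  have hv : v ∈ D o := h.pr_mem o y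
  have hyuv : y = u + v := h.ext_pr fun l => by
    rw [map_add]
    by_cases hlj : l = j
    · subst hlj; rw [h.pr_of_mem hu, h.pr_other hjo.symm hv, add_zero]
    by_cases hlo : l = o
    · subst hlo; rw [h.pr_of_mem hv, h.pr_other hjo hu, zero_add]
    rw [hsupp l hlj hlo, h.pr_other (Ne.symm hlj) hu, h.pr_other (Ne.symm hlo) hv, add_zero]
  have hQuv : Q u + Q v = 0 := by rw [← hy, hyuv, CfsgLib.Geometry.map_add', h.orth j o hjo u hu v hv, add_zero]
  by_cases hu0 : u = 0
  · have hyD : y ∈ D o := by rw [hyuv, hu0, zero_add]; exact hv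
    exact c.top_of_single hyD hy0 hy hpo hR
  by_cases hv0 : v = 0
  · have hyD : y ∈ D j := by rw [hyuv, hv0, add_zero]; exact hu
    exact c.top_of_single hyD hy0 hy hpj hR
  by_cases hQu : Q u = 0
  · obtain ⟨ρ, hρ, hρD, hρfix, hρ1, -, hρe⟩ := c.exists_rot j
    obtain ⟨μ, hμ⟩ := hρe u hu hQu
    have hρy : ρ y = μ • u + v := by rw [hyuv, map_add, hμ, hρfix v (h.pr_other hjo.symm hv)]
    have hfix : ∀ w ∈ D p, ρ w = w := fun w hw => hρfix w (h.pr_other hpj hw)
    have hyy : polar Q y (ρ y) = 0 := by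
      rw [hρy, hyuv, polar_add_left, polar_add_right, polar_add_right, polar_smul_right', polar_smul_right',
        polar_self', polar_self', h.orth j o hjo u hu v hv, h.orth o j hjo.symm v hv u hu, hQu,
        show Q v = 0 by linear_combination hQuv - hQu]
      ring
    have hQr : Q (ρ y) = 0 := by rw [mem_orth.1 (c.mem_orth' hρ), hy]
    have hpr : prPart h p (ρ y) = 0 := by
      rw [hρy, map_add, map_smul, h.pr_other hpj.symm hu, h.pr_other hpo.symm hv, smul_zero, add_zero]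
    have hR' := c.root_sub hy hQr hyy hR (c.rootPart_image hR hρ hfix) (hsupp p hpj hpo) hpr
    have he : ρ y - y = (μ - 1) • u := by rw [hρy, hyuv]; module
    rw [he] at hR'
    refine c.top_of_single ((D j).smul_mem _ hu) (fun e => ?_) (by rw [CfsgLib.Geometry.map_smul', hQu, mul_zero]) hpj hR'
    refine hu0 (hρ1 u hu ?_)
    rw [hμ, sub_eq_zero.1 ((smul_eq_zero.1 e).resolve_right hu0), one_smul]
  have hQv : Q v ≠ 0 := fun e => hQu (by linear_combination hQuv - e)
  obtain ⟨ψ, hψu, hψ⟩ := c.two.exists_sim_between c.iso hu hQu hv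
  have hψ' : ∀ x ∈ D j, Q (ψ x) = -1 * Q x := fun x hx => by
    rw [(hψ x hx).2, show Q v = -Q u by linear_combination hQuv]; field_simp
  have hψp : ∀ x ∈ D j, ∀ z ∈ D j, polar Q (ψ x) (ψ z) = -1 * polar Q x z := fun x hx z hz => TwoParts.polar_sim hψ' hx hz
  have hRq : ∀ q, q ≠ j → q ≠ o → RootPart Q M D y q := fun q hqj hqo =>
    c.rootPart_swap hR (hsupp p hpj hpo) (hsupp q hqj hqo)
  obtain ⟨q, hq⟩ := exists_notMem_finset ({j, o, p} : Finset κ) (Finset.card_le_three.trans_lt (by have := c.seven; omega))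
  simp only [Finset.mem_insert, Finset.mem_singleton, not_or] at hq
  let X := rootSpace Q M hy
  have hyX : y ∈ X := ⟨by rw [polar_self', hy, mul_zero], root_self hy⟩
  have key : ∀ (φ : V →ₗ[F] V), φ u = v → (∀ x ∈ D j, φ x ∈ D o ∧ Q (φ x) = -1 * Q x) → ∀ x ∈ D j, x + φ x ∈ X := by
    intro φ hφu hφ
    obtain ⟨d, hd, hQd, hud, hdu⟩ := c.two.exists_nonperp hu hu0 (one_ne_zero (α := F))
    have hQd0 : Q d ≠ 0 := by rw [hQd]; exact one_ne_zero
    have hQφ : Q (φ d) = -1 := by rw [(hφ d hd).2, hQd]; ring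
    have hQφ0 : Q (φ d) ≠ 0 := by rw [hQφ]; simp
    obtain ⟨e, he, hQe⟩ := c.two.exists_value q (1 : F)
    obtain ⟨e', he', hQe'⟩ := c.two.exists_value q (-1 : F)
    have he0 : Q e ≠ 0 := by rw [hQe]; exact one_ne_zero
    have he'0 : Q e' ≠ 0 := by rw [hQe']; simp
    have hm := c.four_mem hd (hφ d hd).1 he he' hQd0 hQφ0 he0 he'0 ⟨1, by rw [hQd, hQφ, hQe, hQe']; ring⟩
    set m := refl Q d hQd0 * refl Q (φ d) hQφ0 * refl Q e he0 * refl Q e' he'0
    have hyd : polar Q y d = polar Q u d := (h.polar_pr' hd y).symm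
    have hyφ : polar Q y (φ d) = -polar Q u d := by
      rw [← h.polar_pr' (hφ d hd).1]
      show polar Q v (φ d) = _
      rw [← hφu, TwoParts.polar_sim (fun x hx => (hφ x hx).2) hu hd]; ring
    have hmy : m y = y + (-polar Q u d) • (d + φ d) := by
      show refl Q d hQd0 (refl Q (φ d) hQφ0 (refl Q e he0 (refl Q e' he'0 y))) = _
      rw [c.four_apply hd (hφ d hd).1 he he' hjo hq.1 hq.2.1 hq.1 hq.2.1 hQd0 hQφ0 he0 he'0
        (c.perp_pr he (hsupp q hq.1 hq.2.1)) (c.perp_pr he' (hsupp q hq.1 hq.2.1)), hyd, hyφ, hQd, hQφ, inv_neg, inv_one]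
      module
    have hfix : ∀ w ∈ D p, m w = w := fun w hw => by
      show refl Q d hQd0 (refl Q (φ d) hQφ0 (refl Q e he0 (refl Q e' he'0 w))) = w
      rw [refl_eq_self Q e' he'0 (h.orth p q (Ne.symm hq.2.2) w hw e' he'), refl_eq_self Q e he0 (h.orth p q (Ne.symm hq.2.2) w hw e he),
        refl_eq_self Q (φ d) hQφ0 (h.orth p o hpo w hw _ (hφ d hd).1), refl_eq_self Q d hQd0 (h.orth p j hpj w hw d hd)]
    have hyy : polar Q y (m y) = 0 := by
      rw [hmy, polar_add_right, polar_smul_right', polar_add_right, hyd, hyφ, polar_self', hy]; ring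
    have hQm : Q (m y) = 0 := by rw [mem_orth.1 (c.mem_orth' hm), hy]
    have hpm : prPart h p (m y) = 0 := by
      rw [hmy, map_add, map_smul, map_add, hsupp p hpj hpo, h.pr_other hpj.symm hd, h.pr_other hpo.symm (hφ d hd).1]
      simp
    have hJ := c.root_join hy hQm hyy hR (c.rootPart_image hR hm hfix) (hsupp p hpj hpo) hpm
    have hmX : m y ∈ X := ⟨hyy, hJ.swap hQm hy (by rw [QuadraticMap.polar_comm]; exact hyy)⟩
    have hdX : d + φ d ∈ X := by
      have h1 := X.smul_mem (-polar Q u d)⁻¹ (X.sub_mem hmX hyX)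
      rwa [hmy, add_sub_cancel_left, smul_smul, inv_mul_cancel₀ (neg_ne_zero.2 hud), one_smul] at h1
    intro x hx
    obtain ⟨s, t, rfl⟩ := c.two.indep_span hu hd hu0 hdu hx
    have h1 := X.add_mem (X.smul_mem s hyX) (X.smul_mem t hdX)
    convert h1 using 1
    rw [map_add, map_smul, map_smul, hφu, hyuv]
    module
  have hψX := key ψ hψu fun x hx => ⟨(hψ x hx).1, hψ' x hx⟩
  obtain ⟨w₀, hw₀, hw₀0, huw₀⟩ := c.two.exists_perp (l := j) u
  have hQw₀ : Q w₀ ≠ 0 := fun e => hw₀0 (c.two.perp_singular hu hw₀ hQu huw₀ e)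
  set w := ψ w₀
  have hwD : w ∈ D o := (hψ w₀ hw₀).1
  have hQw : Q w ≠ 0 := by rw [hψ' w₀ hw₀]; simpa using hQw₀
  have hvw : polar Q v w = 0 := by rw [← hψu, hψp u hu w₀ hw₀, huw₀, mul_zero]
  have hψX' := key ((refl Q w hQw).toLinearMap ∘ₗ ψ)
    (by show refl Q w hQw (ψ u) = v; rw [hψu, refl_eq_self Q w hQw hvw]) (fun x hx => ⟨?_, ?_⟩)
  rotate_left
  · show refl Q w hQw (ψ x) ∈ D o
    rw [refl_apply]; exact (D o).sub_mem (hψ x hx).1 ((D o).smul_mem _ hwD)
  · show Q (refl Q w hQw (ψ x)) = _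
    rw [mem_orth.1 (refl_mem_orth Q w hQw)]; exact hψ' x hx
  have hwX : w ∈ X := by
    obtain ⟨d, hd, hQd, hud, hdu⟩ := c.two.exists_nonperp hu hu0 (one_ne_zero (α := F))
    have h1 := X.sub_mem (hψX d hd) (hψX' d hd)
    change d + ψ d - (d + refl Q w hQw (ψ d)) ∈ X at h1
    rw [refl_apply, show d + ψ d - (d + (ψ d - ((Q w)⁻¹ * polar Q (ψ d) w) • w)) = ((Q w)⁻¹ * polar Q (ψ d) w) • w by module] at h1
    have hne : (Q w)⁻¹ * polar Q (ψ d) w ≠ 0 := by
      refine mul_ne_zero (inv_ne_zero hQw) ?_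
      rw [hψp d hd w₀ hw₀, neg_one_mul, neg_ne_zero]
      intro e
      exact hw₀0 (c.two.eq_zero_of_polar hu hd hu0 hdu hw₀ huw₀ e)
    have h2 := X.smul_mem ((Q w)⁻¹ * polar Q (ψ d) w)⁻¹ h1
    rwa [smul_smul, inv_mul_cancel₀ hne, one_smul] at h2
  have hfull : Full Q M y := by
    intro z he hz
    have h1 := hψX _ (h.pr_mem j z)
    obtain ⟨z', hz'⟩ : ∃ z', z' = prPart h o z - ψ (prPart h j z) := ⟨_, rfl⟩
    have hz'D : z' ∈ D o := hz' ▸ (D o).sub_mem (h.pr_mem o z) (hψ _ (h.pr_mem j z)).1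
    have hvz : polar Q v z' = 0 := by
      rw [hz', polar_sub_right, h.polar_pr hv, ← hψu, hψp u hu _ (h.pr_mem j z), h.polar_pr hu, hψu]
      rw [hyuv, polar_add_left] at hz
      linear_combination hz
    have hz'X : z' ∈ X := by
      by_cases hm : z' ∈ Submodule.span F {w}
      · obtain ⟨k, hk⟩ := Submodule.mem_span_singleton.1 hm
        exact hk ▸ X.smul_mem k hwX
      · exact absurd (c.two.eq_zero_of_polar hwD hz'D (fun e => hQw (by rw [e, QuadraticMap.map_zero])) hm hv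
          (by rw [QuadraticMap.polar_comm]; exact hvw) (by rw [QuadraticMap.polar_comm]; exact hvz)) hv0
    have hrest : ∀ l, l ≠ j → l ≠ o → prPart h l z ∈ X := fun l hlj hlo =>
      ⟨c.perp_pr (h.pr_mem l z) (hsupp l hlj hlo), hRq l hlj hlo _ (h.pr_mem l z)⟩
    have hzX : z ∈ X := by
      rw [← h.sum_pr z, ← Finset.sum_erase_add _ _ (Finset.mem_univ j),
        ← Finset.sum_erase_add _ _ (Finset.mem_erase.2 ⟨hjo.symm, Finset.mem_univ o⟩), add_assoc]
      refine X.add_mem (X.sum_mem fun l hl => ?_) ?_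
      · rw [Finset.mem_erase, Finset.mem_erase] at hl; exact hrest l hl.2.1 hl.1
      · convert X.add_mem h1 hz'X using 1
        rw [hz']; abel
    exact hzX.2.one he hz
  obtain ⟨a, ha, hQa, hua, -⟩ := c.two.exists_nonperp hu hu0 (one_ne_zero (α := F))
  obtain ⟨d, hd, hQd⟩ := c.two.exists_value q (1 : F)
  have ha0 : Q a ≠ 0 := by rw [hQa]; exact one_ne_zero
  have hd0 : Q d ≠ 0 := by rw [hQd]; exact one_ne_zero
  have hm := c.pair_mem ha hd ha0 hd0 (by rw [hQa, hQd])
  have hmy : (refl Q a ha0 * refl Q d hd0) y = y - polar Q u a • a := by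
    show refl Q a ha0 (refl Q d hd0 y) = _
    rw [refl_eq_self Q d hd0 (c.perp_pr hd (hsupp q hq.1 hq.2.1)), refl_apply, hQa, inv_one, one_mul, ← h.polar_pr' ha]
  set g := refl Q a ha0 * refl Q d hd0
  have hQg : Q (g y) = 0 := by rw [mem_orth.1 (c.mem_orth' hm), hy]
  have hpol : polar Q y (g y) = -(polar Q u a * polar Q u a) := by
    rw [hmy, polar_sub_right, polar_self', hy, polar_smul_right',
      show polar Q y a = polar Q u a from (h.polar_pr' ha y).symm]; ring
  have hne : polar Q y (g y) ≠ 0 := by rw [hpol]; simpa using hua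
  exact siegelGroup_le_of_full h.gram hy (by rw [CfsgLib.Geometry.map_smul', hQg, mul_zero])
    (by rw [polar_smul_right', inv_mul_cancel₀ hne]) hfull ((hfull.image hm (c.mem_orth' hm)).smul hQg (polar Q y (g y))⁻¹)

include c in
/-- A seed gives everything. -/
theorem top_of_seed (hs : Seed (h := c.two.parts) M) : siegelGroup Q ≤ M := by
  obtain ⟨y, z, p, hy, hy0, hyz, hS, hp, hzp, hsp⟩ := hs
  obtain ⟨r, j, o, hr, hr0, hjo, hpj, hpo, hR, hrs⟩ :=
    c.exists_small hy hy0 (c.rootPart_of_seed hy hyz hS hp hzp hsp) hp hsp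
  exact c.top_of_small hr hr0 hjo hpj hpo hR hrs

end TwoCtx

end CfsgLib.OrthMax
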